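import Cfsg.Agent.J4Cert.Walk

/-!
Each fact of a table follows from earlier facts around a relation.
-/

set_option autoImplicit false

namespace Cfsg.Lib.J4Cert

open Cfsg.Lib.J4Pres

/-- The letters, the permutation and the exponent of a relation. -/
structure Rl where
  L : List ℕ
  πi : ℕ
  b : ℤ

/-- Where a fact comes from. -/
inductive Src where
  | own (c : List ℕ)
  | dfn
  | rl (n k : ℕ) (c : List ℕ) (fw bw : List ℕ) (rev : Bool)
  | root (fw bw : List ℕ) (rev : Bool)

/-- The data of a certificate. -/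
structure Crt where
  base : Tr (ℕ × ℕ)
  nb : ℕ
  rels : List Rl
  rootL : List ℕ
  defs : List (ℕ × List ℕ)
  tab : Tr Fct
  src : Tr Src

/-- The product of base permutations. -/
def Crt.cp (C : Crt) : List ℕ → ℕ
  | [] => idp
  | k :: l => pm (C.base.get k).1 (C.cp l)

/-- The inverse of the product. -/
def Crt.cpi (C : Crt) : List ℕ → ℕ
  | [] => idp
  | k :: l => pm (C.cpi l) (C.base.get k).2

/-- The indices are in range. -/
def Crt.inB (C : Crt) (c : List ℕ) : Bool := c.all fun k => Nat.blt k C.nb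

/-- Equality of integers, by evaluation. -/
def zeq : ℤ → ℤ → Bool
  | .ofNat a, .ofNat b => Nat.beq a b
  | .negSucc a, .negSucc b => Nat.beq a b
  | _, _ => false

/-- The comparison of two walks. -/
def cmpW (F : Fct) (A : St) (ra : List ℕ) (B : St) (rb : List ℕ) (k : ℕ) (rev : Bool) : Bool :=
  let i := k - ra.length
  bif Nat.beq rb.length (i + 1) then
    !rev && Nat.beq F.i A.n && Nat.beq F.j B.n && zeq F.b (B.b - A.b) && (F.x == xor A.x B.x) &&
      !Nat.beq F.r 0 && Nat.beq (pm F.h A.h) B.h && Nat.beq (pm F.hi F.h) idp &&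
      (match ra with
        | [] => false
        | l :: _ => Nat.beq (pm F.r A.h) l)
  else bif Nat.beq rb.length i then
    (let P := bif rev then B else A
     let Q := bif rev then A else B
     Nat.beq F.i P.n && Nat.beq F.j Q.n && zeq F.b (Q.b - P.b) && (F.x == xor P.x Q.x) &&
       Nat.beq F.r 0 && Nat.beq (pm F.h P.h) Q.h && Nat.beq (pm F.hi F.h) idp)
  else false

/-- Two walks around a cycle of letters give the fact. -/
def Crt.both (C : Crt) (k : ℕ) (F : Fct) (n : ℕ) (ls : List ℕ) (start : St) (fw bw : List ℕ) (rev : Bool) : Bool :=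
  fw.all (fun o => Nat.blt (Nat.shiftRight o 1) k) && bw.all (fun o => Nat.blt (Nat.shiftRight o 1) k) &&
  match walk C.tab ⟨n, idp, 0, false⟩ fw ls, walk C.tab start bw ls.reverse with
  | some (A, ra), some (B, rb) => cmpW F A ra B rb ls.length rev
  | _, _ => false

/-- The check of a fact. -/
def Crt.okAt (C : Crt) (k : ℕ) : Bool :=
  let F := C.tab.get k
  match C.src.get k with
  | .own c => C.inB c && Nat.beq F.i 0 && Nat.beq F.j 0 && Nat.beq F.r 0 && zeq F.b 0 && !F.x &&
      Nat.beq F.h (C.cp c) && Nat.beq F.hi (C.cpi c)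
  | .dfn => Nat.ble 1 F.j && Nat.ble F.j C.defs.length && zeq F.b 0 && !F.x && Nat.beq F.h idp && Nat.beq F.hi idp &&
      (match C.defs[F.j - 1]? with
        | none => false
        | some d => C.inB d.2 && Nat.beq F.i d.1 && Nat.blt d.1 F.j && Nat.beq F.r (C.cp d.2))
  | .rl n j c fw bw rev =>
      (match C.rels[j]? with
        | none => false
        | some R => C.inB c &&
            (let q := C.cp c
             C.both k F n (R.L.map fun l => pm l q) ⟨n, pm (pm (C.cpi c) R.πi) q, R.b, false⟩ fw bw rev))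
  | .root fw bw rev => C.both k F 0 C.rootL ⟨0, idp, 0, false⟩ fw bw rev

/-- The checks of a range. -/
def Crt.okRange (C : Crt) (lo : ℕ) : ℕ → Bool
  | 0 => true
  | n + 1 => C.okAt lo && C.okRange (lo + 1) n

/-- The values of the cosets from their definitions. -/
def Crt.vals {X : Type*} [Group X] (C : Crt) (tcv : List ℕ → X) : List X :=
  C.defs.foldl (fun vs d => vs ++ [vs.getD d.1 1 * tcv d.2]) [1]

/-- The hypotheses on the data. -/
structure Crt.Models {X : Type*} [Group X] (C : Crt) (S : Sys X) where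
  baseEl : ℕ → P
  base_ok : ∀ k < C.nb, El (C.base.get k).1 (baseEl k) ∧ El (C.base.get k).2 (baseEl k)⁻¹
  rels_ok : ∀ R ∈ C.rels, ∃ (as : List P) (p : P), List.Forall₂ El R.L as ∧ El R.πi p⁻¹ ∧
    (as.map S.tc).prod * S.f p = S.Z R.b false
  root_ok : ∃ as : List P, List.Forall₂ El C.rootL as ∧ S.Eqv ((as.map S.tc).prod) 1
  range_le : ∀ a, S.f a ∈ S.K
  v_zero : S.v 0 = 1
  v_def : ∀ (m : ℕ) (d : ℕ × List ℕ), C.defs[m]? = some d → d.1 < m + 1 →
    S.v (m + 1) = S.v d.1 * S.tc ((d.2.map baseEl).prod)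

attribute [local irreducible] pm rel idp ap cl

theorem zeq_eq {a b : ℤ} (h : zeq a b = true) : a = b := by
  cases a <;> cases b <;> simp [zeq] at h <;> simp [h]

theorem okRange_sound (C : Crt) : ∀ (n lo : ℕ), C.okRange lo n = true → ∀ k, lo ≤ k → k < lo + n → C.okAt k = true
  | 0, lo, _, k, h1, h2 => by omega
  | n + 1, lo, h, k, h1, h2 => by
    simp only [Crt.okRange, Bool.and_eq_true] at h
    rcases Nat.eq_or_lt_of_le h1 with rfl | hlt
    · exact h.1
    · exact okRange_sound C n (lo + 1) h.2 k hlt (by omega)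

variable {X : Type*} [Group X] {C : Crt} {S : Sys X}

theorem El.cp (H : C.Models S) : ∀ {c : List ℕ}, C.inB c = true →
    El (C.cp c) (c.map H.baseEl).prod ∧ El (C.cpi c) ((c.map H.baseEl).prod)⁻¹
  | [], _ => by simpa [Crt.cp, Crt.cpi] using El.one
  | k :: l, h => by
    simp only [Crt.inB, List.all_cons, Bool.and_eq_true, Nat.blt_eq] at h
    obtain ⟨h1, h2⟩ := El.cp H (c := l) h.2
    simp only [Crt.cp, Crt.cpi, List.map_cons, List.prod_cons, mul_inv_rev]
    exact ⟨(H.base_ok k h.1).1.mul h1, h2.mul (H.base_ok k h.1).2⟩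

theorem tc_conj (S : Sys X) (q : P) : ∀ as : List P,
    ((as.map (· * q)).map S.tc).prod = (S.f q)⁻¹ * (as.map S.tc).prod * S.f q
  | [] => by simp
  | a :: as => by
    simp only [List.map_cons, List.prod_cons, tc_conj S q as]
    simp only [Sys.tc, map_mul]
    group

theorem prod_reverse_cancel (S : Sys X) : ∀ (A B : List P),
    ((A ++ B).map S.tc).prod * ((B.reverse).map S.tc).prod = (A.map S.tc).prod
  | A, [] => by simp
  | A, b :: B => by
    have h := prod_reverse_cancel S (A ++ [b]) B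
    simp only [List.append_assoc, List.singleton_append] at h
    rw [List.reverse_cons, List.map_append (l₁ := B.reverse), List.prod_append, ← mul_assoc, h]
    simp [mul_assoc, Sys.tc_tc]

theorem At.pair {A B : St} {L : X} {g : X} (hA : At S A g) (hB : At S B (g * L)) :
    ∃ a b : P, El A.h a ∧ El B.h b ∧ S.Eqv (S.v A.n * (S.f a * L * (S.f a)⁻¹))
      (S.v B.n * S.f (b * a⁻¹) * S.Z (B.b - A.b) (xor A.x B.x)) := by
  obtain ⟨a, ha, hga⟩ := hA
  obtain ⟨b, hb, hgb⟩ := hB
  refine ⟨a, b, ha, hb, ?_⟩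
  have h1 := ((hga.mul_right L).symm.trans hgb).mul_right ((S.f a)⁻¹ * (S.Z A.b A.x)⁻¹)
  have eL : S.v A.n * S.f a * S.Z A.b A.x * L * ((S.f a)⁻¹ * (S.Z A.b A.x)⁻¹)
      = S.v A.n * (S.f a * L * (S.f a)⁻¹) := by
    rw [← mul_assoc, mul_assoc _ (S.Z A.b A.x) L, ← Sys.Z_comm A.b A.x L, ← mul_assoc, mul_assoc _ (S.Z A.b A.x),
      ← Sys.Z_comm A.b A.x (S.f a)⁻¹, ← mul_assoc, mul_inv_cancel_right]
    simp only [mul_assoc]
  have eR : S.v B.n * S.f b * S.Z B.b B.x * ((S.f a)⁻¹ * (S.Z A.b A.x)⁻¹)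
      = S.v B.n * S.f (b * a⁻¹) * S.Z (B.b - A.b) (xor A.x B.x) := by
    rw [← mul_assoc, mul_assoc _ (S.Z B.b B.x), ← Sys.Z_comm B.b B.x (S.f a)⁻¹, Sys.Z_inv, map_mul, map_inv]
    simp only [mul_assoc]
    rw [Sys.Z_add, sub_eq_add_neg, Bool.xor_comm A.x]
  rwa [eL, eR] at h1

theorem both_sound (H : C.Models S) {k n : ℕ} {F : Fct} {ls : List ℕ} {start : St} {fw bw : List ℕ} {rev : Bool}
    (hlt : ∀ j < k, FOK S (C.tab.get j)) (h : C.both k F n ls start fw bw rev = true) {as : List P}
    (hl : List.Forall₂ El ls as) (hs : At S start (S.v n * (as.map S.tc).prod)) : FOK S F := by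
  simp only [Crt.both, Bool.and_eq_true] at h
  obtain ⟨⟨hf, hb⟩, h⟩ := h
  cases hwf : walk C.tab ⟨n, idp, 0, false⟩ fw ls with
  | none => simp [hwf] at h
  | some qa => cases hwb : walk C.tab start bw ls.reverse with
    | none => simp [hwf, hwb] at h
    | some qb =>
      obtain ⟨A, ra⟩ := qa
      obtain ⟨B, rb⟩ := qb
      simp only [hwf, hwb] at h
      have h0 : At S ⟨n, idp, 0, false⟩ (S.v n) := ⟨1, El.one, by
        simp only [map_one, mul_one, Sys.Z_zero]; exact Sys.Eqv.refl S _⟩
      obtain ⟨a1, a2, hA12, hra, hA⟩ := walk_sound hlt fw hf hwf h0 hl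
      obtain ⟨b1, b2, hB12, hrb, hB⟩ := walk_sound hlt bw hb hwb hs (List.rel_reverse hl)
      have hsp : as = b2.reverse ++ b1.reverse := by
        rw [← List.reverse_append, ← hB12, List.reverse_reverse]
      rw [hsp, mul_assoc] at hB
      have hcan := prod_reverse_cancel S b2.reverse b1.reverse
      rw [List.reverse_reverse] at hcan
      rw [hcan] at hB
      have hlen : ls.length = as.length := hl.length_eq
      have hla := hra.length_eq
      have hlb := hrb.length_eq
      have hl12 := congrArg List.length hA12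
      simp only [List.length_append] at hl12
      simp only [cmpW] at h
      cases hg : Nat.beq rb.length (ls.length - ra.length + 1)
      · simp only [hg, cond_false] at h
        cases hq : Nat.beq rb.length (ls.length - ra.length)
        · simp [hq] at h
        simp only [hq, cond_true, Bool.and_eq_true] at h
        have hlq := Nat.eq_of_beq_eq_true hq
        obtain ⟨e1, -⟩ := List.append_inj (hA12.symm.trans hsp) (by simp; omega)
        rw [← e1] at hB
        obtain ⟨⟨⟨⟨⟨⟨hi, hj⟩, hbb⟩, hx⟩, hr⟩, hh⟩, hhi⟩ := h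
        have key : ∀ P Q : St, At S P (S.v n * (a1.map S.tc).prod) → At S Q (S.v n * (a1.map S.tc).prod) →
            Nat.beq F.i P.n = true → Nat.beq F.j Q.n = true → zeq F.b (Q.b - P.b) = true →
            (F.x == xor P.x Q.x) = true → Nat.beq (pm F.h P.h) Q.h = true → FOK S F := by
          intro P Q hP hQ hi hj hbb hx hh
          obtain ⟨a, b, ha, hb', hE⟩ := At.pair (L := 1) hP (by rwa [mul_one])
          have hFh := El.right ha hb' (Nat.eq_of_beq_eq_true hh)
          refine ⟨b * a⁻¹, hFh, hFh.inv (Nat.eq_of_beq_eq_true hhi), ?_⟩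
          rw [if_pos (Nat.eq_of_beq_eq_true hr), Nat.eq_of_beq_eq_true hi, Nat.eq_of_beq_eq_true hj, zeq_eq hbb,
            beq_iff_eq.1 hx]
          simpa using hE
        cases rev
        · exact key A B hA hB hi hj hbb hx hh
        · exact key B A hB hA hi hj hbb hx hh
      · simp only [hg, cond_true, Bool.and_eq_true] at h
        obtain ⟨⟨⟨⟨⟨⟨⟨⟨-, hi⟩, hj⟩, hbb⟩, hx⟩, hr⟩, hh⟩, hhi⟩, hm⟩ := h
        have hlq := Nat.eq_of_beq_eq_true hg
        cases hra with
        | nil => simp at hm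
        | @cons l la _ _ hll hrest =>
          simp only at hm
          rename_i ra' a2'
          obtain ⟨e1, -⟩ := List.append_inj (s₁ := a1 ++ [la]) (s₂ := b2.reverse) (t₁ := a2')
            ((show (a1 ++ [la]) ++ a2' = a1 ++ la :: a2' by simp).trans (hA12.symm.trans hsp))
            (by simp at hla hl12 ⊢; simp at hlq; omega)
          rw [← e1, List.map_append, List.prod_append, ← mul_assoc] at hB
          obtain ⟨a, b, ha, hb', hE⟩ := At.pair (L := S.tc la) hA (by simpa using hB)
          have hFh := El.right ha hb' (Nat.eq_of_beq_eq_true hh)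
          have hr0 : F.r ≠ 0 := Nat.ne_of_beq_eq_false (by simpa using hr)
          refine ⟨b * a⁻¹, hFh, hFh.inv (Nat.eq_of_beq_eq_true hhi), ?_⟩
          rw [if_neg hr0]
          refine ⟨la * a⁻¹, El.right ha hll (Nat.eq_of_beq_eq_true hm), ?_⟩
          rw [Nat.eq_of_beq_eq_true hi, Nat.eq_of_beq_eq_true hj, zeq_eq hbb, beq_iff_eq.1 hx]
          rwa [Sys.f_tc, mul_inv_cancel_right] at hE

theorem fact_ok (H : C.Models S) {M : ℕ} (hM : ∀ k < M, C.okAt k = true) : ∀ k < M, FOK S (C.tab.get k) := by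
  intro k
  induction k using Nat.strong_induction_on with
  | _ k ih =>
    intro hk
    have hlt : ∀ j < k, FOK S (C.tab.get j) := fun j hj => ih j hj (hj.trans hk)
    have h := hM k hk
    simp only [Crt.okAt] at h
    cases hs : C.src.get k with
    | own c =>
      simp only [hs, Bool.and_eq_true, Bool.not_eq_true'] at h
      obtain ⟨⟨⟨⟨⟨⟨⟨hc, hi⟩, hj⟩, hr⟩, hb⟩, hx⟩, hh⟩, hhi⟩ := h
      refine ⟨(c.map H.baseEl).prod, ?_, ?_, ?_⟩
      · rw [Nat.eq_of_beq_eq_true hh]; exact (El.cp H hc).1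
      · rw [Nat.eq_of_beq_eq_true hhi]; exact (El.cp H hc).2
      · rw [if_pos (Nat.eq_of_beq_eq_true hr), Nat.eq_of_beq_eq_true hi, Nat.eq_of_beq_eq_true hj, zeq_eq hb, hx,
          H.v_zero, Sys.Z_zero, one_mul, mul_one]
        show 1 * (S.f _)⁻¹ ∈ S.K
        rw [one_mul]
        exact S.K.inv_mem (H.range_le _)
    | dfn =>
      simp only [hs, Bool.and_eq_true, Bool.not_eq_true'] at h
      obtain ⟨⟨⟨⟨⟨⟨h1, -⟩, hb⟩, hx⟩, hh⟩, hhi⟩, hd⟩ := h
      cases hd' : C.defs[(C.tab.get k).j - 1]? with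
      | none => simp [hd'] at hd
      | some d =>
        simp only [hd', Bool.and_eq_true, Nat.blt_eq] at hd
        obtain ⟨⟨⟨hc, hi⟩, hij⟩, hr⟩ := hd
        have hj1 := Nat.le_of_ble_eq_true h1
        obtain ⟨e1, -⟩ := El.cp H hc
        refine ⟨1, ?_, ?_, ?_⟩
        · rw [Nat.eq_of_beq_eq_true hh]; exact El.one
        · rw [Nat.eq_of_beq_eq_true hhi, inv_one]; exact El.one
        · rw [if_neg (by rw [Nat.eq_of_beq_eq_true hr]; exact e1.ne_zero)]
          refine ⟨(d.2.map H.baseEl).prod, by rw [Nat.eq_of_beq_eq_true hr]; exact e1, ?_⟩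
          have hv := H.v_def _ d hd' (by omega)
          rw [Nat.sub_add_cancel hj1] at hv
          rw [hv, Nat.eq_of_beq_eq_true hi, zeq_eq hb, hx, map_one, Sys.Z_zero, mul_one, mul_one]
          exact Sys.Eqv.refl S _
    | rl n j c fw bw rev =>
      simp only [hs] at h
      cases hR : C.rels[j]? with
      | none => simp [hR] at h
      | some R =>
        simp only [hR, Bool.and_eq_true] at h
        obtain ⟨hc, hw⟩ := h
        obtain ⟨as, p, hL, hp, hrel⟩ := H.rels_ok R (List.mem_of_getElem? hR)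
        obtain ⟨e1, e2⟩ := El.cp H hc
        generalize (c.map H.baseEl).prod = q at e1 e2
        refine both_sound H hlt hw (as := as.map (· * q)) ?_ ⟨q⁻¹ * p⁻¹ * q, (e2.mul hp).mul e1, ?_⟩
        · rw [List.forall₂_map_left_iff, List.forall₂_map_right_iff]
          exact List.Forall₂.imp (fun _ _ hxy => hxy.mul e1) hL
        · have e : ((as.map (· * q)).map S.tc).prod = S.f (q⁻¹ * p⁻¹ * q) * S.Z R.b false := by
            rw [tc_conj, eq_mul_inv_of_mul_eq hrel, map_mul, map_mul, map_inv, map_inv,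
              ← Sys.Z_comm R.b false (S.f p)⁻¹]
            simp only [mul_assoc]
            rw [← Sys.Z_comm R.b false (S.f q)]
          rw [e, ← mul_assoc]
          exact Sys.Eqv.refl S _
    | root fw bw rev =>
      simp only [hs] at h
      obtain ⟨as, hL, hE⟩ := H.root_ok
      refine both_sound H hlt h hL ⟨1, El.one, ?_⟩
      simpa [H.v_zero, Sys.Z_zero] using hE

end Cfsg.Lib.J4Cert
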