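import Cfsg.Agent.J4Cert.Group
import Cfsg.Agent.J4Cert.Check
import Cfsg.Agent.J4Cert.Data.Base

/-!
The base permutations stand for elements, and words give packed permutations.
-/

set_option autoImplicit false

namespace Cfsg.Lib.J4Cert

open Cfsg Cfsg.Lib.J4Pres Cfsg.Lib.CosetTable

/-- The packed first generator. -/
def px8 : ℕ := (baseTab.get 0).1
/-- The packed second generator. -/
def py8 : ℕ := (baseTab.get 1).1

/-- The packed letters. -/
def let8 : ℕ → ℕ
  | 0 => (baseTab.get 0).1
  | 1 => (baseTab.get 1).1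
  | _ => (baseTab.get 1).2

/-- The packed permutation of a word. -/
def wp : List ℕ → ℕ
  | [] => idp
  | l :: w => pm (let8 l) (wp w)

/-- The generators agree with their tables. -/
def genAgree : Bool :=
  (List.range 24).all fun i =>
    Nat.beq (ap (baseTab.get 0).1 i) (PermCert.ap permX.1 i) &&
      Nat.beq (ap (baseTab.get 1).1 i) (PermCert.ap permY.1 i)

/-- The recurrence of the base from a place on. -/
def baseFrom : ℕ → List (ℕ × ℕ) → Bool
  | _, [] => true
  | k, (a, b) :: l =>
    let m := Nat.shiftRight b 1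
    let q := bif Nat.beq (Nat.land b 1) 0 then (baseTab.get m).1 else (baseTab.get m).2
    let qi := bif Nat.beq (Nat.land b 1) 0 then (baseTab.get m).2 else (baseTab.get m).1
    Nat.blt a k && Nat.blt m k && Nat.beq (baseTab.get k).1 (pm (baseTab.get a).1 q) &&
      Nat.beq (baseTab.get k).2 (pm qi (baseTab.get a).2) && baseFrom (k + 1) l

attribute [local irreducible] pm rel idp ap cl

theorem base_checks : genAgree = true ∧ baseFrom 2 baseProg = true ∧
    pm (baseTab.get 0).2 (baseTab.get 0).1 = idp ∧ pm (baseTab.get 1).2 (baseTab.get 1).1 = idp := by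
  decide +kernel

/-- The number of base permutations. -/
def baseN : ℕ := 2 + baseProg.length

theorem base_gen : El (baseTab.get 0).1 px ∧ El (baseTab.get 1).1 py := by
  have hv : PermCert.valid 24 permX = true ∧ PermCert.valid 24 permY = true := by decide +kernel
  have h := base_checks.1
  simp only [genAgree, List.all_eq_true, List.mem_range, Bool.and_eq_true] at h
  refine ⟨fun i => ?_, fun i => ?_⟩
  · rw [show px = PresentedGroup.of true from rfl, genPerm_true hv.1, PermCert.perm_apply hv.1]
    exact Nat.eq_of_beq_eq_true (h i i.2).1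
  · rw [show py = PresentedGroup.of false from rfl, genPerm_false hv.2, PermCert.perm_apply hv.2]
    exact Nat.eq_of_beq_eq_true (h i i.2).2

theorem let8_el (l : ℕ) : El (let8 l) (im l) := by
  match l with
  | 0 => exact base_gen.1
  | 1 => exact base_gen.2
  | n + 2 => exact base_gen.2.inv base_checks.2.2.2

theorem wp_el : ∀ w : List ℕ, El (wp w) (wval im w)
  | [] => by simpa [wp, wval] using El.one
  | l :: w => by
    have e : wval im (l :: w) = im l * wval im w := by simp [wval]
    rw [e]
    exact (let8_el l).mul (wp_el w)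

theorem baseFrom_sound : ∀ (l : List (ℕ × ℕ)) (k : ℕ), baseFrom k l = true →
    (∀ j < k, ∃ a, El (baseTab.get j).1 a ∧ El (baseTab.get j).2 a⁻¹) →
    ∀ j < k + l.length, ∃ a, El (baseTab.get j).1 a ∧ El (baseTab.get j).2 a⁻¹
  | [], k, _, hk, j, hj => hk j hj
  | (a, b) :: l, k, h, hk, j, hj => by
    simp only [baseFrom, Bool.and_eq_true, Nat.blt_eq] at h
    obtain ⟨⟨⟨⟨h1, h2⟩, h3⟩, h4⟩, h5⟩ := h
    refine baseFrom_sound l (k + 1) h5 (fun i hi => ?_) j (by simp only [List.length_cons] at hj; omega)
    rcases Nat.lt_succ_iff_lt_or_eq.1 hi with hi | rfl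
    · exact hk i hi
    · obtain ⟨A, hA, hA'⟩ := hk a h1
      obtain ⟨B, hB, hB'⟩ := hk _ h2
      rw [Nat.eq_of_beq_eq_true h3, Nat.eq_of_beq_eq_true h4]
      cases Nat.beq (Nat.land b 1) 0
      · exact ⟨A * B⁻¹, hA.mul hB', by rw [mul_inv_rev, inv_inv]; exact hB.mul hA'⟩
      · exact ⟨A * B, hA.mul hB, by rw [mul_inv_rev]; exact hB'.mul hA'⟩

theorem base_el : ∀ j < baseN, ∃ a, El (baseTab.get j).1 a ∧ El (baseTab.get j).2 a⁻¹ :=
  baseFrom_sound baseProg 2 base_checks.2.1 fun j hj => by
    interval_cases j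
    · exact ⟨px, base_gen.1, base_gen.1.inv base_checks.2.2.1⟩
    · exact ⟨py, base_gen.2, base_gen.2.inv base_checks.2.2.2⟩

open Classical in
/-- The elements of the base. -/
noncomputable def baseEl (j : ℕ) : P := if h : j < baseN then (base_el j h).choose else 1

theorem baseEl_ok : ∀ j < baseN, El (baseTab.get j).1 (baseEl j) ∧ El (baseTab.get j).2 (baseEl j)⁻¹ := by
  intro j hj
  rw [baseEl, dif_pos hj]
  exact (base_el j hj).choose_spec

end Cfsg.Lib.J4Cert
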