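import Cfsg.Agent.J4Cert.CentDef

/-!
The checks of the cosets are true.
-/

set_option autoImplicit false
set_option maxRecDepth 8000
set_option Elab.async false

namespace Cfsg.Lib.J4Cert

theorem cVM_zero : leq (cVM.getD 0 []) J4Rep.idMat = true ∧ leq (cVMi.getD 0 []) J4Rep.idMat = true := by
  decide +kernel

theorem vOK_0 : vOK 0 12 = true := by decide +kernel

theorem vOK_1 : vOK 12 12 = true := by decide +kernel

theorem vOK_2 : vOK 24 10 = true := by decide +kernel

theorem orb1_ok : orb1OK = true := by decide +kernel

theorem buck_ok : buckOK = true := by decide +kernel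

theorem outRange_0 : outRange 0 7 = true := by decide +kernel

theorem outRange_1 : outRange 7 6 = true := by decide +kernel

theorem outRange_2 : outRange 13 6 = true := by decide +kernel

end Cfsg.Lib.J4Cert
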