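import Cfsg.Agent.J4Cert.Simple

/-!
The elementary abelian group inside the presented group.
-/

set_option autoImplicit false

namespace Cfsg.Lib.J4Cert

open Cfsg Cfsg.Lib.J4Pres Cfsg.Lib.CosetTable

variable (B : EBasis)

/-- The element with the given coordinates. -/
noncomputable def EBasis.el (v : ℕ) : Spor.J4 := ev B.g v

theorem EBasis.rho_el (v : ℕ) : rhoG (B.el v) = ev B.img v := rho_ev B.g v

theorem EBasis.el_xor (v w : ℕ) : B.el (v ^^^ w) = B.el v * B.el w :=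
  rhoG_injective (by rw [map_mul, B.rho_el, B.rho_el, B.rho_el, ev_xor B.comm])

theorem EBasis.el_zero : B.el 0 = 1 := ev_zero _

theorem EBasis.el_comm (v w : ℕ) : B.el v * B.el w = B.el w * B.el v := by
  rw [← B.el_xor, Nat.xor_comm, B.el_xor]

theorem EBasis.el_sq (v : ℕ) : B.el v * B.el v = 1 := by rw [← B.el_xor, Nat.xor_self, B.el_zero]

theorem EBasis.el_inv (v : ℕ) : (B.el v)⁻¹ = B.el v := inv_eq_of_mul_eq_one_right (B.el_sq v)

theorem EBasis.el_inj {v w : ℕ} (hv : v < 2048) (hw : w < 2048) (h : B.el v = B.el w) : v = w := by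
  have h0 := B.eq_zero (Nat.xor_lt_two_pow (n := 11) hv hw)
    (by rw [← B.rho_el, B.el_xor, h, B.el_sq, map_one])
  rwa [Nat.xor_eq_zero_iff] at h0

theorem EBasis.el_conj {l : ℕ} (hl : l < 3) (v : ℕ) :
    (letG l)⁻¹ * B.el v * letG l = B.el (J4Rep.va v (eRows.getD l [])) :=
  rhoG_injective (by rw [map_mul, map_mul, map_inv, B.rho_el, B.rho_el, B.conj hl])

/-- The elementary abelian subgroup. -/
noncomputable def EBasis.E : Subgroup Spor.J4 := B.sub.comap rhoG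

theorem EBasis.mem_E {g : Spor.J4} : g ∈ B.E ↔ ∃ v < 2048, B.el v = g := by
  constructor
  · rintro ⟨v, hv, h⟩
    exact ⟨v, hv, rhoG_injective ((B.rho_el v).trans h)⟩
  · rintro ⟨v, hv, rfl⟩
    exact ⟨v, hv, (B.rho_el v).symm⟩

theorem EBasis.card_E : Nat.card B.E = 2048 := by
  refine (Nat.card_eq_of_bijective (fun v : Fin 2048 => (⟨B.el v, B.mem_E.2 ⟨v, v.2, rfl⟩⟩ : B.E)) ⟨?_, ?_⟩).symm.trans
    (Nat.card_fin 2048)
  · intro v w h
    exact Fin.ext (B.el_inj v.2 w.2 (congrArg Subtype.val h))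
  · rintro ⟨g, hg⟩
    obtain ⟨v, hv, rfl⟩ := B.mem_E.1 hg
    exact ⟨⟨v, hv⟩, rfl⟩

theorem EBasis.E_conj (a : P) {e : Spor.J4} (he : e ∈ B.E) : (jHom a)⁻¹ * e * jHom a ∈ B.E := by
  show rhoG _ ∈ B.sub
  rw [map_mul, map_mul, map_inv]
  exact B.sub_conj a _ he

theorem EBasis.E_le : B.E ≤ KJ := by
  intro g hg
  obtain ⟨v, hv, h⟩ := hg
  obtain ⟨k, hk, hkv⟩ := B.sub_le v
  rwa [rhoG_injective (hkv.trans h)] at hk

theorem EBasis.E_inter {a : P} (h : jHom a ∈ B.E) : a = 1 := B.sub_inter h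

theorem EBasis.dec {k : Spor.J4} (hk : k ∈ KJ) : ∃ e ∈ B.E, ∃ a : P, k = e * jHom a := by
  haveI := finite_J4
  haveI := finite_P
  let F : B.E × P → KJ := fun z => ⟨z.1 * jHom z.2, KJ.mul_mem (B.E_le z.1.2) (HJ_le ⟨z.2, rfl⟩)⟩
  have hF : Function.Injective F := by
    rintro ⟨e, a⟩ ⟨e', b⟩ h
    have h' : (e : Spor.J4) * jHom a = e' * jHom b := congrArg Subtype.val h
    have h1 : (e' : Spor.J4)⁻¹ * e = jHom (b * a⁻¹) := by
      rw [map_mul, map_inv, eq_mul_inv_iff_mul_eq, mul_assoc, h', inv_mul_cancel_left]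
    have hab : b * a⁻¹ = 1 := B.E_inter (h1 ▸ B.E.mul_mem (B.E.inv_mem e'.2) e.2)
    obtain rfl := (mul_inv_eq_one.1 hab).symm
    exact Prod.ext (Subtype.ext (mul_right_cancel h')) rfl
  have hb : Function.Bijective F := (Nat.bijective_iff_injective_and_card F).2 ⟨hF, by
    rw [Nat.card_prod, B.card_E, card_P, card_KJ.2.1]⟩
  obtain ⟨⟨e, a⟩, hea⟩ := hb.2 ⟨k, hk⟩
  exact ⟨e, e.2, a, (congrArg Subtype.val hea).symm⟩

theorem EBasis.dec_unique {e e' : Spor.J4} {a b : P} (he : e ∈ B.E) (he' : e' ∈ B.E) (h : e * jHom a = e' * jHom b) :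
    e = e' ∧ a = b := by
  have h1 : e'⁻¹ * e = jHom (b * a⁻¹) := by
    rw [map_mul, map_inv, eq_mul_inv_iff_mul_eq, mul_assoc, h, inv_mul_cancel_left]
  have hab : b * a⁻¹ = 1 := B.E_inter (h1 ▸ B.E.mul_mem (B.E.inv_mem he') he)
  obtain rfl := (mul_inv_eq_one.1 hab).symm
  exact ⟨mul_right_cancel h, rfl⟩

end Cfsg.Lib.J4Cert
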