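import Cfsg.Agent.J4Cert.SylDef

/-!
The masks of fixed vectors and the counting of their digits.
-/

set_option autoImplicit false

namespace Cfsg.Lib.J4Cert

open Cfsg.Lib

theorem va_concat : ∀ (A : List ℕ) (r v : ℕ),
    J4Rep.va v (A ++ [r]) = J4Rep.va v A ^^^ (if v / 2 ^ A.length % 2 = 1 then r else 0)
  | [], r, v => by simp [J4Rep.va]
  | a :: A, r, v => by
    rw [List.cons_append, J4Rep.va, va_concat A r, J4Rep.va, List.length_cons, pow_succ', ← Nat.div_div_eq_div_mul,
      Nat.xor_assoc]

theorem va_mod : ∀ (A : List ℕ) (v : ℕ), J4Rep.va (v % 2 ^ A.length) A = J4Rep.va v A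
  | [], v => by simp [J4Rep.va]
  | a :: A, v => by
    rw [J4Rep.va, J4Rep.va, List.length_cons, pow_succ', Nat.mod_mul_right_div_self, va_mod A,
      Nat.mod_mul_right_mod]

theorem va_add : ∀ (A B : List ℕ) (v : ℕ), A.length = B.length →
    J4Rep.va v (List.zipWith (· ^^^ ·) A B) = J4Rep.va v A ^^^ J4Rep.va v B
  | [], [], v, _ => by simp [J4Rep.va]
  | a :: A, b :: B, v, h => by
    rw [List.zipWith_cons_cons, J4Rep.va, J4Rep.va, J4Rep.va, va_add A B _ (by simpa using h)]
    refine Nat.eq_of_testBit_eq fun i => ?_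
    split_ifs <;> simp only [Nat.testBit_xor, Nat.zero_testBit, Bool.false_bne] <;>
      cases a.testBit i <;> cases b.testBit i <;> cases (J4Rep.va (v / 2) A).testBit i <;>
      cases (J4Rep.va (v / 2) B).testBit i <;> rfl

/-- The vectors up to a bound on which a digit of the image vanishes, and the others. -/
theorem zero2_spec (D : List ℕ) (j : ℕ) : ∀ k, k ≤ D.length → ∀ v < 2 ^ k,
    ((J4Rep.va v (D.take k)).testBit j = false → (zero2 D j k).1.testBit v = true) ∧
      ((J4Rep.va v (D.take k)).testBit j = true → (zero2 D j k).2.testBit v = true)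
  | 0, _, v, hv => by
    obtain rfl : v = 0 := by simpa using hv
    simp [J4Rep.va, zero2]
  | k + 1, hk, v, hv => by
    have hlt : k < D.length := by omega
    have hl : (D.take k).length = k := by rw [List.length_take]; omega
    have hsplit : D.take (k + 1) = D.take k ++ [D.getD k 0] := by
      rw [List.take_add_one, List.getElem?_eq_getElem hlt, List.getD_eq_getElem _ _ hlt]
      rfl
    have hm : v % 2 ^ k < 2 ^ k := Nat.mod_lt _ (Nat.two_pow_pos k)
    obtain ⟨ih1, ih2⟩ := zero2_spec D j k hlt.le _ hm
    rw [show J4Rep.va (v % 2 ^ k) (D.take k) = J4Rep.va v (D.take k) by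
      conv_rhs => rw [← va_mod, hl]] at ih1 ih2
    rw [hsplit, va_concat, hl, Nat.testBit_xor]
    simp only [zero2]
    generalize zero2 D j k = r at ih1 ih2
    obtain ⟨Z, O⟩ := r
    generalize (J4Rep.va v (D.take k)).testBit j = x at ih1 ih2
    have key : ∀ X Y : ℕ, (v < 2 ^ k → X.testBit v = true) → (2 ^ k ≤ v → Y.testBit (v - 2 ^ k) = true) →
        (X ||| Y <<< 2 ^ k).testBit v = true := by
      intro X Y h1 h2
      rw [Nat.testBit_or, Bool.or_eq_true, Nat.testBit_shiftLeft]
      by_cases h : v < 2 ^ k
      · exact Or.inl (h1 h)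
      · exact Or.inr (by simp only [ge_iff_le, Nat.not_lt.1 h, decide_true, h2 (Nat.not_lt.1 h), Bool.and_self])
    rcases Nat.lt_or_ge v (2 ^ k) with hlo | hhi
    · rw [Nat.mod_eq_of_lt hlo] at ih1 ih2
      rw [Nat.div_eq_of_lt hlo]
      have hn : ¬ 2 ^ k ≤ v := not_le.2 hlo
      cases hb : (D.getD k 0).testBit j <;>
        exact ⟨fun h => key _ _ (fun _ => ih1 (by simpa using h)) (fun h' => absurd h' hn),
          fun h => key _ _ (fun _ => ih2 (by simpa using h)) (fun h' => absurd h' hn)⟩
    · have hd : v / 2 ^ k = 1 := Nat.div_eq_of_lt_le (by omega) (by rw [pow_succ] at hv; omega)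
      have he : v % 2 ^ k = v - 2 ^ k := by
        rw [Nat.mod_eq_sub_mul_div, hd, mul_one]
      rw [he] at ih1 ih2
      rw [hd]
      have hn : ¬ v < 2 ^ k := not_lt.2 hhi
      cases hb : (D.getD k 0).testBit j
      · exact ⟨fun h => key _ _ (fun h' => absurd h' hn) (fun _ => ih1 (by revert h; cases x <;> simp [hb, -List.getD_eq_getElem?_getD])),
          fun h => key _ _ (fun h' => absurd h' hn) (fun _ => ih2 (by revert h; cases x <;> simp [hb, -List.getD_eq_getElem?_getD]))⟩
      · exact ⟨fun h => key _ _ (fun h' => absurd h' hn) (fun _ => ih2 (by revert h; cases x <;> simp [hb, -List.getD_eq_getElem?_getD])),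
          fun h => key _ _ (fun h' => absurd h' hn) (fun _ => ih1 (by revert h; cases x <;> simp [hb, -List.getD_eq_getElem?_getD]))⟩

theorem fixMask_spec (D : List ℕ) (hD : D.length = 11) {v : ℕ} (hv : v < 2048) (h : J4Rep.va v D = 0) :
    ∀ j, (fixMask D j).testBit v = true
  | 0 => by
    show (2 ^ 2048 - 1).testBit v = true
    rw [Nat.testBit_two_pow_sub_one]
    exact decide_eq_true hv
  | j + 1 => by
    show (Nat.land _ _).testBit v = true
    show ((zero2 D j 11).1 &&& fixMask D j).testBit v = true
    rw [Nat.testBit_and, fixMask_spec D hD hv h j, Bool.and_true]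
    refine ((zero2_spec D j 11 (by omega) v hv).1 ?_)
    rw [List.take_of_length_le (by omega), h, Nat.zero_testBit]

theorem fixMask_fix {M : List ℕ} (hM : M.length = 11) {v : ℕ} (hv : v < 2048) (h : J4Rep.va v M = v) :
    (fixMask ((List.range 11).map fun k => M.getD k 0 ^^^ 2 ^ k) 11).testBit v = true := by
  refine fixMask_spec _ (by simp) hv ?_ 11
  have e : ((List.range 11).map fun k => M.getD k 0 ^^^ 2 ^ k) = List.zipWith (· ^^^ ·) M id11 := by
    refine List.ext_getElem (by simp [id11, hM]) fun i h1 h2 => ?_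
    have hi : i < M.length := by simp at h1; omega
    simp [id11, List.getElem?_eq_getElem hi]
  rw [e, va_add _ _ _ (by simp [id11, hM]), h]
  have : J4Rep.va v id11 = v := Nat.eq_of_testBit_eq fun i => by
    rw [id11, J4Rep.va_pows_testBit, Nat.sub_zero]
    by_cases hi : i < 11
    · simp [hi]
    · rw [Nat.testBit_lt_two_pow (lt_of_lt_of_le hv
        (le_trans (by norm_num) (Nat.pow_le_pow_right (by norm_num) (not_lt.1 hi))))]
      simp
  rw [this, Nat.xor_self]

theorem drop_low (n : ℕ) (hn : n ≠ 0) :
    ∃ c, ∀ i, n.testBit i = true → i = c ∨ (n &&& (n - 1)).testBit i = true := by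
  induction n using Nat.strong_induction_on with
  | _ n ih =>
    rcases Nat.mod_two_eq_zero_or_one n with h | h
    · obtain ⟨c, hc⟩ := ih (n / 2) (by omega) (by omega)
      refine ⟨c + 1, fun i hi => ?_⟩
      cases i with
      | zero => simp [Nat.testBit_zero, h] at hi
      | succ i =>
        rw [Nat.testBit_succ] at hi
        rcases hc i hi with e | e
        · exact Or.inl (by omega)
        · refine Or.inr ?_
          rw [Nat.testBit_and, Bool.and_eq_true] at e ⊢
          refine ⟨by rw [Nat.testBit_succ]; exact e.1, ?_⟩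
          rw [Nat.testBit_succ, show (n - 1) / 2 = n / 2 - 1 by omega]
          exact e.2
    · refine ⟨0, fun i hi => ?_⟩
      cases i with
      | zero => exact Or.inl rfl
      | succ i =>
        refine Or.inr ?_
        rw [Nat.testBit_and, Bool.and_eq_true]
        refine ⟨hi, ?_⟩
        rw [Nat.testBit_succ] at hi ⊢
        rwa [show (n - 1) / 2 = n / 2 by omega]

theorem peel_sound : ∀ (m n : ℕ), peel m n = true → ∀ V : Finset ℕ, (∀ v ∈ V, n.testBit v = true) → V.card ≤ m
  | 0, n, h, V, hV => by
    have hn : n = 0 := Nat.eq_of_beq_eq_true h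
    have : V = ∅ := Finset.eq_empty_of_forall_notMem fun v hv => by simpa [hn] using hV v hv
    simp [this]
  | m + 1, n, h, V, hV => by
    by_cases hn : n = 0
    · have : V = ∅ := Finset.eq_empty_of_forall_notMem fun v hv => by simpa [hn] using hV v hv
      simp [this]
    · simp only [peel, show Nat.beq n 0 = false from Bool.eq_false_iff.2 fun e => hn (Nat.eq_of_beq_eq_true e), cond_false] at h
      obtain ⟨c, hc⟩ := drop_low n hn
      have := peel_sound m _ h (V.erase c) fun v hv => by
        rw [Finset.mem_erase] at hv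
        exact (hc v (hV v hv.2)).resolve_left hv.1
      have := Finset.pred_card_le_card_erase (s := V) (a := c)
      omega

theorem hasN_mem : ∀ {l : List ℕ} {b : ℕ}, hasN l b = true → b ∈ l
  | [], b, h => by simp [hasN] at h
  | a :: l, b, h => by
    simp only [hasN] at h
    cases hb : Nat.beq a b with
    | true => exact List.mem_cons.2 (Or.inl (Nat.eq_of_beq_eq_true hb).symm)
    | false => rw [hb, cond_false] at h; exact List.mem_cons_of_mem a (hasN_mem h)

theorem leq_eq : ∀ {a b : List ℕ}, leq a b = true → a = b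
  | [], [], _ => rfl
  | a :: l, b :: r, h => by
    simp only [leq, Bool.and_eq_true] at h
    rw [Nat.eq_of_beq_eq_true h.1, leq_eq h.2]
  | [], _ :: _, h => by simp [leq] at h
  | _ :: _, [], h => by simp [leq] at h

end Cfsg.Lib.J4Cert
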