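import Cfsg.Agent.J4Cert.OutCent
import Cfsg.Agent.J4Cert.ESub
import Cfsg.Agent.J4Cert.CentCheck0
import Cfsg.Agent.J4Cert.Mask

/-!
An upper bound for the centraliser of an involution.
-/

set_option autoImplicit false
set_option maxRecDepth 8000

namespace Cfsg.Lib.J4Cert

open Cfsg Cfsg.Lib.J4Pres Cfsg.Lib.CosetTable

attribute [local irreducible] pm rel idp ap cl eBasis cVM cVMi cWords cBuck cW orbMask kLiveN kOrd restN kDefs mB

theorem jHom_wval : ∀ w : List ℕ, w.all (fun l => Nat.blt l 3) = true → jHom (wval im w) = wval letG w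
  | [], _ => by simp [wval]
  | l :: w, h => by
    simp only [List.all_cons, Bool.and_eq_true, Nat.blt_eq] at h
    have e1 : wval im (l :: w) = im l * wval im w := by simp [wval]
    have e2 : wval letG (l :: w) = letG l * wval letG w := by simp [wval]
    rw [e1, e2, map_mul, jHom_wval w h.2, jHom_letG h.1]

theorem wval_invW : ∀ w : List ℕ, wval letG (invW w) = (wval letG w)⁻¹
  | [] => by simp [wval, invW]
  | l :: w => by
    have e : invW (l :: w) = invW w ++ [invL l] := by simp [invW]
    have e1 : wval letG (invW w ++ [invL l]) = wval letG (invW w) * letG (invL l) := by simp [wval]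
    have e2 : wval letG (l :: w) = letG l * wval letG w := by simp [wval]
    rw [e, e1, e2, mul_inv_rev, wval_invW w, letG_inv]

theorem bp_el : ∀ c : List ℕ, c.all (fun k => Nat.blt k baseN) = true → El (bp c) (c.map baseEl).prod
  | [], _ => by simpa [bp] using El.one
  | k :: c, h => by
    simp only [List.all_cons, Bool.and_eq_true, Nat.blt_eq] at h
    rw [List.map_cons, List.prod_cons]
    exact (baseEl_ok k h.1).1.mul (bp_el c h.2)

theorem MOK.tc (w : List ℕ) : MOK ((wval letG w)⁻¹ * gt * wval letG w) (tcM w) :=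
  ((wval_invW w ▸ wordM_ok (invW w)).mul mok_gens.2.2.2).mul (wordM_ok w)

theorem v_ok : ∀ m ≤ 34, MOK ((gSys KJ kDefs).v m) (cVM.getD m []) ∧
    MOK ((gSys KJ kDefs).v m)⁻¹ (cVMi.getD m []) := by
  intro m
  induction m using Nat.strong_induction_on with
  | _ m ih =>
    intro hm
    rcases m with _ | m
    · have h : (gSys KJ kDefs).v 0 = 1 := (valsOf_spec jHom gt kDefs [1]).1 0 (by simp)
      rw [h, inv_one, leq_eq cVM_zero.1, leq_eq cVM_zero.2]
      exact ⟨MOK.one, MOK.one⟩
    · have hs : vStep m = true := by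
        have key : ∀ lo n, vOK lo n = true → lo ≤ m → m < lo + n → vStep m = true := fun lo n h h1 h2 =>
          List.all_eq_true.1 h m (List.mem_range'_1.2 ⟨h1, h2⟩)
        rcases (by omega : m < 12 ∨ (12 ≤ m ∧ m < 24) ∨ 24 ≤ m) with h | h | h
        · exact key 0 12 vOK_0 (by omega) (by omega)
        · exact key 12 12 vOK_1 h.1 (by omega)
        · exact key 24 10 vOK_2 h (by omega)
      simp only [vStep, Bool.and_eq_true] at hs
      obtain ⟨⟨⟨⟨⟨hd1, hd2⟩, hw⟩, hp⟩, hv⟩, hvi⟩ := hs
      have hlen : 34 ≤ kDefs.length := by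
        have : (by exact (34 : ℕ)) ≤ kDefs.length := by decide +kernel
        exact this
      have hm' : m < kDefs.length := by omega
      obtain ⟨e1, e2⟩ := ih _ (Nat.lt_succ_of_le (Nat.le_of_ble_eq_true hd1))
        (by have := Nat.le_of_ble_eq_true hd1; omega)
      have hval : (valsOf jHom gt kDefs).getD (1 + m) 1 = _ :=
        (valsOf_spec jHom gt kDefs [1]).2 m _ (List.getElem?_eq_getElem hm') (by
          rw [← List.getD_eq_getElem _ (0, []) hm', List.length_singleton]
          exact lt_of_le_of_lt (Nat.le_of_ble_eq_true hd1) (by omega))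
      rw [← List.getD_eq_getElem _ (0, []) hm'] at hval
      have hq : ((kDefs.getD m (0, [])).2.map baseEl).prod = wval im (cWords.getD m []) := by
        have a := (bp_el _ hd2).mul El.one
        have b := (wp_el (cWords.getD m [])).mul El.one
        rw [Nat.eq_of_beq_eq_true hp] at b
        simpa using a.unique b
      rw [hq, jHom_wval _ hw] at hval
      have hv' : (gSys KJ kDefs).v (m + 1) = (gSys KJ kDefs).v (kDefs.getD m (0, [])).1 *
          ((wval letG (cWords.getD m []))⁻¹ * gt * wval letG (cWords.getD m [])) := by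
        show (valsOf jHom gt kDefs).getD (m + 1) 1 = _
        rw [Nat.add_comm m 1]
        exact hval
      rw [hv', leq_eq hv, leq_eq hvi]
      refine ⟨e1.mul (MOK.tc _), ?_⟩
      have hT : ((wval letG (cWords.getD m []))⁻¹ * gt * wval letG (cWords.getD m []))⁻¹ =
          (wval letG (cWords.getD m []))⁻¹ * gt * wval letG (cWords.getD m []) := by
        rw [mul_inv_rev, mul_inv_rev, inv_inv, inv_eq_of_mul_eq_one_right t_sq, mul_assoc]
      rw [mul_inv_rev, hT]
      exact (MOK.tc _).mul e2

/-- The image of a vector under an element, as a number. -/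
def imgV (g : Spor.J4) (q : J4Rep.Vec) : J4Rep.Vec := (rhoG g).symm q

theorem imgV_mul (a b : Spor.J4) (q : J4Rep.Vec) : imgV (a * b) q = imgV b (imgV a q) := by
  rw [imgV, map_mul]
  rfl

theorem MOK.img {g : Spor.J4} {A : List ℕ} (h : MOK g A) (q : J4Rep.Vec) :
    (imgV g q).1 = vt (tabs4 A) q.1 := by
  have hok := h.1
  simp only [okMat, Bool.and_eq_true, List.all_eq_true, decide_eq_true_eq] at hok
  rw [imgV, h.2, vt_eq A _ hok.2 (by rw [Nat.eq_of_beq_eq_true hok.1])]

theorem imgsL_spec : ∀ {g : List Spor.J4} {M : List (List ℕ)}, List.Forall₂ MOK g M → ∀ (L : List ℕ),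
    (imgsL M L).length = L.length * 2 ^ M.length ∧
    ∀ (j : ℕ) (hj : j < L.length) (q : J4Rep.Vec), q.1 = L[j] → ∀ w < 2 ^ M.length,
      (imgsL M L)[j + L.length * w]? = some (imgV (ev g w) q).1
  | _, _, List.Forall₂.nil, L => by
    refine ⟨by simp [imgsL], fun j hj q hq w hw => ?_⟩
    obtain rfl : w = 0 := by simpa using hw
    simp [imgsL, ev, imgV, hj]
    exact hq.symm
  | _, _, List.Forall₂.cons (a := a) (b := A) hA hl, L => by
    obtain ⟨ih1, ih2⟩ := imgsL_spec hl (L ++ L.map fun w => vt (tabs4 A) w)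
    refine ⟨?_, fun j hj q hq w hw => ?_⟩
    · rw [imgsL, ih1, List.length_append, List.length_map, List.length_cons, pow_succ']
      ring
    · rw [List.length_cons, pow_succ'] at hw
      rw [imgsL, ev]
      have hlen : (L ++ L.map fun w => vt (tabs4 A) w).length = 2 * L.length := by simp [two_mul]
      rcases Nat.mod_two_eq_zero_or_one w with h | h
      · have e : j + L.length * w = j + (2 * L.length) * (w / 2) := by
          rw [mul_comm 2, mul_assoc, Nat.mul_div_cancel' (Nat.dvd_of_mod_eq_zero h)]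
        have := ih2 j (by omega) q (by rw [List.getElem_append_left hj]; exact hq) (w / 2) (by omega)
        rw [hlen, ← e] at this
        rw [if_neg (by omega), one_mul]
        exact this
      · have e : j + L.length * w = (j + L.length) + (2 * L.length) * (w / 2) := by
          conv_lhs => rw [← Nat.div_add_mod w 2, h]
          ring
        have := ih2 (j + L.length) (by omega) (imgV a q) (by
          rw [List.getElem_append_right (by omega), List.getElem_map, hA.img, hq]
          congr
          omega) (w / 2) (by omega)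
        rw [hlen, ← e, ← imgV_mul] at this
        rw [if_pos h]
        exact this

theorem csep_lt : csep < 2 ^ 112 := by decide +kernel

theorem imgsL_one {g : List Spor.J4} {M : List (List ℕ)} (h : List.Forall₂ MOK g M) {w : ℕ} (hw : w < 2 ^ M.length) :
    (imgsL M [csep])[w]? = some (imgV (ev g w) ⟨csep, csep_lt⟩).1 := by
  simpa using (imgsL_spec h [csep]).2 0 (by simp) ⟨csep, csep_lt⟩ rfl w hw

theorem outOK_of {n : ℕ} {W : List ℕ} (h : (n, W) ∈ cW) : outOK n W = true := by
  obtain ⟨i, hi, e⟩ := List.getElem_of_mem h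
  have hlen : cW.length = 19 := by decide +kernel
  have key : ∀ lo k, outRange lo k = true → lo ≤ i → i < lo + k → outOK n W = true := fun lo k hk h1 h2 => by
    have h3 := List.all_eq_true.1 hk (n, W) (List.mem_iff_getElem.2 ⟨i - lo, by
      rw [List.length_take, List.length_drop]; omega, by
      rw [List.getElem_take, List.getElem_drop]; simp [Nat.add_sub_cancel' h1, e]⟩)
    exact h3
  rcases (by omega : i < 7 ∨ (7 ≤ i ∧ i < 13) ∨ 13 ≤ i) with h' | h' | h'
  · exact key 0 7 outRange_0 (by omega) (by omega)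
  · exact key 7 6 outRange_1 h'.1 (by omega)
  · exact key 13 6 outRange_2 h' (by omega)

theorem out_sound (B : EBasis) {n : ℕ} {W : List ℕ} (hn : (n, W) ∈ cW) (hn34 : n ≤ 34) {w : ℕ} (hw : w < 2048)
    (hm : orbMask.testBit w = true)
    (hE : (gSys KJ kDefs).v n * B.el w * ((gSys KJ kDefs).v n)⁻¹ ∈ B.E) : w ∈ W := by
  have h := outOK_of hn
  simp only [outOK, Bool.and_eq_true, List.all_eq_true, Bool.or_eq_true, Bool.not_eq_true'] at h
  obtain ⟨e1, e2⟩ := v_ok n hn34
  generalize hV : (gSys KJ kDefs).v n = v at hE e1 e2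
  have hl : eBasis.length = 11 := eBasis_shape.1
  have hf : List.Forall₂ MOK (B.g.map fun g => v * g * v⁻¹)
      (eBasis.map fun A => mB (mB (cVM.getD n []) A) (cVMi.getD n [])) := by
    rw [List.forall₂_map_left_iff, List.forall₂_map_right_iff]
    exact B.mok.imp fun _ _ hxy => (e1.mul hxy).mul e2
  obtain ⟨u, hu, hue⟩ := B.mem_E.1 hE
  have hconj : ev (B.g.map fun g => v * g * v⁻¹) w = B.el u := by
    rw [hue, EBasis.el]
    have := ev_conj v⁻¹ B.g w
    rw [inv_inv] at this
    exact this.symm
  have h1 := imgsL_one hf (w := w) (by simpa [hl] using hw)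
  rw [hconj] at h1
  have h2 := imgsL_one B.mok (w := u) (by simpa [hl] using hu)
  have hb := List.all_eq_true.1 buck_ok _ (List.mem_of_getElem? h2)
  obtain ⟨hwlt, h1'⟩ := List.getElem?_eq_some_iff.1 h1
  rcases h.2 ((imgV (B.el u) ⟨csep, csep_lt⟩).1, w)
      (List.mem_iff_getElem.2 ⟨w, by simpa using hwlt, by rw [List.getElem_zipIdx, h1', Nat.zero_add]⟩) with (h3 | h3) | h3
  · rw [hm] at h3; simp at h3
  · exact hasN_mem h3
  · exfalso
    have hb' : hasN (cBuck.get ((imgV (B.el u) ⟨csep, csep_lt⟩).1 % 1021)) (imgV (B.el u) ⟨csep, csep_lt⟩).1 = true := hb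
    simp only at h3
    exact Bool.false_ne_true (h3.symm.trans hb')

theorem mask_closed (B : EBasis) (a : P) : ∀ v < 2048, orbMask.testBit v = true →
    ∃ w < 2048, orbMask.testBit w = true ∧ (jHom a)⁻¹ * B.el v * jHom a = B.el w := by
  haveI := finite_P
  have ha : a ∈ (Subgroup.closure (im '' Set.Iio 3)).toSubmonoid := closure_gens ▸ Subgroup.mem_top a
  rw [Subgroup.closure_toSubmonoid_of_finite] at ha
  induction ha using Submonoid.closure_induction with
  | mem x hx =>
    intro v hv hm
    obtain ⟨l, hl, rfl⟩ := hx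
    have h := orb1_ok
    simp only [orb1OK, Bool.and_eq_true, List.all_eq_true, List.mem_range, Bool.or_eq_true, Bool.not_eq_true'] at h
    refine ⟨_, va_rows_lt hl, ?_, by rw [jHom_letG hl]; exact B.el_conj hl v⟩
    rcases h.2 v hv with h' | h'
    · rw [hm] at h'; simp at h'
    · exact h' l hl
  | one => intro v hv hm; exact ⟨v, hv, hm, by simp⟩
  | mul x y _ _ hx hy =>
    intro v hv hm
    obtain ⟨w, hw, hwm, e⟩ := hx v hv hm
    obtain ⟨u, hu, hum, e'⟩ := hy w hw hwm
    exact ⟨u, hu, hum, by rw [← e', ← e, map_mul]; group⟩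

theorem mask_reach (B : EBasis) : ∀ v, orbMask.testBit v = true →
    ∃ a : P, (jHom a)⁻¹ * B.el 1 * jHom a = B.el v := by
  have h := orb1_ok
  simp only [orb1OK, Bool.and_eq_true] at h
  obtain ⟨⟨ho, -⟩, -⟩ := h
  have key : ∀ (l : List (ℕ × ℕ × ℕ)) (seen out : ℕ), orbFrom seen l = some out →
      (∀ j, seen.testBit j = true → ∃ a : P, (jHom a)⁻¹ * B.el 1 * jHom a = B.el j) →
      ∀ j, out.testBit j = true → ∃ a : P, (jHom a)⁻¹ * B.el 1 * jHom a = B.el j := by
    intro l
    induction l with
    | nil => intro seen out h hs j hj; simp only [orbFrom, Option.some.injEq] at h; exact hs j (h ▸ hj)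
    | cons e l ih =>
      intro seen out h hs
      obtain ⟨n, w, l'⟩ := e
      simp only [orbFrom, Bool.cond_eq_ite] at h
      split at h <;> rename_i hc'
      all_goals try simp at h
      simp only [Bool.and_eq_true, Nat.blt_eq] at hc'
      obtain ⟨⟨hl, hseen⟩, hq⟩ := hc'
      refine ih _ out h fun j hj => ?_
      change (seen ||| 1 <<< n).testBit j = true at hj
      rw [Nat.testBit_or, Bool.or_eq_true, Nat.one_shiftLeft, Nat.testBit_two_pow, decide_eq_true_eq] at hj
      rcases hj with hj | rfl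
      · exact hs j hj
      · obtain ⟨a, ha⟩ := hs w hseen
        refine ⟨a * im l', ?_⟩
        rw [← Nat.eq_of_beq_eq_true hq, ← B.el_conj hl, ← ha, map_mul, jHom_letG hl]
        group
  intro v hv
  cases hout : orbFrom 2 cOrb with
  | none => simp [hout] at ho
  | some out =>
    simp only [hout] at ho
    refine key cOrb 2 out hout (fun j hj => ?_) v (by rw [Nat.eq_of_beq_eq_true ho]; exact hv)
    obtain rfl : j = 1 := by
      rw [show (2 : ℕ) = 2 ^ 1 from rfl, Nat.testBit_two_pow, decide_eq_true_eq] at hj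
      exact hj.symm
    exact ⟨1, by simp⟩

/-- The stabiliser of the involution in the small group. -/
noncomputable def stab1 (B : EBasis) : Subgroup P := (Subgroup.centralizer {B.el 1}).comap jHom

theorem mem_stab1 {B : EBasis} {a : P} : a ∈ stab1 B ↔ jHom a * B.el 1 = B.el 1 * jHom a := by
  rw [stab1, Subgroup.mem_comap, Subgroup.mem_centralizer_singleton_iff]

theorem card_stab1 (B : EBasis) : Nat.card (stab1 B) ≤ 138240 := by
  haveI := finite_P
  have h := orb1_ok
  simp only [orb1OK, Bool.and_eq_true] at h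
  obtain ⟨⟨-, hlen⟩, -⟩ := h
  let L := (List.range 2048).filter fun v => Nat.testBit orbMask v
  have hL : L.length = 1771 := Nat.eq_of_beq_eq_true hlen
  choose a ha using fun v : {v // v ∈ L} => mask_reach B v.1 (List.mem_filter.1 v.2).2
  have hinj : Function.Injective fun v : {v // v ∈ L} => (((a v)⁻¹ : P) : P ⧸ stab1 B) := by
    intro v w h
    have h' := QuotientGroup.eq.1 h
    rw [inv_inv, mem_stab1, map_mul, map_inv] at h'
    refine Subtype.ext (B.el_inj (List.mem_range.1 (List.mem_filter.1 v.2).1)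
      (List.mem_range.1 (List.mem_filter.1 w.2).1) ?_)
    rw [← ha v, ← ha w]
    calc (jHom (a v))⁻¹ * B.el 1 * jHom (a v)
        = (jHom (a v))⁻¹ * (B.el 1 * (jHom (a v) * (jHom (a w))⁻¹)) * jHom (a w) := by group
      _ = (jHom (a v))⁻¹ * (jHom (a v) * (jHom (a w))⁻¹ * B.el 1) * jHom (a w) := by rw [h']
      _ = (jHom (a w))⁻¹ * B.el 1 * jHom (a w) := by group
  have h1 := Nat.card_le_card_of_injective _ hinj
  have hnd : L.Nodup := List.nodup_range.filter _
  have h2 : Nat.card {v // v ∈ L} = 1771 := by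
    rw [← hL, ← List.toFinset_card_of_nodup hnd, ← Nat.card_eq_finsetCard]
    exact Nat.card_congr (Equiv.subtypeEquivRight fun v => List.mem_toFinset.symm)
  rw [h2] at h1
  have h3 := Subgroup.card_mul_index (stab1 B)
  rw [card_P] at h3
  change 1771 ≤ (stab1 B).index at h1
  nlinarith

theorem card_cent_KJ (B : EBasis) : Nat.card (Subgroup.centralizer {B.el 1} ⊓ KJ : Subgroup Spor.J4) ≤ 2048 * 138240 := by
  haveI := finite_J4
  haveI := finite_P
  choose e he a hea using fun g : (Subgroup.centralizer {B.el 1} ⊓ KJ : Subgroup Spor.J4) => B.dec g.2.2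
  have hmem : ∀ g, a g ∈ stab1 B := fun g => by
    rw [mem_stab1]
    have h := Subgroup.mem_centralizer_singleton_iff.1 g.2.1
    obtain ⟨v, -, hv⟩ := B.mem_E.1 (he g)
    rw [hea g, ← hv, mul_assoc, ← mul_assoc (B.el 1), B.el_comm 1 v, mul_assoc] at h
    exact mul_left_cancel h
  refine (Nat.card_le_card_of_injective (fun g => ((⟨e g, he g⟩ : B.E), (⟨a g, hmem g⟩ : stab1 B))) ?_).trans ?_
  · intro g g' h
    rw [Prod.mk.injEq, Subtype.mk.injEq, Subtype.mk.injEq] at h
    exact Subtype.ext (by rw [hea g, hea g', h.1, h.2])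
  · rw [Nat.card_prod, B.card_E]
    exact Nat.mul_le_mul_left _ (card_stab1 B)

/-- The list for a coset. -/
def wList (n : ℕ) : List ℕ :=
  bif Nat.beq n 0 then (List.range 2048).filter fun v => Nat.testBit orbMask v
  else ((cW.find? fun e => Nat.beq e.1 n).map Prod.snd).getD []

theorem bound77 : (kLiveN.map fun n => (wList n).length * 138240 / kOrd n).sum = 77 ∧
    kLiveN.all (fun n => Nat.beq (kSize n * kOrd n) 244823040 &&
      Nat.ble n 34 && (Nat.beq n 0 || cW.any fun e => Nat.beq e.1 n)) = true := by decide +kernel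

set_option maxHeartbeats 1000000 in
theorem card_cent_le (B : EBasis) : Nat.card (Subgroup.centralizer {B.el 1}) ≤ 21799895040 := by
  classical
  haveI := finite_J4
  haveI := finite_P
  obtain ⟨G, hidx, hex, -, heq⟩ := orbit_bij
  obtain ⟨hsum, hall⟩ := bound77
  simp only [List.all_eq_true, Bool.and_eq_true, Bool.or_eq_true, List.any_eq_true] at hall
  let S := gSys KJ kDefs
  let C : Subgroup Spor.J4 := Subgroup.centralizer {B.el 1}
  let Img : Set (Spor.J4 ⧸ KJ) := (fun g : Spor.J4 => (g : Spor.J4 ⧸ KJ)) '' (C : Set Spor.J4)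
  have hC : Nat.card C ≤ Img.ncard * Nat.card (C ⊓ KJ : Subgroup Spor.J4) := by
    rw [← Subgroup.card_mul_index (KJ.subgroupOf C), mul_comm]
    refine Nat.mul_le_mul ?_ (le_of_eq ?_)
    · rw [← Nat.card_coe_set_eq]
      let ι : C ⧸ KJ.subgroupOf C → Img := fun q => ⟨Quotient.map' Subtype.val (fun a b hab => by
          rw [QuotientGroup.leftRel_apply] at hab ⊢
          exact hab) q, by
        refine Quotient.inductionOn' q fun g => ?_
        exact ⟨g.1, g.2, rfl⟩⟩
      refine Nat.card_le_card_of_injective ι ?_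
      intro q q'
      refine Quotient.inductionOn₂' q q' fun a b h => Quotient.sound' ?_
      rw [QuotientGroup.leftRel_apply, Subgroup.mem_subgroupOf]
      have h' : ((a.1 : Spor.J4) : Spor.J4 ⧸ KJ) = (b.1 : Spor.J4) := congrArg Subtype.val h
      simpa using QuotientGroup.eq.1 h'
    · exact Nat.card_congr
        { toFun := fun g => ⟨g.1.1, g.1.2, g.2⟩
          invFun := fun g => ⟨⟨g.1, g.2.1⟩, g.2.2⟩
          left_inv := fun g => rfl
          right_inv := fun g => rfl }
  let Img' : ℕ → Set (Spor.J4 ⧸ KJ) := fun n => {q ∈ Img | ∃ a, orbMap (S := S) n a = q}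
  have hpiece : ∀ n ∈ kLiveN, (Img' n).ncard ≤ (wList n).length * 138240 / kOrd n := by
    intro n hn
    obtain ⟨⟨hk, hn34⟩, hW⟩ := hall n hn
    have hcard : Nat.card (G n) = kOrd n := by
      have h3 := Subgroup.card_mul_index (G n)
      rw [hidx n hn, card_P, ← Nat.eq_of_beq_eq_true hk, mul_comm (kSize n)] at h3
      refine Nat.eq_of_mul_eq_mul_right ?_ h3
      rcases Nat.eq_zero_or_pos (kSize n) with h0 | h0
      · have := Nat.eq_of_beq_eq_true hk; rw [h0, zero_mul] at this; omega
      · exact h0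
    rw [Nat.le_div_iff_mul_le (hcard ▸ Nat.card_pos), ← hcard, ← Nat.card_coe_set_eq, ← Nat.card_prod]
    choose r hr using fun q : Img' n => q.2.2
    have hgood : ∀ b : P, orbMap (S := S) n b ∈ Img → ∃ w ∈ wList n, (jHom b)⁻¹ * B.el 1 * jHom b = B.el w := by
      rintro b ⟨g, hg, hgb⟩
      obtain ⟨w, hw, hwm, hbw⟩ := mask_closed B b 1 (by norm_num) (by decide +kernel)
      refine ⟨w, ?_, hbw⟩
      have hk' : (jHom b * (S.v n)⁻¹)⁻¹ * g ∈ KJ := QuotientGroup.eq.1 hgb.symm
      generalize hkdef : (jHom b * (S.v n)⁻¹)⁻¹ * g = k at hk'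
      have hg' : g = jHom b * (S.v n)⁻¹ * k := by rw [← hkdef, mul_inv_cancel_left]
      have hgz := Subgroup.mem_centralizer_singleton_iff.1 hg
      have hmemE : S.v n * B.el w * (S.v n)⁻¹ ∈ B.E := by
        have hkE : ∀ x ∈ B.E, k * x * k⁻¹ ∈ B.E := fun x hx => by
          obtain ⟨e, he, c, rfl⟩ := B.dec hk'
          have h1 := B.E_conj c⁻¹ hx
          rw [map_inv, inv_inv] at h1
          have := B.E.mul_mem (B.E.mul_mem he h1) (B.E.inv_mem he)
          simpa [mul_assoc] using this
        have h2 := hkE _ (B.mem_E.2 ⟨1, by norm_num, rfl⟩)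
        have e : S.v n * B.el w * (S.v n)⁻¹ = k * B.el 1 * k⁻¹ := by
          rw [← hbw]
          calc S.v n * ((jHom b)⁻¹ * B.el 1 * jHom b) * (S.v n)⁻¹
              = k * (g⁻¹ * B.el 1 * g) * k⁻¹ := by rw [hg']; group
            _ = _ := by rw [mul_assoc g⁻¹, ← hgz, inv_mul_cancel_left]
        rwa [e]
      rcases hW with h0 | ⟨e, he, hen⟩
      · rw [wList, h0, cond_true]
        exact List.mem_filter.2 ⟨List.mem_range.2 hw, hwm⟩
      · have hn0 : Nat.beq n 0 = false := by
          cases hb : Nat.beq n 0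
          · rfl
          · exfalso
            have := (by decide +kernel : ∀ e ∈ cW, e.1 ≠ 0) e he
            exact this ((Nat.eq_of_beq_eq_true hen).trans (Nat.eq_of_beq_eq_true hb))
        rw [wList, hn0, cond_false]
        cases hf : cW.find? (fun e => Nat.beq e.1 n) with
        | none => exact absurd hen (by simpa using List.find?_eq_none.1 hf e he)
        | some e' =>
          have hm' := List.mem_of_find?_eq_some hf
          have hn' : e'.1 = n := Nat.eq_of_beq_eq_true (by simpa using List.find?_some hf)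
          exact out_sound B (n := n) (hn' ▸ hm') (Nat.le_of_ble_eq_true hn34) hw hwm hmemE
    have hA : ∀ z : Img' n × G n, orbMap (S := S) n (r z.1 * z.2.1) = z.1.1 := fun z => by
      rw [← heq n hn (r z.1) (r z.1 * z.2.1) (by rw [inv_mul_cancel_left]; exact z.2.2), hr]
    choose w hw hwb using fun z : Img' n × G n => hgood (r z.1 * z.2.1) (by rw [hA]; exact z.1.2.1)
    choose c hc using fun v : {v // v ∈ wList n ∧ ∃ a : P, (jHom a)⁻¹ * B.el 1 * jHom a = B.el v} => v.2.2
    let T := {v // v ∈ wList n ∧ ∃ a : P, (jHom a)⁻¹ * B.el 1 * jHom a = B.el v}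
    let tv : Img' n × G n → T := fun z => ⟨w z, hw z, _, hwb z⟩
    have hs : ∀ z, r z.1 * z.2.1 * (c (tv z))⁻¹ ∈ stab1 B := fun z => by
      rw [mem_stab1]
      have h1 := hwb z
      have h2 : (jHom (c (tv z)))⁻¹ * B.el 1 * jHom (c (tv z)) = B.el (w z) := hc (tv z)
      rw [← h2] at h1
      rw [map_mul, map_inv]
      generalize jHom (r z.1 * z.2.1) = p at h1 ⊢
      generalize jHom (c (tv z)) = q at h1 ⊢
      calc p * q⁻¹ * B.el 1 = p * (q⁻¹ * B.el 1 * q) * q⁻¹ := by group
        _ = p * (p⁻¹ * B.el 1 * p) * q⁻¹ := by rw [h1]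
        _ = B.el 1 * (p * q⁻¹) := by group
    haveI : Finite T := Finite.of_injective (fun v : T => (⟨v.1, List.mem_toFinset.2 v.2.1⟩ : (wList n).toFinset))
      fun a b h => Subtype.ext (congrArg (fun u : (wList n).toFinset => u.1) h)
    refine (Nat.card_le_card_of_injective (fun z => ((tv z, ⟨_, hs z⟩) : T × stab1 B)) ?_).trans ?_
    · intro z z' h
      rw [Prod.mk.injEq, Subtype.mk.injEq] at h
      obtain ⟨h1, h2⟩ := h
      have ht : tv z = tv z' := Subtype.ext h1
      have h2' : r z.1 * z.2.1 * (c (tv z))⁻¹ = r z'.1 * z'.2.1 * (c (tv z'))⁻¹ := congrArg Subtype.val h2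
      rw [ht] at h2'
      have h3 := mul_right_cancel h2'
      have h4 : z.1 = z'.1 := Subtype.ext (by rw [← hA z, h3, hA z'])
      rw [h4] at h3
      exact Prod.ext h4 (Subtype.ext (mul_left_cancel h3))
    · rw [Nat.card_prod]
      refine Nat.mul_le_mul ?_ (card_stab1 B)
      haveI : Finite {v // v ∈ wList n} := (wList n).finite_toSet.to_subtype
      refine (Nat.card_le_card_of_injective (fun v : T => (⟨v.1, v.2.1⟩ : {v // v ∈ wList n}))
        (fun a b h => Subtype.ext (congrArg (fun u : {v // v ∈ wList n} => u.1) h))).trans ?_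
      rw [Nat.card_congr (Equiv.subtypeEquivRight fun v => List.mem_toFinset.symm), Nat.card_eq_finsetCard]
      exact List.toFinset_card_le _
  have hImg : Img.ncard ≤ 77 := by
    rw [← hsum]
    have hsub : Img ⊆ ⋃ n ∈ kLiveN.toFinset, Img' n := fun q hq => by
      obtain ⟨n, hn, a, ha⟩ := hex q
      exact Set.mem_biUnion (List.mem_toFinset.2 hn) ⟨hq, a, ha⟩
    refine (Set.ncard_le_ncard hsub).trans ((Finset.set_ncard_biUnion_le _ _).trans ?_)
    rw [← List.sum_toFinset _ kLive_facts.1]
    exact Finset.sum_le_sum fun n hn => hpiece n (List.mem_toFinset.1 hn)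
  calc Nat.card C ≤ 77 * (2048 * 138240) := hC.trans (Nat.mul_le_mul hImg (card_cent_KJ B))
    _ = 21799895040 := by norm_num

end Cfsg.Lib.J4Cert
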