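import Cfsg.Agent.J4Cert.CentDef

/-!
The checks of the centraliser are true.
-/

set_option autoImplicit false
set_option maxRecDepth 8000
set_option Elab.async false

namespace Cfsg.Lib.J4Cert

theorem cGen0_ok : genOK2 cg0 cgi0 cH0 cM0 = true := by decide +kernel

theorem cGen1_ok : genOK2 cg1 cgi1 cH1 cM1 = true := by decide +kernel

theorem hist_ok : histOK = true := by decide +kernel

theorem relQ_ok : relQ = true := by decide +kernel

theorem form_ok : formOK = true := by decide +kernel

theorem act_ok : actOK = true := by decide +kernel

theorem sepQ_ok : sep (zM :: cQ) 0 [csep] [csep] = true := by decide +kernel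

theorem obj_ok : objOK = true := by decide +kernel

theorem objNe_ok : objNe = true := by decide +kernel

theorem objImg_ok : objImg = true := by decide +kernel

theorem tabs_ok : tabsOK = true := by decide +kernel

theorem cChain_ok : CosetCert.chainOK cTabs 22 cTabs.length cChain = true ∧
    CosetCert.chainSize cChain = 887040 := by decide +kernel

theorem ker_ok : kerOK = true := by decide +kernel

theorem hex_ok : hexOK = true := by decide +kernel

theorem hexImg_ok : hexImg = true := by decide +kernel

end Cfsg.Lib.J4Cert
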