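import Cfsg.Agent.J4Cert.EData
import Cfsg.Agent.J4Cert.Base
import Cfsg.Agent.J4Cert.Data.sylow

/-!
Checks of a Sylow subgroup and of the search for large elementary abelian subgroups.
-/

set_option autoImplicit false
set_option maxRecDepth 8000

namespace Cfsg.Lib.J4Cert

/-- The identity of degree eleven. -/
def id11 : List ℕ := (List.range' 0 11).map fun i => 2 ^ i

/-- The action of a word. -/
def vword : List ℕ → List ℕ
  | [] => id11
  | l :: w => J4Rep.mmul (eRows.getD l []) (vword w)

/-- Equality of lists, by evaluation. -/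
def leq : List ℕ → List ℕ → Bool
  | [], [] => true
  | a :: l, b :: r => Nat.beq a b && leq l r
  | _, _ => false

/-- The entry of the product by a generator. -/
def sylStep (k j : ℕ) : ℕ := Nat.land (Nat.shiftRight (sylSteps.getD k 0) (10 * j)) 1023

/-- The generators agree with their words. -/
def genOK : Bool :=
  Nat.beq sylW.length 5 && Nat.beq sylMats.length 5 &&
    (List.range 5).all fun j => (sylW.getD j []).all (fun l => Nat.blt l 3) &&
      leq (vword (sylW.getD j [])) (sylMats.getD j [])

/-- The products by one generator. -/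
def stepOK (sts : List ℕ) (lo : ℕ) : Bool :=
  sts.zipIdx.all fun e =>
    let a := sylEls.get (lo + e.2)
    (List.range 5).all fun j =>
      let q := sylEls.get (Nat.land (Nat.shiftRight e.1 (10 * j)) 1023)
      Nat.beq q.1 (pm a.1 (wp (sylW.getD j []))) && leq q.2 (J4Rep.mmul a.2 (sylMats.getD j []))

/-- Each element comes from an earlier one. -/
def sylParOK : Bool :=
  Nat.beq sylPar.length 1023 && sylPar.zipIdx.all fun e =>
    Nat.ble e.1.1 e.2 && Nat.blt e.1.2 5 && Nat.beq (sylStep e.1.1 e.1.2) (e.2 + 1)

/-- The values strictly increase along a list. -/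
def incrFrom : ℕ → List ℕ → Bool
  | _, [] => true
  | v, k :: l => Nat.blt k 1024 && Nat.blt v (sylEls.get k).1 && incrFrom (sylEls.get k).1 l

/-- The involutions are listed. -/
def invOK : Bool :=
  (List.range 1024).all fun k =>
    let p := (sylEls.get k).1
    Nat.beq (pm p idp) p &&
      (Nat.beq k 0 || !Nat.beq (pm p p) idp || sylInv.any fun e => Nat.beq e.1 k)

/-- An entry of the search. -/
structure Inv2 where
  i : ℕ
  p : ℕ
  M : List ℕ
  com : ℕ
  fx : ℕ

/-- The entries of the search. -/
def invE : List Inv2 :=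
  sylInv.zipIdx.map fun e => ⟨e.2, (sylEls.get e.1.1).1, (sylEls.get e.1.1).2, e.1.2.1, e.1.2.2⟩

/-- The masks of commuting entries. -/
def comOK (l : List Inv2) : Bool :=
  l.all fun a => invE.all fun b => Nat.testBit a.com b.i || !Nat.beq (pm a.p b.p) (pm b.p a.p)

/-- The vectors on which a linear form vanishes, and the others, by the top digit. -/
def zero2 (D : List ℕ) (j : ℕ) : ℕ → ℕ × ℕ
  | 0 => (1, 0)
  | k + 1 =>
    let r := zero2 D j k
    bif Nat.testBit (D.getD k 0) j then
      (Nat.lor r.1 (Nat.shiftLeft r.2 (2 ^ k)), Nat.lor r.2 (Nat.shiftLeft r.1 (2 ^ k)))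
    else (Nat.lor r.1 (Nat.shiftLeft r.1 (2 ^ k)), Nat.lor r.2 (Nat.shiftLeft r.2 (2 ^ k)))

/-- The fixed vectors of a matrix, up to a bound. -/
def fixMask (D : List ℕ) : ℕ → ℕ
  | 0 => 2 ^ 2048 - 1
  | j + 1 => Nat.land (zero2 D j 11).1 (fixMask D j)

/-- The masks of fixed vectors. -/
def fxOK (l : List Inv2) : Bool :=
  l.all fun a => Nat.beq a.M.length 11 &&
    Nat.beq a.fx (fixMask ((List.range 11).map fun k => a.M.getD k 0 ^^^ 2 ^ k) 11)

/-- At most the given number of digits are one. -/
def peel : ℕ → ℕ → Bool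
  | 0, n => Nat.beq n 0
  | m + 1, n => bif Nat.beq n 0 then true else peel m (Nat.land n (n - 1))

/-- The list has the entry. -/
def hasN : List ℕ → ℕ → Bool
  | [], _ => false
  | a :: l, b => bif Nat.beq a b then true else hasN l b

/-- The search. -/
def dfs : ℕ → List ℕ → ℕ → List Inv2 → Bool
  | 0, _, _, _ => false
  | f + 1, K, W, c =>
    bif peel (2047 / (K.length + c.length)) W then true
    else match c with
      | [] => false
      | e :: r =>
        dfs f K W r &&
          (let K2 := K ++ K.map fun q => pm q e.p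
           dfs f K2 (Nat.land W e.fx) (r.filter fun b => Nat.testBit e.com b.i && !hasN K2 b.p))

/-- The first choices. -/
def rootOK : List Inv2 → Bool
  | [] => true
  | e :: r =>
    dfs 1000 [idp, pm idp e.p] e.fx (r.filter fun b => Nat.testBit e.com b.i && !hasN [idp, pm idp e.p] b.p) &&
      rootOK r

end Cfsg.Lib.J4Cert
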