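import Cfsg.Agent.J4Cert.EData
import Cfsg.Agent.J4Cert.Base
import Cfsg.Agent.J4Cert.SylDef
import Cfsg.Agent.J4Cert.Data.kSteps
import Cfsg.Agent.J4Cert.Data.centV
import Cfsg.Agent.J4Cert.Data.centW
import Cfsg.Agent.J4Cert.Data.centC

/-!
The finite checks for the centraliser of an involution.
-/

set_option autoImplicit false
set_option maxRecDepth 8000

namespace Cfsg.Lib.J4Cert

open Cfsg.Lib.J4Rep (va)

/-- A product of base permutations. -/
def bp : List ℕ → ℕ
  | [] => idp
  | k :: l => pm (baseTab.get k).1 (bp l)

/-- The inverse of a word. -/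
def invW (w : List ℕ) : List ℕ := (w.map invL).reverse

/-- The conjugate of the involution by a word. -/
def tcM (w : List ℕ) : List ℕ := mB (mB (wordM (invW w)) J4Rep.matT) (wordM w)

/-- One step of the cosets. -/
def vStep (m : ℕ) : Bool :=
  let d := kDefs.getD m (0, [])
  let w := cWords.getD m []
  let T := tcM w
  Nat.ble d.1 m && d.2.all (fun k => Nat.blt k baseN) && w.all (fun l => Nat.blt l 3) &&
    Nat.beq (pm (wp w) idp) (pm (bp d.2) idp) &&
    leq (cVM.getD (m + 1) []) (mB (cVM.getD d.1 []) T) &&
    leq (cVMi.getD (m + 1) []) (mB T (cVMi.getD d.1 []))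

/-- The cosets in a range. -/
def vOK (lo n : ℕ) : Bool := (List.range' lo n).all vStep

/-- The images of a vector under the selected products. -/
def imgsL : List (List ℕ) → List ℕ → List ℕ
  | [], L => L
  | A :: r, L => imgsL r (L ++ L.map fun w => vt (tabs4 A) w)

/-- The vector that separates. -/
def csep : ℕ := 0x20000

/-- The orbit of the involution, as a mask. -/
def orbMask : ℕ := cOrb.foldl (fun s e => Nat.lor s (Nat.shiftLeft 1 e.1)) 2

/-- The orbit is reached, closed and has 1771 vectors. -/
def orb1OK : Bool :=
  (match orbFrom 2 cOrb with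
    | some out => Nat.beq out orbMask
    | none => false) &&
    Nat.beq ((List.range 2048).filter fun v => Nat.testBit orbMask v).length 1771 &&
    (List.range 2048).all fun v =>
      !Nat.testBit orbMask v || (List.range 3).all fun l => Nat.testBit orbMask (va v (eRows.getD l []))

/-- The images of the abelian group are listed. -/
def buckOK : Bool := (imgsL eBasis [csep]).all fun v => hasN (cBuck.get (v % 1021)) v

/-- The vectors outside the list leave the abelian group. -/
def outOK (n : ℕ) (W : List ℕ) : Bool :=
  let V := cVM.getD n []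
  let Vi := cVMi.getD n []
  let L := imgsL (eBasis.map fun A => mB (mB V A) Vi) [csep]
  Nat.beq L.length 2048 &&
    L.zipIdx.all fun e => !Nat.testBit orbMask e.2 || hasN W e.2 || !hasN (cBuck.get (e.1 % 1021)) e.1

/-- The coset lists in a range. -/
def outRange (lo n : ℕ) : Bool := ((cW.drop lo).take n).all fun e => outOK e.1 e.2

/-- Powers of a matrix. -/
def mPow (A : List ℕ) : ℕ → List ℕ
  | 0 => J4Rep.idMat
  | n + 1 => mB A (mPow A n)

/-- The central involution. -/
def zM : List ℕ := eBasis.getD 0 []

/-- An element of the centraliser, from a conjugating word. -/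
def genOK2 (g gi w : List ℕ) (m : ℕ) : Bool :=
  let D := mB zM (mB (mB (wordM (invW w)) zM) (wordM w))
  w.all (fun l => Nat.blt l 4) && leq g (mB (wordM w) (mPow D m)) && leq (mB gi g) J4Rep.idMat &&
    leq gi (mB (mPow D (m + 1)) (wordM (invW w))) && leq (mB gi zM) (mB zM gi)

/-- The generators. -/
def cGens : List (List ℕ × List ℕ) := [(cg0, cgi0), (cg1, cgi1)]

/-- The origins of the basis. -/
def histOK : Bool :=
  Nat.beq cQ.length 12 && Nat.beq cHist.length 12 && cHist.zipIdx.all fun e =>
    let (u, p, j, b) := e.1
    bif b then Nat.blt u 2048 && leq (cQ.getD e.2 []) (evM eBasis u)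
    else Nat.blt p e.2 && Nat.blt j 2 &&
      leq (cQ.getD e.2 []) (mB (mB (cGens.getD j ([], [])).2 (cQ.getD p [])) (cGens.getD j ([], [])).1)

/-- A central element times a selected product. -/
def zev (b : Bool) (v : ℕ) : List ℕ := bif b then mB zM (evM cQ v) else evM cQ v

/-- The squares and commutators. -/
def relQ : Bool :=
  Nat.beq cSq.length 12 && Nat.beq cForm.length 12 && (List.range 12).all fun i =>
    leq (mB zM (cQ.getD i [])) (mB (cQ.getD i []) zM) &&
    leq (mB (cQ.getD i []) (cQ.getD i [])) (bif cSq.getD i false then zM else J4Rep.idMat) &&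
    (List.range 12).all fun j => Nat.ble j i ||
      (Nat.testBit (cForm.getD i 0) j == Nat.testBit (cForm.getD j 0) i &&
       leq (mB (cQ.getD i []) (cQ.getD j []))
        (bif Nat.testBit (cForm.getD i 0) j then mB zM (mB (cQ.getD j []) (cQ.getD i []))
         else mB (cQ.getD j []) (cQ.getD i [])))

/-- The form has no radical, and no square term on the diagonal. -/
def formOK : Bool :=
  (List.range 12).all (fun i => !Nat.testBit (cForm.getD i 0) i && decide (cForm.getD i 0 < 4096)) &&
    (List.range' 1 4095).all fun v => !Nat.beq (va v cForm) 0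

/-- The actions of the generators. -/
def actOK : Bool :=
  Nat.beq cAct.length 2 && (List.range 2).all fun j =>
    Nat.beq (cAct.getD j []).length 12 && (List.range 12).all fun i =>
      let a := (cAct.getD j []).getD i (0, false)
      Nat.blt a.1 4096 &&
        leq (mB (mB (cGens.getD j ([], [])).2 (cQ.getD i [])) (cGens.getD j ([], [])).1) (zev a.2 a.1)

/-- The rows of an action. -/
def actRows (j : ℕ) : List ℕ := (cAct.getD j []).map fun a => a.1

/-- The set of a subgroup. -/
def maskU : List ℕ → ℕ
  | [] => 0
  | a :: l => Nat.lor (Nat.shiftLeft 1 a) (maskU l)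

/-- The sets of the subgroups are spaces. -/
def objOK : Bool :=
  Nat.beq cObj.length 22 && cObj.all fun U =>
    let m := maskU U
    Nat.testBit m 0 && U.all fun a => Nat.blt a 4096 && U.all fun b => Nat.testBit m (a ^^^ b)

/-- The subgroups differ. -/
def objNe : Bool :=
  (List.range 22).all fun i => (List.range 22).all fun k => Nat.beq i k ||
    (cObj.getD i []).any fun u => !Nat.testBit (maskU (cObj.getD k [])) u

/-- The images of the subgroups. -/
def objImg : Bool :=
  (List.range 2).all fun j => (List.range 22).all fun i =>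
    let k := (cPerm.getD j []).getD i 0
    let m := maskU (cObj.getD k [])
    Nat.blt k 22 && (cObj.getD i []).all fun u => Nat.testBit m (va u (actRows j))

/-- The tables match the permutations. -/
def tabsOK : Bool :=
  Nat.beq cTabs.length 4 && (List.range 4).all (fun l => PermCert.valid 22 (cTabs.getD l (0, 0))) &&
    (List.range 2).all fun j =>
      (cTabs.getD (2 * j + 1) (0, 0) == PermCert.pinv (cTabs.getD (2 * j) (0, 0))) &&
        (List.range 22).all fun i => Nat.beq (PermCert.ap (cTabs.getD (2 * j) (0, 0)).1 i) ((cPerm.getD j []).getD i 0)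

/-- A product of the inverse generators. -/
def kerM : List ℕ → List ℕ
  | [] => J4Rep.idMat
  | j :: w => mB (cGens.getD j ([], [])).2 (kerM w)

/-- The permutation of a word at a point. -/
def kerP : List ℕ → ℕ → ℕ
  | [], i => i
  | j :: w, i => (cPerm.getD j []).getD (kerP w i) 0

/-- The element of order three in the kernel. -/
def kerOK : Bool :=
  let w := (List.replicate cKerN cKerW).flatten
  let C := kerM w
  w.all (fun j => Nat.blt j 2) && leq (mB C (mB C C)) J4Rep.idMat && !leq C J4Rep.idMat &&
    (List.range 22).all fun i => Nat.beq (kerP w i) i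

/-- The mask of a triple. -/
def tri (i j k : ℕ) : ℕ := 2 ^ i ||| 2 ^ j ||| 2 ^ k

/-- The hexads form a system. -/
def hexOK : Bool :=
  Nat.beq cHex.length 77 &&
    cHex.all (fun b => decide (b < 2 ^ 22) && Nat.beq ((List.range 22).filter fun i => Nat.testBit b i).length 6) &&
    (List.range 22).all fun i => (List.range i).all fun j => (List.range j).all fun k =>
      Nat.beq (cHex.filter fun b => Nat.beq (Nat.land b (tri i j k)) (tri i j k)).length 1

/-- The image of a mask. -/
def pmask (p : List ℕ) (b : ℕ) : ℕ :=
  (List.range 22).foldl (fun s i => bif Nat.testBit b i then Nat.lor s (Nat.shiftLeft 1 (p.getD i 0)) else s) 0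

/-- The hexads are permuted. -/
def hexImg : Bool := cPerm.all fun p => cHex.all fun b => hasN cHex (pmask p b)

end Cfsg.Lib.J4Cert
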