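import Cfsg.Agent.J4Cert.ESub
import Cfsg.Agent.J4Cert.CentDef
import Cfsg.Agent.J4Cert.Mask

/-!
Products of selected elements that commute up to a central involution.
-/

set_option autoImplicit false

namespace Cfsg.Lib.J4Cert

variable {G : Type*} [Group G]

/-- A central involution or one. -/
def zb (z : G) (b : Bool) : G := bif b then z else 1

/-- The list commutes and squares up to the central involution. -/
structure ZC (z : G) (l : List G) : Prop where
  two : z * z = 1
  cen : ∀ g ∈ l, g * z = z * g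
  sq : ∀ g ∈ l, ∃ b, g * g = zb z b
  com : ∀ g ∈ l, ∀ h ∈ l, ∃ b, g * h = zb z b * (h * g)

theorem zb_xor {z : G} (h : z * z = 1) (a b : Bool) : zb z a * zb z b = zb z (xor a b) := by
  cases a <;> cases b <;> simp [zb, h]

theorem zb_comm {z g : G} (h : g * z = z * g) (b : Bool) : g * zb z b = zb z b * g := by
  cases b <;> simp [zb, h]

theorem ZC.tail {z g : G} {l : List G} (h : ZC z (g :: l)) : ZC z l :=
  ⟨h.two, fun x hx => h.cen x (List.mem_cons_of_mem g hx), fun x hx => h.sq x (List.mem_cons_of_mem g hx),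
    fun x hx y hy => h.com x (List.mem_cons_of_mem g hx) y (List.mem_cons_of_mem g hy)⟩

theorem ev_central {z : G} : ∀ {l : List G}, (∀ g ∈ l, g * z = z * g) → ∀ v, ev l v * z = z * ev l v
  | [], _, v => by simp [ev]
  | g :: l, h, v => by
    simp only [List.forall_mem_cons] at h
    rw [ev, mul_assoc, ev_central h.2, ← mul_assoc, ← mul_assoc]
    congr 1
    split <;> simp [h.1]

/-- A selected product against one element, with the form read from rows. -/
theorem ev_swap {z h : G} (hz : z * z = 1) (hh : h * z = z * h) (j : ℕ) : ∀ {l : List G} {r : List ℕ},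
    List.Forall₂ (fun g a => g * z = z * g ∧ g * h = zb z (Nat.testBit a j) * (h * g)) l r →
      ∀ v, ev l v * h = zb z (Nat.testBit (J4Rep.va v r) j) * (h * ev l v)
  | _, _, List.Forall₂.nil, v => by simp [ev, J4Rep.va, zb]
  | _, _, List.Forall₂.cons (a := g) (b := a) (l₁ := l) (l₂ := r) hg hl, v => by
    have ih := ev_swap hz hh j hl (v / 2)
    have hc : ∀ b x, g * (zb z b * x) = zb z b * (g * x) := fun b x => by
      rw [← mul_assoc, zb_comm hg.1, mul_assoc]
    rw [ev, J4Rep.va, Nat.testBit_xor]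
    rcases Nat.mod_two_eq_zero_or_one v with hm | hm
    · rw [if_neg (by omega), if_neg (by omega), one_mul, ih, Nat.zero_testBit, Bool.false_xor]
    · rw [if_pos hm, if_pos hm, mul_assoc, ih, hc, ← mul_assoc g h, hg.2, ← mul_assoc (zb z _), ← mul_assoc (zb z _),
        zb_xor hz, mul_assoc, mul_assoc, Bool.xor_comm]

theorem ev_mul {z : G} : ∀ {l : List G}, ZC z l → ∀ a b, ∃ c, ev l a * ev l b = zb z c * ev l (a ^^^ b)
  | [], _, a, b => ⟨false, by simp [ev, zb]⟩
  | g :: l, h, a, b => by
    have ht := h.tail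
    obtain ⟨c, hc⟩ := ev_mul ht (a / 2) (b / 2)
    have hcen : ∀ k x, g * (zb z k * x) = zb z k * (g * x) := fun k x => by
      rw [← mul_assoc, zb_comm (h.cen g List.mem_cons_self), mul_assoc]
    have hswap : ∀ m : List G, (∀ x ∈ m, x ∈ l) → ∀ w, ∃ k, ev m w * g = zb z k * (g * ev m w) := by
      intro m
      induction m with
      | nil => intro _ w; exact ⟨false, by simp [ev, zb]⟩
      | cons x m ih =>
        intro hm w
        obtain ⟨k, hk⟩ := ih (fun y hy => hm y (List.mem_cons_of_mem x hy)) (w / 2)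
        rw [ev]
        rcases Nat.mod_two_eq_zero_or_one w with hw | hw
        · exact ⟨k, by rw [if_neg (by omega), one_mul, hk]⟩
        · have hxl := List.mem_cons_of_mem g (hm x List.mem_cons_self)
          obtain ⟨k', hk'⟩ := h.com x hxl g List.mem_cons_self
          refine ⟨xor k k', ?_⟩
          rw [if_pos hw, mul_assoc, hk, ← mul_assoc x, zb_comm (h.cen x hxl), mul_assoc, ← mul_assoc x g, hk',
            mul_assoc (zb z k'), ← mul_assoc (zb z k), zb_xor h.two, mul_assoc g x]
    simp only [ev, Nat.xor_div_two, J4Rep.xor_mod_two]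
    rcases Nat.mod_two_eq_zero_or_one a with ha | ha <;> rcases Nat.mod_two_eq_zero_or_one b with hb | hb <;>
      simp only [ha, hb, Nat.reduceAdd, Nat.reduceMod, zero_ne_one, ↓reduceIte, one_mul]
    · exact ⟨c, hc⟩
    · obtain ⟨k, hk⟩ := hswap l (fun x hx => hx) (a / 2)
      refine ⟨xor k c, ?_⟩
      rw [← mul_assoc, hk, mul_assoc, mul_assoc, hc, hcen, ← mul_assoc, zb_xor h.two]
    · exact ⟨c, by rw [mul_assoc, hc, hcen]⟩
    · obtain ⟨k, hk⟩ := hswap l (fun x hx => hx) (a / 2)
      obtain ⟨s, hs⟩ := h.sq g List.mem_cons_self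
      refine ⟨xor (xor k c) s, ?_⟩
      rw [mul_assoc, ← mul_assoc (ev l (a / 2)), hk, mul_assoc (zb z k), mul_assoc g (ev l _), hc]
      simp only [hcen]
      rw [← mul_assoc (zb z k), zb_xor h.two, ← mul_assoc g g, hs, ← mul_assoc (zb z (xor k c)), zb_xor h.two]

theorem ev_zero_gen {H : Type*} [Group H] : ∀ l : List H, ev l 0 = 1 := fun l => by induction l <;> simp_all [ev]

/-- The image of a selected product under a map. -/
theorem ev_map {z : G} {H : Type*} [Group H] {y : H} {l : List H} (hy : y * y = 1) (hl : ZC y l) (f : G → H)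
    (hmul : ∀ a b, f (a * b) = f a * f b) (h1 : f 1 = 1) : ∀ {m : List G} {r : List ℕ},
    List.Forall₂ (fun g a => ∃ b, f g = zb y b * ev l a) m r →
      ∀ v, ∃ b, f (ev m v) = zb y b * ev l (J4Rep.va v r)
  | _, _, List.Forall₂.nil, v => ⟨false, by simp [ev, J4Rep.va, zb, h1, ev_zero_gen]⟩
  | _, _, List.Forall₂.cons (a := g) (b := a) (l₁ := m) (l₂ := r) hg hl', v => by
    obtain ⟨c, hc⟩ := ev_map (z := z) hy hl f hmul h1 hl' (v / 2)
    obtain ⟨b, hb⟩ := hg
    rw [ev, J4Rep.va, hmul]
    rcases Nat.mod_two_eq_zero_or_one v with hm | hm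
    · rw [if_neg (by omega), if_neg (by omega), h1, one_mul, hc, Nat.zero_xor]
      exact ⟨c, rfl⟩
    · obtain ⟨k, hk⟩ := ev_mul hl a (J4Rep.va (v / 2) r)
      refine ⟨xor (xor b c) k, ?_⟩
      rw [if_pos hm, if_pos hm, hb, hc, mul_assoc, ← mul_assoc (ev l a), zb_comm (ev_central hl.cen a), mul_assoc, hk,
        ← mul_assoc (zb y b), zb_xor hy, ← mul_assoc, zb_xor hy]

end Cfsg.Lib.J4Cert
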