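import Cfsg.Agent.J4Cert.MatCheck

/-!
Elements of orders 29, 31, 37 and 43 and a subgroup of order 1331 in the image.
-/

set_option autoImplicit false
set_option maxRecDepth 8000

namespace Cfsg.Lib.J4Cert

open Cfsg

/-- The powers by fast products. -/
def powB (A : List ℕ) : ℕ → List ℕ
  | 0 => J4Rep.idMat
  | n + 1 => mB (powB A n) A

/-- A nontrivial matrix of prime order. -/
def ordOK (k p : ℕ) : Bool := (powB (matAt k) p == J4Rep.idMat) && matAt k != J4Rep.idMat

/-- The relations of the group of order 1331. -/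
def elevenOK : Bool :=
  ordOK 179 11 && ordOK 329 11 && ordOK 341 11 &&
    (mB (matAt 179) (matAt 329) == mB (mB (matAt 329) (matAt 179)) (matAt 341)) &&
    (mB (matAt 179) (matAt 341) == mB (matAt 341) (matAt 179)) &&
    (mB (matAt 329) (matAt 341) == mB (matAt 341) (matAt 329))

theorem eleven_ok : elevenOK = true := by decide +kernel

theorem primes_ok : ordOK 353 29 = true ∧ ordOK 368 31 = true ∧ ordOK 376 37 = true ∧ ordOK 390 43 = true := by
  decide +kernel

theorem MOK.powB {g : Spor.J4} {A : List ℕ} (hg : MOK g A) : ∀ n, MOK (g ^ n) (powB A n)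
  | 0 => by rw [pow_zero]; exact MOK.one
  | n + 1 => by rw [pow_succ]; exact (MOK.powB hg n).mul hg

theorem okMat_eq_idMat {A : List ℕ} (hA : okMat A = true) (h : ∀ v : J4Rep.Vec, J4Rep.va v.1 A = v.1) :
    A = J4Rep.idMat := by
  simp only [okMat, Bool.and_eq_true, List.all_eq_true, decide_eq_true_eq] at hA
  have hl := Nat.eq_of_beq_eq_true hA.1
  have hrow : ∀ (B : List ℕ) (i : ℕ), i < B.length → J4Rep.va (2 ^ i) B = B.getD i 0 := by
    intro B
    induction B with
    | nil => intro i hi; simp at hi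
    | cons r B ih =>
      intro i hi
      cases i with
      | zero =>
        have : J4Rep.va 0 B = 0 := J4Rep.va_zero B
        simp [J4Rep.va, this]
      | succ i =>
        rw [J4Rep.va, List.getD_cons_succ, ← ih i (by simpa using hi)]
        have e : 2 ^ (i + 1) = 2 * 2 ^ i := pow_succ' 2 i
        rw [e]
        simp
  refine List.ext_getElem (by rw [hl, J4Rep.idMat, List.length_map, List.length_range]) fun i h1 h2 => ?_
  have hi : i < 112 := hl ▸ h1
  have := h ⟨2 ^ i, Nat.pow_lt_pow_right (by norm_num) hi⟩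
  rw [hrow A i h1, List.getD_eq_getElem _ _ h1] at this
  rw [this]
  simp [J4Rep.idMat]

theorem exists_order {k p : ℕ} (hp : p.Prime) (hk : k < 398) (h : ordOK k p = true) :
    ∃ g : Spor.J4, MOK g (matAt k) ∧ orderOf (rhoG g) = p := by
  simp only [ordOK, Bool.and_eq_true, beq_iff_eq, bne_iff_ne, ne_eq] at h
  obtain ⟨g, hg⟩ := mats_mem k hk
  haveI := Fact.mk hp
  refine ⟨g, hg, orderOf_eq_prime ?_ fun h1 => h.2 ?_⟩
  · rw [← map_pow]; exact (h.1 ▸ hg.powB p).rho_one
  · refine okMat_eq_idMat hg.1 fun v => ?_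
    have := hg.2 v
    rw [h1] at this
    exact this.symm

/-- A further element of prime order which normalises a subgroup and lies outside multiplies the order. -/
theorem card_step {Q : Type*} [Group Q] [Finite Q] {p : ℕ} (hp : p.Prime) {N : Subgroup Q} {g : Q}
    (hn : g ∈ Subgroup.normalizer (N : Set Q)) (hg : g ∉ N) (hgp : g ^ p = 1) :
    p * Nat.card N ∣ Nat.card (N ⊔ Subgroup.zpowers g : Subgroup Q) := by
  set M := N ⊔ Subgroup.zpowers g
  haveI : (N.subgroupOf M).Normal := Subgroup.normal_subgroupOf_of_le_normalizer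
    (sup_le Subgroup.le_normalizer (Subgroup.zpowers_le.2 hn))
  haveI := Fact.mk hp
  let x : M := ⟨g, (le_sup_right : Subgroup.zpowers g ≤ M) (Subgroup.mem_zpowers g)⟩
  have h1 : orderOf (QuotientGroup.mk x : M ⧸ N.subgroupOf M) = p := by
    refine orderOf_eq_prime ?_ ?_
    · rw [← QuotientGroup.mk_pow, show x ^ p = 1 from Subtype.ext hgp, QuotientGroup.mk_one]
    · rw [Ne, QuotientGroup.eq_one_iff, Subgroup.mem_subgroupOf]
      exact hg
  have h2 : p ∣ Nat.card (M ⧸ N.subgroupOf M) := h1 ▸ orderOf_dvd_natCard _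
  rw [Subgroup.card_eq_card_quotient_mul_card_subgroup (N.subgroupOf M),
    Nat.card_congr (Subgroup.subgroupOfEquivOfLe (le_sup_left : N ≤ M)).toEquiv]
  exact Nat.mul_dvd_mul_right h2 _

/-- Two noncommuting elements of prime order with a central commutator give the cube of the prime. -/
theorem card_cube {Q : Type*} [Group Q] [Finite Q] {p : ℕ} (hp : p.Prime) {a b c : Q} (ha : orderOf a = p)
    (hb : b ^ p = 1) (hc : orderOf c = p) (hab : a * b = b * a * c) (hac : a * c = c * a) (hbc : b * c = c * b) :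
    p ^ 3 ∣ Nat.card Q := by
  set A := Subgroup.zpowers a
  have hA : Nat.card A = p := (Nat.card_zpowers a).trans ha
  have hcne : c ≠ 1 := fun h => by rw [h, orderOf_one] at hc; exact hp.one_lt.ne hc
  have hba : b * a ≠ a * b := fun h => hcne (mul_left_cancel (a := b * a) (by rw [mul_one, ← hab]; exact h.symm))
  have hcA : c ∉ A := by
    intro hmem
    have e : Subgroup.zpowers c = A :=
      Subgroup.eq_of_le_of_card_ge (Subgroup.zpowers_le.2 hmem) (by rw [hA, Nat.card_zpowers, hc])
    obtain ⟨i, hi⟩ := Subgroup.mem_zpowers_iff.1 (e.symm ▸ Subgroup.mem_zpowers a : a ∈ Subgroup.zpowers c)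
    exact hba (by rw [← hi]; exact (Commute.zpow_right hbc i).eq)
  have hnc : c ∈ Subgroup.normalizer (A : Set Q) := by
    refine Subgroup.mem_normalizer_iff.2 fun x => ⟨fun hx => ?_, fun hx => ?_⟩
    · obtain ⟨i, rfl⟩ := Subgroup.mem_zpowers_iff.1 hx
      rw [(Commute.zpow_right (hac.symm : Commute c a) i).eq, mul_inv_cancel_right]
      exact hx
    · obtain ⟨i, hi⟩ := Subgroup.mem_zpowers_iff.1 hx
      refine Subgroup.mem_zpowers_iff.2 ⟨i, ?_⟩
      have h1 : c * a ^ i = a ^ i * c := (Commute.zpow_right (hac.symm : Commute c a) i).eq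
      rw [hi] at h1
      rw [inv_mul_cancel_right] at h1
      exact hi.trans (mul_left_cancel h1)
  set AC := A ⊔ Subgroup.zpowers c
  have s1 := card_step hp hnc hcA (by rw [← hc]; exact pow_orderOf_eq_one c)
  have hle : AC ≤ Subgroup.centralizer {a} := by
    refine sup_le (Subgroup.zpowers_le.2 ?_) (Subgroup.zpowers_le.2 ?_) <;>
      rw [Subgroup.mem_centralizer_singleton_iff]
    exact hac.symm
  have hbAC : b ∉ AC := fun h => hba (Subgroup.mem_centralizer_singleton_iff.1 (hle h))
  have hnb : b ∈ Subgroup.normalizer (AC : Set Q) := by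
    have key : AC ≤ AC.comap (MulAut.conj b).toMonoidHom := by
      have e1 : b * a * b⁻¹ = a * c⁻¹ := by
        have h1 : b * a = a * b * c⁻¹ := by rw [hab, mul_inv_cancel_right]
        have h2 : b * c⁻¹ = c⁻¹ * b := (Commute.inv_right (hbc : Commute b c)).eq
        rw [h1, mul_assoc a b, h2, ← mul_assoc, mul_inv_cancel_right]
      refine sup_le (Subgroup.zpowers_le.2 ?_) (Subgroup.zpowers_le.2 ?_)
      · show b * a * b⁻¹ ∈ AC
        rw [e1]
        exact mul_mem ((le_sup_left : A ≤ AC) (Subgroup.mem_zpowers a))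
          (inv_mem ((le_sup_right : Subgroup.zpowers c ≤ AC) (Subgroup.mem_zpowers c)))
      · show b * c * b⁻¹ ∈ AC
        rw [hbc, mul_inv_cancel_right]
        exact (le_sup_right : Subgroup.zpowers c ≤ AC) (Subgroup.mem_zpowers c)
    have keyn : ∀ n : ℕ, ∀ x ∈ AC, b ^ n * x * (b ^ n)⁻¹ ∈ AC := by
      intro n
      induction n with
      | zero => intro x hx; simpa using hx
      | succ n ih =>
        intro x hx
        have h1 : b * (b ^ n * x * (b ^ n)⁻¹) * b⁻¹ ∈ AC := key (ih x hx)
        rw [pow_succ']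
        simpa [mul_assoc] using h1
    refine Subgroup.mem_normalizer_iff.2 fun x => ⟨fun hx => key hx, fun hx => ?_⟩
    have h1 := keyn (p - 1) _ hx
    have hinv : b ^ (p - 1) = b⁻¹ :=
      eq_inv_of_mul_eq_one_left (by rw [← pow_succ, Nat.sub_add_cancel hp.one_le, hb])
    rw [hinv] at h1
    simpa [mul_assoc] using h1
  have s2 := card_step hp hnb hbAC hb
  refine dvd_trans ?_ (Subgroup.card_subgroup_dvd_card (AC ⊔ Subgroup.zpowers b))
  refine dvd_trans ?_ s2
  rw [pow_succ', pow_two]
  exact Nat.mul_dvd_mul_left p (hA ▸ s1)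

end Cfsg.Lib.J4Cert
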