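import Cfsg.Agent.J4Cert.CentQ
import Cfsg.Agent.J4Cert.Orders
import Cfsg.Agent.Golay.Steiner3622
import Cfsg.Agent.LargeExtra.Coprime

/-!
The structure of the centraliser of an involution.
-/

set_option autoImplicit false
set_option maxRecDepth 8000

namespace Cfsg.Lib.J4Cert

open Cfsg Cfsg.Lib.J4Pres Cfsg.Lib.CosetTable
open scoped Pointwise commutatorElement

attribute [local irreducible] mB eBasis cQ cg0 cg1 cgi0 cgi1 cObj cForm cAct cHist csep cHex cTabs cPerm cChain kerM kerP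

theorem va_lt12 : ∀ (r : List ℕ) (v : ℕ), (∀ a ∈ r, a < 4096) → J4Rep.va v r < 4096
  | [], v, _ => by simp [J4Rep.va]
  | a :: r, v, h => by
    simp only [List.forall_mem_cons] at h
    rw [J4Rep.va]
    exact Nat.xor_lt_two_pow (n := 12) (by split <;> [exact h.1; norm_num]) (va_lt12 r _ h.2)

theorem ev_pow_two : ∀ (l : List Spor.J4) (i : ℕ), ev l (2 ^ i) = l.getD i 1
  | [], i => by simp [ev]
  | g :: l, 0 => by rw [ev, pow_zero, if_pos (by norm_num : 1 % 2 = 1), List.getD_cons_zero, show (1 : ℕ) / 2 = 0 from rfl, ev_zero_gen, mul_one]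
  | g :: l, i + 1 => by
    rw [ev, pow_succ, Nat.mul_mod_left, if_neg (by norm_num), one_mul, Nat.mul_div_cancel _ two_pos, ev_pow_two l i,
      List.getD_cons_succ]

theorem conj_iff {H K : Subgroup Spor.J4} {g : Spor.J4} (h : ∀ x ∈ H, g * x * g⁻¹ ∈ K)
    (hc : Nat.card K ≤ Nat.card H) (x : Spor.J4) : x ∈ H ↔ g * x * g⁻¹ ∈ K := by
  haveI := finite_J4
  have hf : Function.Injective (MulAut.conj g).toMonoidHom := (MulAut.conj g).injective
  have hle : H.map (MulAut.conj g).toMonoidHom ≤ K := by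
    rintro _ ⟨y, hy, rfl⟩
    exact h y hy
  have he : H.map (MulAut.conj g).toMonoidHom = K := Subgroup.eq_of_le_of_card_ge hle
    (hc.trans_eq (Nat.card_congr (H.equivMapOfInjective _ hf).toEquiv))
  refine ⟨h x, fun hx => ?_⟩
  rw [← he] at hx
  exact (Subgroup.mem_map_iff_mem hf).1 hx

variable {B : EBasis} (D : CData B)

theorem CData.gen_conj_Q {j : ℕ} (hj : j < 2) : ∀ x ∈ D.Q, D.γ j * x * (D.γ j)⁻¹ ∈ D.Q := by
  rintro _ ⟨b, u, -, rfl⟩
  obtain ⟨c, hc⟩ := D.act j hj u
  refine ⟨xor b c, _, Finset.mem_range.2 (va_lt12 (actRows j) u fun a ha => ?_), ?_⟩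
  · have h := act_ok
    simp only [actOK, Bool.and_eq_true, List.all_eq_true, List.mem_range, Nat.blt_eq] at h
    obtain ⟨hl, hr⟩ := h.2 j hj
    obtain ⟨i, hi, rfl⟩ := List.getElem_of_mem ha
    have hi' : i < (cAct.getD j []).length := by rwa [actRows, List.length_map] at hi
    have := (hr i (Nat.eq_of_beq_eq_true hl ▸ hi')).1
    rw [List.getD_eq_getElem _ _ hi'] at this
    simpa [actRows] using this
  · rw [← mul_assoc (D.γ j), zb_comm (Subgroup.mem_centralizer_singleton_iff.1 (D.memγ j)), mul_assoc (zb _ b),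
      mul_assoc (zb _ b), hc, ← mul_assoc, zb_xor (B.el_sq 1)]

/-- The element permutes the subgroups by the permutation. -/
def CData.Maps (g : Spor.J4) (p : Equiv.Perm (Fin 22)) : Prop :=
  ∀ i x, x ∈ D.U i ↔ g * x * g⁻¹ ∈ D.U (p i)

theorem CData.Maps.mul {g h : Spor.J4} {p q : Equiv.Perm (Fin 22)} (hg : D.Maps g p) (hh : D.Maps h q) :
    D.Maps (g * h) (p * q) := fun i x => by
  rw [hh i x, hg (q i), Equiv.Perm.mul_apply, show g * (h * x * h⁻¹) * g⁻¹ = g * h * x * (g * h)⁻¹ by group]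

theorem CData.maps_one : D.Maps 1 1 := fun i x => by simp

theorem CData.Maps.inv {g : Spor.J4} {p : Equiv.Perm (Fin 22)} (hg : D.Maps g p) : D.Maps g⁻¹ p⁻¹ := fun i x => by
  rw [hg (p⁻¹ i) (g⁻¹ * x * g⁻¹⁻¹), show g * (g⁻¹ * x * g⁻¹⁻¹) * g⁻¹ = x by group, Equiv.Perm.coe_inv,
    Equiv.apply_symm_apply]

theorem CData.Maps.unique {g : Spor.J4} {p q : Equiv.Perm (Fin 22)} (hp : D.Maps g p) (hq : D.Maps g q) : p = q := by
  refine Equiv.ext fun i => D.U_inj (SetLike.ext fun y => ?_)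
  have h1 := hp i (g⁻¹ * y * g)
  have h2 := hq i (g⁻¹ * y * g)
  rw [show g * (g⁻¹ * y * g) * g⁻¹ = y by group] at h1 h2
  exact h1.symm.trans h2

theorem CData.maps_of {g : Spor.J4} {p : Equiv.Perm (Fin 22)}
    (h : ∀ i, ∀ x ∈ D.U i, g * x * g⁻¹ ∈ D.U (p i)) : D.Maps g p :=
  fun i => conj_iff (h i) (by rw [D.card_U, D.card_U])

/-- The elements that permute the subgroups. -/
def CData.stab : Subgroup Spor.J4 where
  carrier := {g | ∃ p, D.Maps g p}
  one_mem' := ⟨1, D.maps_one⟩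
  mul_mem' := fun ⟨_, hp⟩ ⟨_, hq⟩ => ⟨_, hp.mul D hq⟩
  inv_mem' := fun ⟨_, hp⟩ => ⟨_, hp.inv D⟩

/-- The permutation of the subgroups. -/
noncomputable def CData.permOf : D.stab →* Equiv.Perm (Fin 22) :=
  MonoidHom.mk' (fun g => g.2.choose) fun g h =>
    ((g * h).2.choose_spec).unique D (g.2.choose_spec.mul D h.2.choose_spec)

theorem CData.permOf_eq {g : D.stab} {p : Equiv.Perm (Fin 22)} (h : D.Maps g.1 p) : D.permOf g = p :=
  g.2.choose_spec.unique D h

/-- The permutation of a letter. -/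
def cP (l : ℕ) : Equiv.Perm (Fin 22) := PermCert.perm 22 (cTabs.getD l (0, 0))

theorem tab_valid {l : ℕ} (hl : l < 4) : PermCert.valid 22 (cTabs.getD l (0, 0)) = true := by
  have h := tabs_ok
  simp only [tabsOK, Bool.and_eq_true, List.all_eq_true, List.mem_range] at h
  exact h.1.2 l hl

theorem cP_odd {j : ℕ} (hj : j < 2) : cP (2 * j + 1) = (cP (2 * j))⁻¹ := by
  have h := tabs_ok
  simp only [tabsOK, Bool.and_eq_true, List.all_eq_true, List.mem_range, beq_iff_eq] at h
  rw [cP, cP, (h.2 j hj).1, PermCert.perm_pinv (tab_valid (by omega))]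

theorem cP_apply {j : ℕ} (hj : j < 2) (i : Fin 22) : (cP (2 * j) i : ℕ) = (cPerm.getD j []).getD i 0 := by
  have h := tabs_ok
  simp only [tabsOK, Bool.and_eq_true, List.all_eq_true, List.mem_range, beq_iff_eq] at h
  rw [cP, PermCert.perm_apply (tab_valid (by omega)), Nat.eq_of_beq_eq_true ((h.2 j hj).2 i i.2)]

theorem CData.maps_gen {j : ℕ} (hj : j < 2) : D.Maps (D.γ j) (cP (2 * j)) :=
  D.maps_of fun i => D.gen_map hj i _ (cP_apply hj i).symm

theorem CData.maps_Q {g : Spor.J4} (hg : g ∈ D.Q) : D.Maps g 1 := D.maps_of fun i x hx => D.Q_map hg i x hx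

/-- The group generated by the two elements and the extraspecial group. -/
noncomputable def CData.C0 : Subgroup Spor.J4 := Subgroup.closure ({D.γ 0, D.γ 1} ∪ (D.Q : Set Spor.J4))

theorem CData.gen_mem {j : ℕ} (hj : j < 2) : D.γ j ∈ D.C0 := by
  refine Subgroup.subset_closure (Or.inl ?_)
  interval_cases j <;> simp

theorem CData.Q_le_C0 : D.Q ≤ D.C0 := fun _ hx => Subgroup.subset_closure (Or.inr hx)

theorem CData.C0_le {S : Subgroup Spor.J4} (hγ : ∀ j < 2, D.γ j ∈ S) (hQ : D.Q ≤ S) : D.C0 ≤ S := by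
  rw [CData.C0, Subgroup.closure_le]
  rintro x (hx | hx)
  · simp only [Set.mem_insert_iff, Set.mem_singleton_iff] at hx
    rcases hx with rfl | rfl
    · exact hγ 0 (by norm_num)
    · exact hγ 1 (by norm_num)
  · exact hQ hx

theorem CData.C0_le_stab : D.C0 ≤ D.stab :=
  D.C0_le (fun _ hj => ⟨_, D.maps_gen hj⟩) fun _ hx => ⟨1, D.maps_Q hx⟩

theorem CData.C0_le_cent : D.C0 ≤ cent B := D.C0_le (fun j _ => D.memγ j) D.Q_le

theorem CData.Q_normal {g : Spor.J4} (hg : g ∈ D.C0) : g ∈ Subgroup.normalizer (D.Q : Set Spor.J4) := by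
  refine D.C0_le (fun j hj => Subgroup.mem_normalizer_iff.2 (conj_iff (D.gen_conj_Q hj) le_rfl)) Subgroup.le_normalizer hg

/-- The blocks. -/
def hexSet (b : ℕ) : Finset (Fin 22) := Finset.univ.filter fun i => Nat.testBit b i

/-- The system of blocks. -/
def hexB : Set (Finset (Fin 22)) := {s | ∃ b ∈ cHex, s = hexSet b}

theorem hexSet_card : ∀ b ∈ cHex, (hexSet b).card = 6 := by decide +kernel

theorem tri_iff (b i j k : ℕ) : Nat.land b (tri i j k) = tri i j k ↔
    b.testBit i = true ∧ b.testBit j = true ∧ b.testBit k = true := by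
  show b &&& tri i j k = tri i j k ↔ _
  constructor
  · intro h
    have e : ∀ x, (tri i j k).testBit x = true → b.testBit x = true := fun x hx => by
      rw [← h, Nat.testBit_and, Bool.and_eq_true] at hx
      exact hx.1
    exact ⟨e i (by simp [tri, Nat.testBit_two_pow]), e j (by simp [tri, Nat.testBit_two_pow]),
      e k (by simp [tri, Nat.testBit_two_pow])⟩
  · rintro ⟨hi, hj, hk⟩
    refine Nat.eq_of_testBit_eq fun x => ?_
    rw [Nat.testBit_and, Bool.and_eq_right_iff_imp]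
    intro hx
    simp only [tri, Nat.testBit_or, Nat.testBit_two_pow, Bool.or_eq_true, decide_eq_true_eq] at hx
    rcases hx with (rfl | rfl) | rfl <;> assumption

theorem hexB_steiner : IsSteinerSystem 3 6 hexB := by
  refine ⟨fun s hs => ?_, fun s hs => ?_⟩
  · obtain ⟨b, hb, rfl⟩ := hs
    exact hexSet_card b hb
  · have base : ∀ i j k : Fin 22, k < j → j < i → ∃! s, s ∈ hexB ∧ {i, j, k} ⊆ s := by
      intro i j k hkj hji
      have h := hex_ok
      simp only [hexOK, Bool.and_eq_true, List.all_eq_true, List.mem_range] at h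
      obtain ⟨b, hb⟩ := List.length_eq_one_iff.1 (Nat.eq_of_beq_eq_true (h.2 i i.2 j hji k hkj))
      have hmem : ∀ x, x ∈ cHex ∧ (x.testBit i = true ∧ x.testBit j = true ∧ x.testBit k = true) ↔ x = b := fun x => by
        rw [← tri_iff, ← List.mem_singleton (b := b), ← hb, List.mem_filter]
        exact and_congr_right fun _ => ⟨fun e => by rw [e]; exact Nat.beq_refl _, fun e => Nat.eq_of_beq_eq_true e⟩
      obtain ⟨hb1, hbi, hbj, hbk⟩ := (hmem b).2 rfl
      refine ⟨hexSet b, ⟨⟨b, hb1, rfl⟩, ?_⟩, ?_⟩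
      · intro x hx
        simp only [Finset.mem_insert, Finset.mem_singleton] at hx
        rcases hx with rfl | rfl | rfl <;> simp [hexSet, hbi, hbj, hbk]
      · rintro _ ⟨⟨c, hc, rfl⟩, hsub⟩
        rw [(hmem c).1 ⟨hc, by simpa [hexSet] using hsub (by simp : i ∈ ({i, j, k} : Finset (Fin 22))),
          by simpa [hexSet] using hsub (by simp : j ∈ ({i, j, k} : Finset (Fin 22))),
          by simpa [hexSet] using hsub (by simp : k ∈ ({i, j, k} : Finset (Fin 22)))⟩]
    obtain ⟨i, j, k, hij, hik, hjk, rfl⟩ := Finset.card_eq_three.1 hs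
    rcases lt_or_gt_of_ne hij with a | a <;> rcases lt_or_gt_of_ne hik with b | b <;>
      rcases lt_or_gt_of_ne hjk with c | c
    all_goals
      first
      | exact absurd (lt_trans (lt_trans a c) (b : k < i)) (lt_irrefl _)
      | exact absurd (lt_trans (lt_trans c a) (b : i < k)) (lt_irrefl _)
      | exact base i j k c a
      | (have h' := base i k j c b; rwa [Finset.pair_comm k j] at h')
      | (have h' := base j i k b a; rwa [Finset.insert_comm j i] at h')
      | (have h' := base j k i b c; rwa [Finset.pair_comm k i, Finset.insert_comm j i] at h')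
      | (have h' := base k i j a b; rwa [Finset.insert_comm k i, Finset.pair_comm k j] at h')
      | (have h' := base k j i a c; rwa [Finset.pair_comm j i, Finset.insert_comm k i, Finset.pair_comm k j] at h')

theorem pmask_testBit (p : List ℕ) (b x : ℕ) : ∀ (l : List ℕ) (s : ℕ),
    (l.foldl (fun s i => bif Nat.testBit b i then Nat.lor s (Nat.shiftLeft 1 (p.getD i 0)) else s) s).testBit x = true ↔
      s.testBit x = true ∨ ∃ i ∈ l, b.testBit i = true ∧ p.getD i 0 = x
  | [], s => by simp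
  | i :: l, s => by
    rw [List.foldl_cons, pmask_testBit p b x l]
    cases hb : Nat.testBit b i
    · simp [hb]
    · show (s ||| 1 <<< p.getD i 0).testBit x = true ∨ _ ↔ _
      rw [Nat.testBit_or, Bool.or_eq_true, Nat.one_shiftLeft, Nat.testBit_two_pow, decide_eq_true_eq]
      simp [hb, or_assoc]

theorem cP_mem_aut {j : ℕ} (hj : j < 2) : cP (2 * j) ∈ setSystemAut hexB := by
  have hlen : cPerm.length = 2 := by decide +kernel
  have h : ∀ s ∈ hexB, cP (2 * j) • s ∈ hexB := by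
    rintro _ ⟨b, hb, rfl⟩
    have h := hexImg_ok
    simp only [hexImg, List.all_eq_true] at h
    have hj' : j < cPerm.length := hlen.symm ▸ hj
    have hm := h _ (List.getElem_mem hj') b hb
    rw [← List.getD_eq_getElem _ [] hj'] at hm
    refine ⟨_, hasN_mem hm, Finset.ext fun x => ?_⟩
    rw [Finset.smul_finset_def, Finset.mem_image]
    simp only [hexSet, Finset.mem_filter, Finset.mem_univ, true_and, pmask, pmask_testBit, Nat.zero_testBit,
      Bool.false_eq_true, false_or, List.mem_range, Equiv.Perm.smul_def]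
    constructor
    · rintro ⟨i, hi, rfl⟩
      exact ⟨i, i.2, hi, (cP_apply hj i).symm⟩
    · rintro ⟨i, hi, hbi, e⟩
      exact ⟨⟨i, hi⟩, hbi, Fin.ext ((cP_apply hj _).trans e)⟩
  rw [MulAction.mem_stabilizer_iff]
  refine Set.eq_of_subset_of_ncard_le ?_ (by rw [Set.ncard_smul_set]) (Set.toFinite _)
  rintro _ ⟨s, hs, rfl⟩
  exact h s hs

theorem hexAut : Nat.card (setSystemAut hexB) = 887040 ∧ ∃ H : Subgroup (setSystemAut hexB), H.index = 2 ∧ IsM22 H :=
  have h := Golay.aut_3622 (Fintype.card_fin 22) hexB_steiner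
  ⟨h.1, h.2.2⟩

/-- The action on the subgroups. -/
noncomputable def CData.π0 : D.C0 →* Equiv.Perm (Fin 22) := D.permOf.comp (Subgroup.inclusion D.C0_le_stab)

theorem CData.π0_eq {g : D.C0} {p : Equiv.Perm (Fin 22)} (h : D.Maps g.1 p) : D.π0 g = p :=
  D.permOf_eq (g := ⟨g.1, D.C0_le_stab g.2⟩) h

theorem CData.range_π0 : D.π0.range = setSystemAut hexB := by
  have hle : D.π0.range ≤ setSystemAut hexB := by
    rintro _ ⟨g, rfl⟩
    have hg : (g : Spor.J4) ∈ ((setSystemAut hexB).comap D.permOf).map D.stab.subtype := D.C0_le (S := ((setSystemAut hexB).comap D.permOf).map D.stab.subtype) (fun j hj =>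
        ⟨⟨_, _, D.maps_gen hj⟩, Subgroup.mem_comap.2 (by rw [D.permOf_eq (D.maps_gen hj)]; exact cP_mem_aut hj), rfl⟩)
      (fun x hx => ⟨⟨x, 1, D.maps_Q hx⟩, Subgroup.mem_comap.2 (by rw [D.permOf_eq (D.maps_Q hx)]; exact one_mem _), rfl⟩) g.2
    obtain ⟨x, hx, hxg⟩ := hg
    obtain ⟨p, hp⟩ := x.2
    rw [D.π0_eq (p := p) (by rwa [← hxg])]
    rwa [SetLike.mem_coe, Subgroup.mem_comap, D.permOf_eq hp] at hx
  refine Subgroup.eq_of_le_of_card_ge hle ?_
  have hl : ∀ l, cP l ∈ D.π0.range := by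
    intro l
    have hgen : ∀ j < 2, cP (2 * j) ∈ D.π0.range := fun j hj => ⟨⟨_, D.gen_mem hj⟩, D.π0_eq (D.maps_gen hj)⟩
    rcases l with _ | _ | _ | _ | l
    · exact hgen 0 (by norm_num)
    · rw [show (0 + 1 : ℕ) = 2 * 0 + 1 from rfl, cP_odd (by norm_num)]; exact inv_mem (hgen 0 (by norm_num))
    · exact hgen 1 (by norm_num)
    · rw [show (0 + 1 + 1 + 1 : ℕ) = 2 * 1 + 1 from rfl, cP_odd (by norm_num)]; exact inv_mem (hgen 1 (by norm_num))
    · have h := tabs_ok
      simp only [tabsOK, Bool.and_eq_true] at h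
      rw [cP, List.getD_eq_default _ _ (by rw [Nat.eq_of_beq_eq_true h.1.1]; omega), PermCert.perm, dif_neg (by decide)]
      exact one_mem _
  have hw : ∀ w : List ℕ, wval cP w ∈ D.π0.range := fun w => by
    induction w with
    | nil => simp [wval]
    | cons l w ih =>
      rw [show wval cP (l :: w) = cP l * wval cP w by simp [wval]]
      exact mul_mem (hl l) ih
  have h := CosetCert.chain_bound cP (MonoidHom.id _) cTabs (fun l hlt => ⟨tab_valid (by
      have h := tabs_ok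
      simp only [tabsOK, Bool.and_eq_true] at h
      rwa [Nat.eq_of_beq_eq_true h.1.1] at hlt), rfl⟩) cChain D.π0.range cChain_ok.1 inferInstance
    fun _ _ w _ => hw w
  rw [cChain_ok.2] at h
  rwa [hexAut.1]

/-- The action as a surjection onto the automorphisms. -/
noncomputable def CData.π : D.C0 →* setSystemAut hexB :=
  D.π0.codRestrict _ fun g => D.range_π0 ▸ ⟨g, rfl⟩

theorem CData.π_surj : Function.Surjective D.π := fun p => by
  have hp : p.1 ∈ D.π0.range := by rw [D.range_π0]; exact p.2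
  obtain ⟨g, hg⟩ := hp
  exact ⟨g, Subtype.ext hg⟩

theorem CData.mem_ker {g : D.C0} : g ∈ D.π.ker ↔ D.π0 g = 1 := by
  rw [MonoidHom.mem_ker, ← Subtype.coe_inj]
  rfl

theorem CData.ker_word (D : CData B) : ∀ w : List ℕ, w.all (fun j => Nat.blt j 2) = true →
    ∃ (g : Spor.J4) (p : Equiv.Perm (Fin 22)), g ∈ D.C0 ∧ MOK g (kerM w) ∧ D.Maps g p ∧ ∀ i : Fin 22, (p i : ℕ) = kerP w i
  | [], _ => ⟨1, 1, one_mem _, by rw [kerM]; exact MOK.one, D.maps_one, fun i => by rw [kerP]; rfl⟩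
  | j :: w, h => by
    simp only [List.all_cons, Bool.and_eq_true, Nat.blt_eq] at h
    obtain ⟨g, p, h1, h2, h3, h4⟩ := CData.ker_word D w h.2
    refine ⟨D.γ j * g, cP (2 * j) * p, mul_mem (D.gen_mem h.1) h1, by rw [kerM]; exact (D.mokγ j h.1).1.mul h2,
      (D.maps_gen h.1).mul D h3, fun i => ?_⟩
    rw [kerP, Equiv.Perm.mul_apply, cP_apply h.1, h4]

theorem CData.dvd_ker : 24576 ∣ Nat.card D.π.ker := by
  haveI := finite_J4
  have h1 : 8192 ∣ Nat.card D.π.ker := by
    rw [← D.card_Q, ← Nat.card_congr (Subgroup.subgroupOfEquivOfLe D.Q_le_C0).toEquiv]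
    exact Subgroup.card_dvd_of_le fun g hg => D.mem_ker.2 (D.π0_eq (D.maps_Q hg))
  have h3 : 3 ∣ Nat.card D.π.ker := by
    have h := ker_ok
    simp only [kerOK, Bool.and_eq_true, List.all_eq_true (p := fun i => Nat.beq _ i), List.mem_range, Bool.not_eq_true'] at h
    obtain ⟨⟨⟨hw, hc⟩, hne⟩, hid⟩ := h
    obtain ⟨g, p, hg, hm, hp, hpi⟩ := D.ker_word _ hw
    obtain rfl : p = 1 := Equiv.ext fun i => Fin.ext (by rw [hpi i]; exact Nat.eq_of_beq_eq_true (hid i i.2))
    have hk : (⟨g, hg⟩ : D.C0) ∈ D.π.ker := D.mem_ker.2 (D.π0_eq hp)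
    have h3' : g * (g * g) = 1 := (leq_eq hc ▸ hm.mul (hm.mul hm) : MOK _ J4Rep.idMat).eq MOK.one
    have ho : orderOf g = 3 := by
      haveI : Fact (Nat.Prime 3) := ⟨Nat.prime_three⟩
      refine orderOf_eq_prime (by rw [pow_succ', pow_succ', pow_one]; exact h3') fun h1 => ?_
      subst h1
      have e : kerM (List.replicate cKerN cKerW).flatten = J4Rep.idMat := okMat_eq_idMat hm.1 fun v => by
        have := hm.2 v
        rw [map_one] at this
        exact this.symm
      rw [e] at hne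
      exact Bool.false_ne_true (hne.symm.trans (by decide +kernel))
    have hd := orderOf_dvd_natCard (G := D.π.ker) ⟨⟨g, hg⟩, hk⟩
    rwa [← Subgroup.orderOf_coe, ← Subgroup.orderOf_coe, ho] at hd
  exact Nat.Coprime.mul_dvd_of_dvd_of_dvd (m := 3) (n := 8192) (by norm_num) h3 h1

theorem CData.z_mem : B.el 1 ∈ D.Q :=
  ⟨true, 0, Finset.mem_range.2 (by norm_num), by rw [ev_zero_gen, mul_one]; rfl⟩

theorem CData.q_mem {i : ℕ} (hi : i < 12) : D.q.getD i 1 ∈ D.Q :=
  ⟨false, 2 ^ i, Finset.mem_range.2 (Nat.pow_lt_pow_right (by norm_num) hi : 2 ^ i < 2 ^ 12),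
    by rw [ev_pow_two]; exact (one_mul _).symm⟩

theorem CData.no_radical {v : ℕ} (hv : v < 4096) (hc : ∀ j < 12, Commute (ev D.q v) (D.q.getD j 1)) : v = 0 := by
  by_contra hne
  have hf := form_ok
  simp only [formOK, Bool.and_eq_true, List.all_eq_true, Bool.not_eq_true', List.mem_range, decide_eq_true_eq,
    List.mem_range'_1] at hf
  have hv0 := hf.2 v ⟨Nat.one_le_iff_ne_zero.2 hne, by omega⟩
  have hlen : cForm.length = 12 := by
    have h := relQ_ok
    simp only [relQ, Bool.and_eq_true] at h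
    exact Nat.eq_of_beq_eq_true h.1.2
  have hlt : J4Rep.va v cForm < 4096 := va_lt12 _ _ fun a ha => by
    obtain ⟨i, hi, rfl⟩ := List.getElem_of_mem ha
    have := (hf.1 i (hlen ▸ hi)).2
    rwa [List.getD_eq_getElem _ _ hi] at this
  obtain ⟨j, hj⟩ := Nat.exists_testBit_of_ne_zero (x := J4Rep.va v cForm) fun e => by
    rw [e] at hv0
    exact Bool.noConfusion hv0
  have hj12 : j < 12 := by
    by_contra hc'
    rw [Nat.testBit_lt_two_pow (lt_of_lt_of_le hlt
      (Nat.pow_le_pow_right (by norm_num) (not_lt.1 hc') : 2 ^ 12 ≤ 2 ^ j))] at hj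
    exact Bool.noConfusion hj
  have hcen : D.q.getD j 1 * B.el 1 = B.el 1 * D.q.getD j 1 :=
    Subgroup.mem_centralizer_singleton_iff.1 (D.qget hj12).2
  have e := ev_swap (B.el_sq 1) hcen j (l := D.q) (r := cForm)
    (List.forall₂_iff_get.2 ⟨D.len.trans hlen.symm, fun i h1 h2 => by
      simp only [List.get_eq_getElem]
      have hi : i < 12 := D.len ▸ h1
      rw [← List.getD_eq_getElem _ (1 : Spor.J4) h1, ← List.getD_eq_getElem _ 0 h2]
      exact ⟨Subgroup.mem_centralizer_singleton_iff.1 (D.qget hi).2, D.rel hi hj12⟩⟩) v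
  rw [hj, (hc j hj12).eq] at e
  exact el_one_ne B (mul_eq_right.1 e.symm)

theorem CData.extraspecial : IsExtraspecial 2 (D.Q.subgroupOf D.C0) := by
  haveI := finite_J4
  have hz : B.el 1 ∈ D.C0 := D.Q_le_C0 D.z_mem
  have hzb : ∀ c, zb (B.el 1) c = 1 ∨ zb (B.el 1) c = B.el 1 := fun c => by cases c <;> simp [zb]
  refine LargeExtra.isExtraspecial_of (z := (⟨B.el 1, hz⟩ : D.C0)) (IsPGroup.of_card (n := 13) ?_) D.z_mem
    (fun e => el_one_ne B (congrArg Subtype.val e)) (Subtype.ext (B.el_sq 1)) (fun a _ => ?_) ?_ ?_ ?_ ?_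
  · rw [Nat.card_congr (Subgroup.subgroupOfEquivOfLe D.Q_le_C0).toEquiv, D.card_Q]; norm_num
  · exact Subtype.ext (Subgroup.mem_centralizer_singleton_iff.1 (D.C0_le_cent a.2))
  · intro a ha b hb
    obtain ⟨c, hc⟩ : ∃ c, (a : Spor.J4) * b = zb (B.el 1) c * ((b : Spor.J4) * a) := D.Q_comm ha hb
    have e : ((⁅a, b⁆ : D.C0) : Spor.J4) = zb (B.el 1) c := by
      rw [commutatorElement_def]
      show (a : Spor.J4) * b * (a : Spor.J4)⁻¹ * (b : Spor.J4)⁻¹ = _
      rw [hc]; group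
    exact (hzb c).imp (fun h => Subtype.ext (e.trans h)) fun h => Subtype.ext (e.trans h)
  · rintro ⟨a, ha'⟩ ⟨b, u, -, rfl⟩
    obtain ⟨c, hc⟩ := ev_mul D.zc u u
    have e : zb (B.el 1) b * ev D.q u * (zb (B.el 1) b * ev D.q u) = zb (B.el 1) c := by
      rw [mul_assoc, ← mul_assoc (ev D.q u), D.zb_cen, mul_assoc, hc, ← mul_assoc, zb_sq, one_mul, Nat.xor_self,
        ev_zero_gen, mul_one]
    exact (hzb c).imp (fun h => Subtype.ext (e.trans h)) fun h => Subtype.ext (e.trans h)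
  · rintro ⟨x, hx⟩ ⟨b, u, hu, hxe⟩ hc
    have h0 : u = 0 := D.no_radical (Finset.mem_range.1 hu) fun j hj => by
      have h := congrArg Subtype.val (hc ⟨_, D.Q_le_C0 (D.q_mem hj)⟩ (D.q_mem hj)).eq
      change D.q.getD j 1 * x = x * D.q.getD j 1 at h
      change x = _ at hxe
      rw [hxe, ← mul_assoc, zb_comm (Subgroup.mem_centralizer_singleton_iff.1 (D.qget hj).2), mul_assoc,
        mul_assoc] at h
      exact (mul_left_cancel h).symm
    subst h0
    rw [ev_zero_gen, mul_one] at hxe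
    exact (hzb b).imp (fun h => Subtype.ext (hxe.trans h)) fun h => Subtype.ext (hxe.trans h)
  · refine ⟨⟨_, D.Q_le_C0 (D.q_mem (i := 0) (by norm_num))⟩, D.q_mem (by norm_num),
      ⟨_, D.Q_le_C0 (D.q_mem (i := 7) (by norm_num))⟩, D.q_mem (by norm_num), fun h => ?_⟩
    have e := D.rel (i := 0) (j := 7) (by norm_num) (by norm_num)
    rw [show Nat.testBit (cForm.getD 0 0) 7 = true by decide +kernel] at e
    have h' : D.q.getD 0 1 * D.q.getD 7 1 = D.q.getD 7 1 * D.q.getD 0 1 := congrArg Subtype.val h.eq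
    rw [h'] at e
    exact el_one_ne B (mul_eq_right.1 e.symm)

/-- The statement about the centraliser. -/
def CentShape (K : Subgroup Spor.J4) : Prop :=
  ∃ (Q N M : Subgroup K), Q.Normal ∧ N.Normal ∧ Q ≤ N ∧ N ≤ M ∧ Nat.card Q = 2 ^ 13 ∧ IsExtraspecial 2 Q ∧
    Nat.card N = 3 * 2 ^ 13 ∧ M.index = 2 ∧ ∃ (_ : (N.subgroupOf M).Normal), IsM22 (M ⧸ N.subgroupOf M)

theorem CData.shape (D : CData B) : CentShape (cent B) := by
  classical
  haveI := finite_J4
  have hr : D.π.ker.index = 887040 := by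
    rw [Subgroup.index_ker, MonoidHom.range_eq_top.2 D.π_surj, Subgroup.card_top, hexAut.1]
  have hmul := Subgroup.card_mul_index D.π.ker
  rw [hr] at hmul
  have hup : Nat.card D.C0 ≤ 21799895040 := (Subgroup.card_le_of_le D.C0_le_cent).trans (card_cent_le B)
  obtain ⟨t, ht⟩ := D.dvd_ker
  have ht0 : t ≠ 0 := fun e => by
    rw [e, mul_zero] at ht
    exact (Nat.card_pos (α := D.π.ker)).ne' ht
  have hker : Nat.card D.π.ker = 24576 := by omega
  have hC : D.C0 = cent B := Subgroup.eq_of_le_of_card_ge D.C0_le_cent ((card_cent_le B).trans (by omega))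
  rw [← hC]
  obtain ⟨H, hH2, hH⟩ := hexAut.2
  have hN : D.π.ker ≤ H.comap D.π := fun g hg => by
    rw [Subgroup.mem_comap, MonoidHom.mem_ker.1 hg]
    exact one_mem _
  refine ⟨D.Q.subgroupOf D.C0, D.π.ker, H.comap D.π, ⟨fun n hn g => ?_⟩, inferInstance,
    fun g hg => D.mem_ker.2 (D.π0_eq (D.maps_Q hg)), hN, ?_, D.extraspecial, hker,
    (Subgroup.index_comap_of_surjective _ D.π_surj).trans hH2, inferInstance, ?_⟩
  · exact ((Subgroup.mem_normalizer_iff.1 (D.Q_normal g.2)) _).1 hn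
  · rw [Nat.card_congr (Subgroup.subgroupOfEquivOfLe D.Q_le_C0).toEquiv, D.card_Q]; norm_num
  · let ψ : H.comap D.π →* H := (D.π.comp (H.comap D.π).subtype).codRestrict H fun g => g.2
    have hψ : Function.Surjective ψ := fun h => by
      obtain ⟨g, hg⟩ := D.π_surj h.1
      exact ⟨⟨g, by rw [Subgroup.mem_comap, hg]; exact h.2⟩, Subtype.ext hg⟩
    have hk : D.π.ker.subgroupOf (H.comap D.π) = ψ.ker := by
      ext g
      rw [Subgroup.mem_subgroupOf, MonoidHom.mem_ker, MonoidHom.mem_ker, ← Subtype.coe_inj (a := ψ g)]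
      rfl
    let e := (QuotientGroup.quotientMulEquivOfEq hk).trans (QuotientGroup.quotientKerEquivOfSurjective ψ hψ)
    haveI := hH.1
    exact ⟨Golay.simple_congr e, (Nat.card_congr e.toEquiv).trans hH.2⟩

theorem exists_centShape : ∃ z : Spor.J4, orderOf z = 2 ∧ CentShape (Subgroup.centralizer {z}) := by
  obtain ⟨B⟩ := exists_basis
  obtain ⟨D⟩ := exists_CData B
  exact ⟨B.el 1, orderOf_eq_prime (by rw [pow_two]; exact B.el_sq 1) (el_one_ne B), D.shape⟩

end Cfsg.Lib.J4Cert
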