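import Cfsg.Agent.J4Cert.CentBound
import Cfsg.Agent.J4Cert.CentExt
import Cfsg.Agent.J4Cert.CentCheck1

/-!
The extraspecial group inside the centraliser of an involution, and its twenty-two subgroups.
-/

set_option autoImplicit false
set_option maxRecDepth 8000

namespace Cfsg.Lib.J4Cert

open Cfsg Cfsg.Lib.J4Pres Cfsg.Lib.CosetTable

attribute [local irreducible] mB eBasis cQ cg0 cg1 cgi0 cgi1 cObj cForm cAct cHist csep

theorem MOK.eq {g h : Spor.J4} {A : List ℕ} (hg : MOK g A) (hh : MOK h A) : g = h := rhoG_injective (hg.rho_eq hh)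

theorem MOK.npow {g : Spor.J4} {A : List ℕ} (h : MOK g A) : ∀ n, MOK (g ^ n) (mPow A n)
  | 0 => by rw [pow_zero]; exact MOK.one
  | n + 1 => by rw [pow_succ']; exact h.mul (h.npow n)

theorem zM_head : leq zM (evM eBasis 1) = true := by decide +kernel

theorem MOK.z (B : EBasis) : MOK (B.el 1) zM := by rw [leq_eq zM_head]; exact evM_ok B.mok 1

theorem el_one_ne (B : EBasis) : B.el 1 ≠ 1 := fun h => by
  rw [← B.el_zero] at h
  exact absurd (B.el_inj (by norm_num) (by norm_num) h) Nat.one_ne_zero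

/-- The centraliser of the involution. -/
noncomputable abbrev cent (B : EBasis) : Subgroup Spor.J4 := Subgroup.centralizer {B.el 1}

theorem gen_exists (B : EBasis) {g gi w : List ℕ} {m : ℕ} (h : genOK2 g gi w m = true) :
    ∃ γ, MOK γ gi ∧ MOK γ⁻¹ g ∧ γ ∈ cent B := by
  simp only [genOK2, Bool.and_eq_true] at h
  obtain ⟨⟨⟨⟨-, hg⟩, h1⟩, hgi⟩, hc⟩ := h
  have hwi : MOK (wval letG w)⁻¹ (wordM (invW w)) := wval_invW w ▸ wordM_ok (invW w)
  have hD := (MOK.z B).mul ((hwi.mul (MOK.z B)).mul (wordM_ok w))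
  generalize B.el 1 * ((wval letG w)⁻¹ * B.el 1 * wval letG w) = d at hD
  have hγ : MOK (d ^ (m + 1) * (wval letG w)⁻¹) gi := by rw [leq_eq hgi]; exact (hD.npow _).mul hwi
  have hx : MOK (wval letG w * d ^ m) g := by rw [leq_eq hg]; exact (wordM_ok w).mul (hD.npow _)
  have e1 : d ^ (m + 1) * (wval letG w)⁻¹ * (wval letG w * d ^ m) = 1 :=
    (leq_eq h1 ▸ hγ.mul hx : MOK _ J4Rep.idMat).eq MOK.one
  refine ⟨_, hγ, ?_, ?_⟩
  · rwa [inv_eq_of_mul_eq_one_right e1]
  · rw [Subgroup.mem_centralizer_singleton_iff]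
    exact (leq_eq hc ▸ hγ.mul (MOK.z B) : MOK _ (mB zM gi)).eq ((MOK.z B).mul hγ)

/-- Elements of the centraliser for the listed matrices. -/
structure CData (B : EBasis) where
  γ : ℕ → Spor.J4
  q : List Spor.J4
  mokγ : ∀ j < 2, MOK (γ j) (cGens.getD j ([], [])).2 ∧ MOK (γ j)⁻¹ (cGens.getD j ([], [])).1
  memγ : ∀ j, γ j ∈ cent B
  mokq : List.Forall₂ MOK q cQ
  memq : ∀ x ∈ q, x ∈ cent B

theorem exists_CData (B : EBasis) : Nonempty (CData B) := by
  obtain ⟨a, ha⟩ := gen_exists B cGen0_ok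
  obtain ⟨b, hb⟩ := gen_exists B cGen1_ok
  let γ : ℕ → Spor.J4 := fun j => if j = 0 then a else if j = 1 then b else 1
  have hmok : ∀ j < 2, MOK (γ j) (cGens.getD j ([], [])).2 ∧ MOK (γ j)⁻¹ (cGens.getD j ([], [])).1 := by
    intro j hj
    interval_cases j
    · exact ⟨ha.1, ha.2.1⟩
    · exact ⟨hb.1, hb.2.1⟩
  have hmem : ∀ j, γ j ∈ cent B := fun j => by
    simp only [γ]
    split_ifs
    · exact ha.2.2
    · exact hb.2.2
    · exact one_mem _
  have h := hist_ok
  simp only [histOK, Bool.and_eq_true, List.all_eq_true] at h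
  obtain ⟨⟨hq, hlen⟩, hall⟩ := h
  replace hlen : cHist.length = 12 := Nat.eq_of_beq_eq_true hlen
  have key : ∀ n ≤ 12, ∃ l : List Spor.J4, l.length = n ∧
      ∀ i < n, MOK (l.getD i 1) (cQ.getD i []) ∧ l.getD i 1 ∈ cent B := by
    intro n
    induction n with
    | zero => exact fun _ => ⟨[], rfl, fun i hi => by omega⟩
    | succ n ih =>
      intro hn
      obtain ⟨l, hl, hl'⟩ := ih (by omega)
      obtain ⟨x, hx⟩ : ∃ x, MOK x (cQ.getD n []) ∧ x ∈ cent B := by
        have hn' : n < cHist.length := by omega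
        have he := hall (cHist[n], n) (List.mem_iff_getElem.2 ⟨n, by simpa using hn', by simp⟩)
        generalize cHist[n] = e at he
        obtain ⟨u, p, j, t⟩ := e
        cases t
        · simp only [cond_false, Bool.and_eq_true, Nat.blt_eq] at he
          obtain ⟨⟨hp, hj⟩, he⟩ := he
          refine ⟨γ j * l.getD p 1 * (γ j)⁻¹, ?_, mul_mem (mul_mem (hmem j) (hl' p hp).2) (inv_mem (hmem j))⟩
          rw [leq_eq he]
          exact ((hmok j hj).1.mul (hl' p hp).1).mul (hmok j hj).2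
        · simp only [cond_true, Bool.and_eq_true] at he
          exact ⟨B.el u, by rw [leq_eq he.2]; exact evM_ok B.mok u,
            Subgroup.mem_centralizer_singleton_iff.2 (B.el_comm u 1)⟩
      refine ⟨l ++ [x], by simp [hl], fun i hi => ?_⟩
      rcases Nat.lt_succ_iff_lt_or_eq.1 hi with hi | rfl
      · rw [List.getD_append _ _ _ _ (hl ▸ hi)]; exact hl' i hi
      · rw [List.getD_append_right _ _ _ _ hl.le, hl, Nat.sub_self, List.getD_cons_zero]; exact hx
  obtain ⟨l, hl, hl'⟩ := key 12 le_rfl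
  replace hq : cQ.length = 12 := Nat.eq_of_beq_eq_true hq
  refine ⟨⟨γ, l, hmok, hmem, List.forall₂_iff_get.2 ⟨by omega, fun i h1 h2 => ?_⟩, fun x hx => ?_⟩⟩
  · have := (hl' i (by omega)).1
    rwa [List.getD_eq_getElem _ _ h1, List.getD_eq_getElem _ _ h2] at this
  · obtain ⟨i, hi, rfl⟩ := List.getElem_of_mem hx
    have := (hl' i (by omega)).2
    rwa [List.getD_eq_getElem _ _ hi] at this

theorem sep_sound : ∀ {g : List Spor.J4} {L : List (List ℕ)}, List.Forall₂ MOK g L → ∀ (acc w : ℕ) (u : Spor.J4),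
    (imgV u ⟨csep, csep_lt⟩).1 = w → sep L acc [csep] [w] = true →
      ∀ v < 2 ^ L.length, u * ev g v = 1 → acc = 0 ∧ v = 0
  | _, _, List.Forall₂.nil, acc, w, u, hw, hsep, v, hv, he => by
    obtain rfl : v = 0 := by simpa using hv
    refine ⟨?_, rfl⟩
    simp only [ev, mul_one] at he
    subst he
    have hw' : csep = w := by rw [← hw, imgV, map_one]; rfl
    subst hw'
    simpa [sep] using hsep
  | _, _, List.Forall₂.cons (a := a) (b := A) ha hl, acc, w, u, hw, hsep, v, hv, he => by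
    simp only [sep, Bool.and_eq_true, List.map_cons, List.map_nil] at hsep
    rw [List.length_cons, pow_succ] at hv
    rw [ev] at he
    rcases Nat.mod_two_eq_zero_or_one v with hm | hm
    · rw [if_neg (by omega), one_mul] at he
      obtain ⟨e1, e2⟩ := sep_sound hl (2 * acc) w u hw hsep.1 (v / 2) (by omega) he
      omega
    · rw [if_pos hm, ← mul_assoc] at he
      obtain ⟨e1, -⟩ := sep_sound hl (2 * acc + 1) _ (u * a) (by rw [imgV_mul, ha.img, hw]) hsep.2 (v / 2) (by omega) he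
      omega

/-- A set of numbers that is a space. -/
structure Closed2 (U : Finset ℕ) : Prop where
  zero : 0 ∈ U
  lt : ∀ a ∈ U, a < 4096
  xor : ∀ a ∈ U, ∀ b ∈ U, a ^^^ b ∈ U

theorem closed2_range : Closed2 (Finset.range 4096) :=
  ⟨Finset.mem_range.2 (by norm_num), fun _ ha => Finset.mem_range.1 ha, fun _ ha _ hb =>
    Finset.mem_range.2 (Nat.xor_lt_two_pow (n := 12) (Finset.mem_range.1 ha) (Finset.mem_range.1 hb))⟩

variable {B : EBasis} (D : CData B)

theorem CData.len : D.q.length = 12 := by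
  have h := hist_ok
  simp only [histOK, Bool.and_eq_true] at h
  exact D.mokq.length_eq.trans (Nat.eq_of_beq_eq_true h.1.1)

theorem CData.qget {i : ℕ} (hi : i < 12) : MOK (D.q.getD i 1) (cQ.getD i []) ∧ D.q.getD i 1 ∈ cent B := by
  have h1 : i < D.q.length := by rw [D.len]; exact hi
  have h2 : i < cQ.length := D.mokq.length_eq ▸ h1
  rw [List.getD_eq_getElem _ _ h1, List.getD_eq_getElem _ _ h2]
  exact ⟨List.Forall₂.get D.mokq h1 h2, D.memq _ (List.getElem_mem h1)⟩

theorem MOK.zb (b : Bool) : MOK (zb (B.el 1) b) (bif b then zM else J4Rep.idMat) := by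
  cases b
  · exact MOK.one
  · exact MOK.z B

theorem MOK.zb_mul (b : Bool) {g : Spor.J4} {A : List ℕ} (h : MOK g A) :
    MOK (J4Cert.zb (B.el 1) b * g) (bif b then mB zM A else A) := by
  cases b
  · simpa [J4Cert.zb] using h
  · exact (MOK.z B).mul h

theorem zb_sq (b : Bool) : zb (B.el 1) b * zb (B.el 1) b = 1 := by
  rw [zb_xor (B.el_sq 1), Bool.xor_self]; rfl

theorem CData.rel {i j : ℕ} (hi : i < 12) (hj : j < 12) : D.q.getD i 1 * D.q.getD j 1 =
    zb (B.el 1) (Nat.testBit (cForm.getD i 0) j) * (D.q.getD j 1 * D.q.getD i 1) := by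
  have h := relQ_ok
  simp only [relQ, Bool.and_eq_true, List.all_eq_true, List.mem_range, Bool.or_eq_true, beq_iff_eq] at h
  have key : ∀ a b, a < b → b < 12 → (Nat.testBit (cForm.getD a 0) b = Nat.testBit (cForm.getD b 0) a) ∧
      D.q.getD a 1 * D.q.getD b 1 = zb (B.el 1) (Nat.testBit (cForm.getD a 0) b) * (D.q.getD b 1 * D.q.getD a 1) := by
    intro a b hab hb
    rcases (h.2 a (by omega)).2 b hb with h' | h'
    · exact absurd (Nat.le_of_ble_eq_true h') (by omega)
    · refine ⟨h'.1, ?_⟩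
      have e1 := (D.qget (i := a) (by omega)).1.mul (D.qget hb).1
      rw [leq_eq h'.2] at e1
      exact e1.eq (MOK.zb_mul _ ((D.qget hb).1.mul (D.qget (i := a) (by omega)).1))
  rcases lt_trichotomy i j with hij | rfl | hij
  · exact (key i j hij hj).2
  · have hf := form_ok
    simp only [formOK, Bool.and_eq_true, List.all_eq_true, List.mem_range, Bool.not_eq_true'] at hf
    rw [(hf.1 i hi).1]
    exact (one_mul _).symm
  · obtain ⟨e1, e2⟩ := key j i hij hi
    rw [← e1, e2, ← mul_assoc, zb_sq, one_mul]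

theorem CData.sq {i : ℕ} (hi : i < 12) : D.q.getD i 1 * D.q.getD i 1 = zb (B.el 1) (cSq.getD i false) := by
  have h := relQ_ok
  simp only [relQ, Bool.and_eq_true, List.all_eq_true, List.mem_range] at h
  have e1 := (D.qget hi).1.mul (D.qget hi).1
  rw [leq_eq (h.2 i hi).1.2] at e1
  exact e1.eq (MOK.zb _)

theorem CData.mem_q {x : Spor.J4} (hx : x ∈ D.q) : ∃ i < 12, D.q.getD i 1 = x := by
  obtain ⟨i, hi, rfl⟩ := List.getElem_of_mem hx
  exact ⟨i, D.len ▸ hi, List.getD_eq_getElem _ _ hi⟩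

theorem CData.zc : ZC (B.el 1) D.q :=
  ⟨B.el_sq 1, fun g hg => Subgroup.mem_centralizer_singleton_iff.1 (D.memq g hg),
    fun g hg => by
      obtain ⟨i, hi, rfl⟩ := D.mem_q hg
      exact ⟨_, D.sq hi⟩,
    fun g hg h hh => by
      obtain ⟨i, hi, rfl⟩ := D.mem_q hg
      obtain ⟨j, hj, rfl⟩ := D.mem_q hh
      exact ⟨_, D.rel hi hj⟩⟩

theorem CData.zb_cen (v : ℕ) (b : Bool) : ev D.q v * zb (B.el 1) b = zb (B.el 1) b * ev D.q v :=
  zb_comm (ev_central D.zc.cen v) b

theorem CData.eq_zero {w : ℕ} {c : Bool} (hw : w < 4096) (h : ev D.q w = zb (B.el 1) c) : w = 0 ∧ c = false := by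
  have hlen : (zM :: cQ).length = 13 := by rw [List.length_cons, ← D.mokq.length_eq, D.len]
  have key : ∀ v < 8192, ev (B.el 1 :: D.q) v = 1 → v = 0 := fun v hv he =>
    (sep_sound (List.Forall₂.cons (MOK.z B) D.mokq) 0 csep 1 (by rw [imgV, map_one]; rfl) sepQ_ok v
      (by rw [hlen]; exact hv) (by rw [one_mul]; exact he)).2
  cases c
  · have := key (2 * w) (by omega) (by
      rw [ev, if_neg (by omega), one_mul, show 2 * w / 2 = w by omega, h]; rfl)
    exact ⟨by omega, rfl⟩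
  · have := key (2 * w + 1) (by omega) (by
      rw [ev, if_pos (by omega), show (2 * w + 1) / 2 = w by omega, h]; exact B.el_sq 1)
    omega

theorem CData.coord_inj {u v : ℕ} {a b : Bool} (hu : u < 4096) (hv : v < 4096)
    (h : zb (B.el 1) a * ev D.q u = zb (B.el 1) b * ev D.q v) : u = v ∧ a = b := by
  have e : ev D.q u = zb (B.el 1) (xor a b) * ev D.q v := by
    rw [← zb_xor (B.el_sq 1), mul_assoc, ← h, ← mul_assoc, zb_sq, one_mul]
  obtain ⟨c, hc⟩ := ev_mul D.zc u v
  obtain ⟨k, hk⟩ := ev_mul D.zc v v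
  rw [e, mul_assoc, hk, Nat.xor_self, ev_zero_gen, mul_one, zb_xor (B.el_sq 1)] at hc
  have e2 : ev D.q (u ^^^ v) = zb (B.el 1) (xor c (xor (xor a b) k)) := by
    rw [← zb_xor (B.el_sq 1) c, hc, ← mul_assoc, zb_sq, one_mul]
  have huv := Nat.xor_eq_zero_iff.1 (D.eq_zero (Nat.xor_lt_two_pow (n := 12) hu hv) e2).1
  subst huv
  refine ⟨rfl, ?_⟩
  have h' := mul_right_cancel h
  cases a <;> cases b
  · rfl
  · exact absurd (h'.symm : B.el 1 = 1) (el_one_ne B)
  · exact absurd (h' : B.el 1 = 1) (el_one_ne B)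
  · rfl

/-- The subgroup over a space of coordinates. -/
noncomputable def CData.span (U : Finset ℕ) (hU : Closed2 U) : Subgroup Spor.J4 where
  carrier := {g | ∃ b, ∃ u ∈ U, g = zb (B.el 1) b * ev D.q u}
  one_mem' := ⟨false, 0, hU.zero, by simp [zb, ev_zero_gen]⟩
  mul_mem' := by
    rintro _ _ ⟨a, u, hu, rfl⟩ ⟨b, v, hv, rfl⟩
    obtain ⟨c, hc⟩ := ev_mul D.zc u v
    refine ⟨xor (xor a b) c, u ^^^ v, hU.xor u hu v hv, ?_⟩
    rw [mul_assoc, ← mul_assoc (ev D.q u), D.zb_cen, mul_assoc, hc, ← mul_assoc, zb_xor (B.el_sq 1), ← mul_assoc,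
      zb_xor (B.el_sq 1)]
  inv_mem' := by
    rintro _ ⟨a, u, hu, rfl⟩
    obtain ⟨c, hc⟩ := ev_mul D.zc u u
    refine ⟨xor a c, u, hu, inv_eq_of_mul_eq_one_right ?_⟩
    rw [mul_assoc, ← mul_assoc (ev D.q u), D.zb_cen, mul_assoc, hc, Nat.xor_self, ev_zero_gen, mul_one, ← mul_assoc,
      zb_xor (B.el_sq 1), zb_xor (B.el_sq 1)]
    cases a <;> cases c <;> rfl

theorem CData.card_span {U : Finset ℕ} (hU : Closed2 U) : Nat.card (D.span U hU) = 2 * U.card := by
  have h : Function.Bijective fun p : Bool × U =>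
      (⟨zb (B.el 1) p.1 * ev D.q p.2.1, p.1, p.2.1, p.2.2, rfl⟩ : D.span U hU) := by
    refine ⟨?_, ?_⟩
    · rintro ⟨a, u, hu⟩ ⟨b, v, hv⟩ h
      obtain ⟨rfl, rfl⟩ := D.coord_inj (hU.lt u hu) (hU.lt v hv) (congrArg Subtype.val h)
      rfl
    · rintro ⟨g, b, u, hu, rfl⟩
      exact ⟨(b, ⟨u, hu⟩), rfl⟩
  rw [← Nat.card_eq_of_bijective _ h, Nat.card_prod, Nat.card_eq_finsetCard, Nat.card_eq_fintype_card, Fintype.card_bool]

/-- The extraspecial subgroup. -/
noncomputable def CData.Q : Subgroup Spor.J4 := D.span _ closed2_range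

theorem CData.card_Q : Nat.card D.Q = 8192 := by rw [CData.Q, D.card_span, Finset.card_range]

theorem CData.span_le {U : Finset ℕ} (hU : Closed2 U) : D.span U hU ≤ D.Q := by
  rintro _ ⟨b, u, hu, rfl⟩
  exact ⟨b, u, Finset.mem_range.2 (hU.lt u hu), rfl⟩

theorem CData.Q_le : D.Q ≤ cent B := by
  rintro _ ⟨b, u, -, rfl⟩
  rw [Subgroup.mem_centralizer_singleton_iff]
  calc zb (B.el 1) b * ev D.q u * B.el 1 = zb (B.el 1) b * B.el 1 * ev D.q u := by
        rw [mul_assoc, ev_central D.zc.cen, mul_assoc]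
    _ = B.el 1 * (zb (B.el 1) b * ev D.q u) := by rw [← zb_comm rfl b, mul_assoc]

theorem CData.Q_comm {g h : Spor.J4} (hg : g ∈ D.Q) (hh : h ∈ D.Q) :
    ∃ c, g * h = zb (B.el 1) c * (h * g) := by
  obtain ⟨a, u, -, rfl⟩ := hg
  obtain ⟨b, v, -, rfl⟩ := hh
  obtain ⟨c, hc⟩ := ev_mul D.zc u v
  obtain ⟨k, hk⟩ := ev_mul D.zc v u
  refine ⟨xor c k, ?_⟩
  have e : ev D.q u * ev D.q v = zb (B.el 1) (xor c k) * (ev D.q v * ev D.q u) := by
    rw [hc, hk, Nat.xor_comm v u, ← mul_assoc, zb_xor (B.el_sq 1)]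
    congr 2
    cases c <;> cases k <;> rfl
  simp only [mul_assoc]
  rw [← mul_assoc (ev D.q u), D.zb_cen u b, ← mul_assoc (ev D.q v), D.zb_cen v a]
  simp only [mul_assoc]
  rw [e]
  simp only [← mul_assoc, zb_xor (B.el_sq 1)]
  congr 3
  cases a <;> cases b <;> cases c <;> cases k <;> rfl

theorem maskU_testBit : ∀ (l : List ℕ) (a : ℕ), (maskU l).testBit a = true ↔ a ∈ l
  | [], a => by simp [maskU]
  | b :: l, a => by
    show (1 <<< b ||| maskU l).testBit a = true ↔ _
    rw [Nat.testBit_or, Bool.or_eq_true, maskU_testBit l a, Nat.one_shiftLeft, Nat.testBit_two_pow, decide_eq_true_eq,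
      List.mem_cons, eq_comm]

/-- The coordinates of a listed subgroup. -/
def objU (i : ℕ) : Finset ℕ := (cObj.getD i []).toFinset

theorem objU_card : ∀ i < 22, (objU i).card = 64 := by decide +kernel

theorem objU_closed (i : Fin 22) : Closed2 (objU i) := by
  have h := obj_ok
  simp only [objOK, Bool.and_eq_true, List.all_eq_true, Nat.blt_eq] at h
  have hi : (i : ℕ) < cObj.length := by rw [Nat.eq_of_beq_eq_true h.1]; exact i.2
  obtain ⟨h0, hx⟩ := h.2 _ (List.getElem_mem hi)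
  rw [← List.getD_eq_getElem _ [] hi] at h0 hx
  simp only [maskU_testBit] at h0 hx
  exact ⟨List.mem_toFinset.2 h0, fun a ha => (hx a (List.mem_toFinset.1 ha)).1,
    fun a ha b hb => List.mem_toFinset.2 ((hx a (List.mem_toFinset.1 ha)).2 b (List.mem_toFinset.1 hb))⟩

/-- The listed subgroups. -/
noncomputable def CData.U (i : Fin 22) : Subgroup Spor.J4 := D.span _ (objU_closed i)

theorem CData.card_U (i : Fin 22) : Nat.card (D.U i) = 128 := by rw [CData.U, D.card_span, objU_card i i.2]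

theorem CData.U_inj : Function.Injective D.U := by
  intro i k h
  by_contra hne
  have hn := objNe_ok
  simp only [objNe, List.all_eq_true, List.mem_range, Bool.or_eq_true, List.any_eq_true, Bool.not_eq_true'] at hn
  rcases hn i i.2 k k.2 with h' | ⟨u, hu, hu'⟩
  · exact hne (Fin.ext (Nat.eq_of_beq_eq_true h'))
  · have hm : ev D.q u ∈ D.U i := ⟨false, u, List.mem_toFinset.2 hu, (one_mul _).symm⟩
    rw [h] at hm
    obtain ⟨b, v, hv, e⟩ := hm
    obtain ⟨rfl, -⟩ := D.coord_inj (a := false) ((objU_closed i).lt u (List.mem_toFinset.2 hu))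
      ((objU_closed k).lt v hv) (by rw [← e]; exact one_mul _)
    rw [(maskU_testBit _ _).2 (List.mem_toFinset.1 hv)] at hu'
    exact Bool.noConfusion hu'

theorem CData.act (j : ℕ) (hj : j < 2) (v : ℕ) :
    ∃ b, D.γ j * ev D.q v * (D.γ j)⁻¹ = zb (B.el 1) b * ev D.q (J4Rep.va v (actRows j)) := by
  refine ev_map (z := B.el 1) (B.el_sq 1) D.zc (fun x => D.γ j * x * (D.γ j)⁻¹) (fun a b => by group) (by simp) ?_ v
  have h := act_ok
  simp only [actOK, Bool.and_eq_true, List.all_eq_true, List.mem_range] at h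
  obtain ⟨hl, hr⟩ := h.2 j hj
  refine List.forall₂_iff_get.2 ⟨by rw [actRows, List.length_map, D.len, Nat.eq_of_beq_eq_true hl], fun i h1 h2 => ?_⟩
  have hi : i < 12 := D.len ▸ h1
  have hi' : i < (cAct.getD j []).length := by simpa [actRows] using h2
  obtain ⟨-, e⟩ := hr i hi
  rw [List.getD_eq_getElem _ (0, false) hi'] at e
  refine ⟨((cAct.getD j [])[i]).2, ?_⟩
  have hm := ((D.mokγ j hj).1.mul (D.qget hi).1).mul (D.mokγ j hj).2
  rw [leq_eq e] at hm
  simp only [List.get_eq_getElem, actRows, List.getElem_map]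
  rw [← List.getD_eq_getElem _ (1 : Spor.J4) h1]
  refine hm.eq ?_
  cases ((cAct.getD j [])[i]).2
  · simpa [zev, zb] using evM_ok D.mokq _
  · exact (MOK.z B).mul (evM_ok D.mokq _)

/-- The permutation of a generator. -/
theorem CData.gen_map {j : ℕ} (hj : j < 2) (i : Fin 22) (k : Fin 22) (hk : (cPerm.getD j []).getD i 0 = k) :
    ∀ x ∈ D.U i, D.γ j * x * (D.γ j)⁻¹ ∈ D.U k := by
  rintro _ ⟨b, u, hu, rfl⟩
  obtain ⟨c, hc⟩ := D.act j hj u
  have h := objImg_ok
  simp only [objImg, List.all_eq_true, List.mem_range, Bool.and_eq_true, maskU_testBit] at h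
  have hu' := (h j hj i i.2).2 u (List.mem_toFinset.1 hu)
  rw [hk] at hu'
  refine ⟨xor b c, _, List.mem_toFinset.2 hu', ?_⟩
  rw [← mul_assoc (D.γ j), zb_comm (Subgroup.mem_centralizer_singleton_iff.1 (D.memγ j)), mul_assoc (zb _ b),
    mul_assoc (zb _ b), hc, ← mul_assoc, zb_xor (B.el_sq 1)]

theorem CData.Q_map {g : Spor.J4} (hg : g ∈ D.Q) (i : Fin 22) : ∀ x ∈ D.U i, g * x * g⁻¹ ∈ D.U i := by
  intro x hx
  obtain ⟨c, hc⟩ := D.Q_comm hg (D.span_le _ hx)
  rw [hc, mul_assoc, mul_inv_cancel_right]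
  refine mul_mem ?_ hx
  exact ⟨c, 0, (objU_closed i).zero, by rw [ev_zero_gen, mul_one]⟩

end Cfsg.Lib.J4Cert
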