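import Cfsg.Agent.J4Cert.Walk

/-!
The stabiliser of a partition of the points and a list of representatives of its cosets.
-/

set_option autoImplicit false

namespace Cfsg.Lib.J4Cert

open Cfsg.Lib.J4Pres Cfsg.Lib.PermCert

/-- An element maps classes of a colouring into classes. -/
def Stb (c : ℕ) (s : P) : Prop := ∀ i j : Fin 24, cl c i = cl c j → cl c (psi s i) = cl c (psi s j)

theorem Stb.of_blk {c π : ℕ} {s : P} (h : Blk c π s) : Stb c s := fun i j e => by rw [h i, h j, e]

theorem finite_P : Finite P := bound.1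

theorem card_P : Nat.card P = 244823040 := by
  rw [Nat.card_congr equivM24.toEquiv, Cfsg.Lib.Golay.card_M24]

/-- The stabiliser of the partition. -/
def stab (c : ℕ) : Subgroup P :=
  haveI := finite_P
  { carrier := {s | Stb c s}
    one_mem' := fun i j e => by simpa [map_one] using e
    mul_mem' := fun {a b} ha hb i j e => by
      rw [map_mul, Equiv.Perm.mul_apply, Equiv.Perm.mul_apply]
      exact ha _ _ (hb i j e)
    inv_mem' := fun {a} ha => by
      obtain ⟨n, hn⟩ : ∃ n : ℕ, a⁻¹ = a ^ n := by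
        refine ⟨orderOf a - 1, inv_eq_of_mul_eq_one_right ?_⟩
        rw [← pow_succ', Nat.sub_add_cancel (orderOf_pos a), pow_orderOf_eq_one]
      show Stb c a⁻¹
      rw [hn]
      clear hn
      induction n with
      | zero => exact fun i j e => by simpa [map_one] using e
      | succ n ih =>
        intro i j e
        rw [pow_succ, map_mul, Equiv.Perm.mul_apply, Equiv.Perm.mul_apply]
        exact ih _ _ (ha i j e) }

/-- The mask of a colour under a packed permutation. -/
def mask (c p j : ℕ) : List ℕ → ℕ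
  | [] => 0
  | i :: l => Nat.add (bif Nat.beq (cl c (ap p i)) j then Nat.shiftLeft 1 i else 0) (mask c p j l)

/-- An invariant of the partition. -/
def key (c m p : ℕ) : ℕ :=
  ((List.range m).map fun j => mask c p j (List.range 24) ^ 2).sum

/-- Each colour is below the bound and occurs. -/
def colOK (c m : ℕ) : Bool :=
  ((List.range 24).all fun i => decide (cl c i < m)) &&
    (List.range m).all fun j => (List.range 24).any fun i => cl c i == j

/-- A partition with representatives. -/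
structure Part where
  c : ℕ
  m : ℕ
  R : ℕ
  gens : List ℕ
  reps : Tr ℕ
  par : Tr (ℕ × ℕ)
  srt : List ℕ

/-- Each representative is an earlier one times a generator. -/
def Part.repsFrom (Q : Part) (lo : ℕ) : ℕ → Bool
  | 0 => true
  | n + 1 =>
    (bif Nat.beq lo 0 then Nat.beq (Q.reps.get 0) idp
     else Nat.blt (Q.par.get lo).1 lo && Nat.blt (Q.par.get lo).2 Q.gens.length &&
      Nat.beq (Q.reps.get lo) (pm (Q.reps.get (Q.par.get lo).1) (Q.gens.getD (Q.par.get lo).2 0))) &&
    Q.repsFrom (lo + 1) n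

/-- The listed indices have increasing invariants, all above a given one. -/
def Part.incr (Q : Part) : ℕ → List ℕ → Bool
  | _, [] => true
  | b, k :: l => Nat.blt k Q.R && Nat.blt b (key Q.c Q.m (Q.reps.get k)) && Q.incr (key Q.c Q.m (Q.reps.get k)) l

attribute [local irreducible] pm rel idp ap cl

theorem mask_eq (c p j : ℕ) : ∀ l : List ℕ,
    mask c p j l = (l.map fun i => if cl c (ap p i) = j then 2 ^ i else 0).sum
  | [] => rfl
  | i :: l => by
    rw [mask, List.map_cons, List.sum_cons, ← mask_eq c p j l]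
    cases h : Nat.beq (cl c (ap p i)) j
    · simp [Nat.ne_of_beq_eq_false h]
    · simp [Nat.eq_of_beq_eq_true h, Nat.one_shiftLeft]

theorem key_congr {c m : ℕ} (hc : colOK c m = true) {p q : ℕ} {a b : P} (ha : El p a) (hb : El q b)
    (h : a * b⁻¹ ∈ stab c) : key c m p = key c m q := by
  simp only [colOK, Bool.and_eq_true, List.all_eq_true, List.mem_range, decide_eq_true_eq, List.any_eq_true,
    beq_iff_eq] at hc
  have hrep : ∀ j : Fin m, ∃ i : Fin 24, cl c i = j := fun j => by
    obtain ⟨i, hi, e⟩ := hc.2 j j.2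
    exact ⟨⟨i, hi⟩, e⟩
  choose r hr using hrep
  let π : P → Fin m → Fin m := fun s j => ⟨cl c (psi s (r j)), hc.1 _ (psi s (r j)).2⟩
  have hs : ∀ s ∈ stab c, ∀ i : Fin 24, cl c (psi s i) = π s ⟨cl c i, hc.1 i i.2⟩ := fun s hs i =>
    hs i (r ⟨cl c i, hc.1 i i.2⟩) (hr ⟨cl c i, hc.1 i i.2⟩).symm
  have hinv : ∀ s ∈ stab c, Function.LeftInverse (π s⁻¹) (π s) := fun s hs' j => by
    refine Fin.ext ((hs s⁻¹ (inv_mem hs') (psi s (r j))).symm.trans ?_)
    rw [← Equiv.Perm.mul_apply, ← map_mul, inv_mul_cancel, map_one, Equiv.Perm.one_apply]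
    exact hr j
  have hm : ∀ j : Fin m, mask c p (π (a * b⁻¹) j) (List.range 24) = mask c q j (List.range 24) := by
    intro j
    rw [mask_eq, mask_eq]
    refine congrArg List.sum (List.map_congr_left fun i hi => ?_)
    rw [List.mem_range] at hi
    have e : cl c (ap p i) = π (a * b⁻¹) ⟨cl c (ap q i), by rw [hb ⟨i, hi⟩]; exact hc.1 _ (Fin.is_lt _)⟩ := by
      rw [show ap p i = psi (a * b⁻¹) (psi b ⟨i, hi⟩) by
        rw [← Equiv.Perm.mul_apply, ← map_mul, inv_mul_cancel_right]; exact ha ⟨i, hi⟩]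
      exact (hs _ h (psi b ⟨i, hi⟩)).trans (by simp only [hb ⟨i, hi⟩])
    refine if_congr ?_ rfl rfl
    rw [e]
    exact ⟨fun e' => congrArg Fin.val ((hinv _ h).injective (Fin.ext e')),
      fun e' => congrArg (fun x => (π (a * b⁻¹) x : ℕ)) (Fin.ext e')⟩
  have hsum : ∀ r, key c m r = ∑ j : Fin m, mask c r j (List.range 24) ^ 2 := fun r => by
    rw [key, Fin.sum_univ_def, show List.range m = (List.finRange m).map Fin.val from List.map_coe_finRange_eq_range.symm,
      List.map_map]
    rfl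
  rw [hsum, hsum]
  exact (Fintype.sum_bijective (π (a * b⁻¹)) ((hinv _ h).injective.bijective_of_finite)
    _ _ (fun j => by rw [hm j])).symm

theorem Part.repsFrom_sound (Q : Part) : ∀ (n lo : ℕ), Q.repsFrom lo n = true → ∀ k, lo ≤ k → k < lo + n →
    (k = 0 ∧ Q.reps.get 0 = idp) ∨ ((Q.par.get k).1 < k ∧ (Q.par.get k).2 < Q.gens.length ∧
      Q.reps.get k = pm (Q.reps.get (Q.par.get k).1) (Q.gens.getD (Q.par.get k).2 0))
  | 0, lo, _, k, h1, h2 => by omega
  | n + 1, lo, h, k, h1, h2 => by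
    simp only [Part.repsFrom, Bool.and_eq_true] at h
    rcases Nat.eq_or_lt_of_le h1 with rfl | hlt
    · cases h0 : Nat.beq lo 0
      · simp only [h0, cond_false, Bool.and_eq_true, Nat.blt_eq] at h
        exact Or.inr ⟨h.1.1.1, h.1.1.2, Nat.eq_of_beq_eq_true h.1.2⟩
      · simp only [h0, cond_true] at h
        exact Or.inl ⟨Nat.eq_of_beq_eq_true h0, Nat.eq_of_beq_eq_true h.1⟩
    · exact Part.repsFrom_sound Q n (lo + 1) h.2 k hlt (by omega)

theorem Part.reps_el (Q : Part) (hg : ∀ g ∈ Q.gens, ∃ a, El g a)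
    (hR : ∀ k < Q.R, (k = 0 ∧ Q.reps.get 0 = idp) ∨ ((Q.par.get k).1 < k ∧ (Q.par.get k).2 < Q.gens.length ∧
      Q.reps.get k = pm (Q.reps.get (Q.par.get k).1) (Q.gens.getD (Q.par.get k).2 0))) :
    ∀ k < Q.R, ∃ a, El (Q.reps.get k) a := by
  intro k
  induction k using Nat.strong_induction_on with
  | _ k ih =>
    intro hk
    rcases hR k hk with ⟨rfl, e⟩ | ⟨h1, h2, e⟩
    · exact ⟨1, e ▸ El.one⟩
    · obtain ⟨a, ha⟩ := ih _ h1 (h1.trans hk)
      obtain ⟨b, hb⟩ := hg (Q.gens.getD (Q.par.get k).2 0) (by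
        rw [List.getD_eq_getElem _ _ h2]; exact List.getElem_mem h2)
      exact ⟨a * b, e ▸ ha.mul hb⟩

theorem Part.incr_pairwise (Q : Part) : ∀ (l : List ℕ) (b : ℕ), Q.incr b l = true →
    (∀ k ∈ l, k < Q.R ∧ b < key Q.c Q.m (Q.reps.get k)) ∧
      l.Pairwise fun i j => key Q.c Q.m (Q.reps.get i) < key Q.c Q.m (Q.reps.get j)
  | [], b, _ => by simp
  | k :: l, b, h => by
    simp only [Part.incr, Bool.and_eq_true, Nat.blt_eq] at h
    obtain ⟨⟨h1, h2⟩, h3⟩ := h
    obtain ⟨ih1, ih2⟩ := Part.incr_pairwise Q l _ h3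
    refine ⟨fun j hj => ?_, List.pairwise_cons.2 ⟨fun j hj => (ih1 j hj).2, ih2⟩⟩
    rcases List.mem_cons.1 hj with rfl | hj
    · exact ⟨h1, h2⟩
    · exact ⟨(ih1 j hj).1, h2.trans (ih1 j hj).2⟩

/-- The facts on a certified partition. -/
structure Part.Spec (Q : Part) (rep : ℕ → P) (G : Subgroup P) : Prop where
  el : ∀ k < Q.R, El (Q.reps.get k) (rep k)
  eq : stab Q.c = G
  total : ∀ a : P, ∃ k < Q.R, a * (rep k)⁻¹ ∈ G

theorem Part.spec (Q : Part) (hg : ∀ g ∈ Q.gens, ∃ a, El g a) (hc : colOK Q.c Q.m = true)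
    (hr : Q.repsFrom 0 Q.R = true) (hs : Q.incr 0 Q.srt = true) (hl : Q.srt.length = Q.R) {G : Subgroup P}
    (hG : G ≤ stab Q.c) {N : ℕ} (hN : N ≤ Nat.card G) (hRN : Q.R * N = 244823040) :
    ∃ rep : ℕ → P, Q.Spec rep G := by
  classical
  haveI := finite_P
  have hel := Q.reps_el hg fun k hk => Q.repsFrom_sound _ 0 hr k (Nat.zero_le k) (by omega)
  let rep : ℕ → P := fun k => if hk : k < Q.R then (hel k hk).choose else 1
  have hrep : ∀ k < Q.R, El (Q.reps.get k) (rep k) := fun k hk => by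
    simp only [rep, dif_pos hk]
    exact (hel k hk).choose_spec
  obtain ⟨hlt, hpw⟩ := Q.incr_pairwise _ _ hs
  have hkey : ∀ i j, ∀ hi : i < Q.srt.length, ∀ hj : j < Q.srt.length,
      rep Q.srt[i] * (rep Q.srt[j])⁻¹ ∈ stab Q.c → i = j := by
    intro i j hi hj hm
    have e := key_congr hc (hrep _ (hlt _ (List.getElem_mem hi)).1) (hrep _ (hlt _ (List.getElem_mem hj)).1) hm
    rw [List.pairwise_iff_getElem] at hpw
    rcases lt_trichotomy i j with h | h | h
    · exact absurd e (Nat.ne_of_lt (hpw i j hi hj h))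
    · exact h
    · exact absurd e.symm (Nat.ne_of_lt (hpw j i hj hi h))
  let F : Fin Q.srt.length × stab Q.c → P := fun z => z.2.1 * rep Q.srt[z.1.1]
  have hF : Function.Injective F := by
    rintro ⟨⟨i, hi⟩, s⟩ ⟨⟨j, hj⟩, s'⟩ e
    simp only [F] at e
    have e' : rep Q.srt[i] * (rep Q.srt[j])⁻¹ = s.1⁻¹ * s'.1 := by
      rw [mul_inv_eq_iff_eq_mul, mul_assoc, ← e, inv_mul_cancel_left]
    obtain rfl := hkey i j hi hj (by rw [e']; exact mul_mem (inv_mem s.2) s'.2)
    rw [Prod.mk.injEq]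
    exact ⟨rfl, Subtype.ext (mul_right_cancel e)⟩
  have hcard := Nat.card_le_card_of_injective F hF
  rw [Nat.card_prod, Nat.card_eq_fintype_card (α := Fin _), Fintype.card_fin, card_P, hl] at hcard
  have hR0 : 0 < Q.R := by
    rcases Nat.eq_zero_or_pos Q.R with h | h
    · rw [h, zero_mul] at hRN; exact absurd hRN (by norm_num)
    · exact h
  have hst : Nat.card (stab Q.c) ≤ Nat.card G := by
    refine le_trans ?_ hN
    exact Nat.le_of_mul_le_mul_left (hcard.trans_eq hRN.symm) hR0
  have heq : stab Q.c = G := (Subgroup.eq_of_le_of_card_ge hG hst).symm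
  refine ⟨rep, hrep, heq, fun a => ?_⟩
  have hb : Function.Bijective F := (Nat.bijective_iff_injective_and_card F).2 ⟨hF, by
    rw [Nat.card_prod, Nat.card_eq_fintype_card (α := Fin _), Fintype.card_fin, hl, card_P]
    refine le_antisymm hcard (hRN.symm.le.trans ?_)
    exact Nat.mul_le_mul_left _ (heq ▸ hN)⟩
  obtain ⟨⟨⟨i, hi⟩, s⟩, rfl⟩ := hb.2 a
  refine ⟨Q.srt[i], (hlt _ (List.getElem_mem hi)).1, ?_⟩
  rw [← heq]
  simpa [F] using s.2

/-- The roots and the steps reach every representative. -/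
def covFrom (Q : Part) (gs : Tr ℕ) (ng : ℕ) : ℕ → List ℕ → Option ℕ
  | seen, [] => some seen
  | seen, e :: l =>
    let k := Nat.land e 4095
    let p := Nat.land (Nat.shiftRight e 12) 4095
    let g := Nat.land (Nat.shiftRight e 24) 255
    let π := Nat.shiftRight e 32
    bif Nat.blt k Q.R && Nat.testBit seen p && Nat.blt g ng &&
        Nat.beq (rel Q.c (Q.reps.get k) (pm (Q.reps.get p) (gs.get g))) (graph π Q.m) then
      covFrom Q gs ng (Nat.lor seen (Nat.shiftLeft 1 k)) l
    else none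

/-- The first fields of a packed number, 64 bits each. -/
def fields : ℕ → ℕ → List ℕ
  | 0, _ => []
  | n + 1, v => Nat.land v 0xffffffffffffffff :: fields n (Nat.shiftRight v 64)

/-- The fields of packed numbers. -/
def unpack : List (ℕ × ℕ) → List ℕ
  | [] => []
  | (n, v) :: l => fields n v ++ unpack l

/-- The mask of some indices. -/
def maskOf : List ℕ → ℕ
  | [] => 0
  | k :: l => Nat.lor (Nat.shiftLeft 1 k) (maskOf l)

theorem testBit_maskOf : ∀ (l : List ℕ) (j : ℕ), (maskOf l).testBit j = true → j ∈ l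
  | [], j, h => by simp [maskOf] at h
  | k :: l, j, h => by
    change ((1 <<< k) ||| maskOf l).testBit j = true at h
    rw [Nat.testBit_or, Bool.or_eq_true, Nat.one_shiftLeft, Nat.testBit_two_pow, decide_eq_true_eq] at h
    rcases h with rfl | h
    · exact List.mem_cons_self
    · exact List.mem_cons_of_mem _ (testBit_maskOf l j h)

theorem covFrom_sound {Q : Part} {rep : ℕ → P} {G : Subgroup P} (hQ : Q.Spec rep G) {gs : Tr ℕ} {ng : ℕ}
    {ga : ℕ → P} (hgs : ∀ g < ng, El (gs.get g) (ga g)) (Good : ℕ → Prop)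
    (step : ∀ k p g, k < Q.R → p < Q.R → g < ng → rep k * (rep p * ga g)⁻¹ ∈ G → Good p → Good k) :
    ∀ (l : List ℕ) (seen out : ℕ), covFrom Q gs ng seen l = some out →
      (∀ j, seen.testBit j = true → j < Q.R ∧ Good j) → ∀ j, out.testBit j = true → j < Q.R ∧ Good j
  | [], seen, out, h, hs, j, hj => by
    simp only [covFrom, Option.some.injEq] at h
    exact hs j (h ▸ hj)
  | e :: l, seen, out, h, hs, j, hj => by
    simp only [covFrom, Bool.cond_eq_ite] at h
    split at h <;> rename_i hc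
    all_goals try simp at h
    simp only [Bool.and_eq_true, Nat.blt_eq] at hc
    obtain ⟨⟨⟨hk, hp⟩, hg⟩, hr⟩ := hc
    refine covFrom_sound hQ hgs Good step l _ out h (fun i hi => ?_) j hj
    change (seen ||| 1 <<< Nat.land e 4095).testBit i = true at hi
    rw [Nat.testBit_or, Bool.or_eq_true, Nat.one_shiftLeft, Nat.testBit_two_pow, decide_eq_true_eq] at hi
    rcases hi with hi | rfl
    · exact hs i hi
    · obtain ⟨hpR, hgood⟩ := hs _ hp
      refine ⟨hk, step _ _ _ hk hpR hg ?_ hgood⟩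
      rw [← hQ.eq]
      exact Stb.of_blk (Blk.of_rel (hQ.el _ hk) ((hQ.el _ hpR).mul (hgs _ hg)) (Nat.eq_of_beq_eq_true hr))

end Cfsg.Lib.J4Cert
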