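import Cfsg.Agent.J4Cert.Check
import Cfsg.Agent.J4Cert.Part

/-!
A set of cosets closed under the generators bounds an index.
-/

set_option autoImplicit false

namespace Cfsg.Lib.J4Cert

open Cfsg.Lib.J4Pres

variable {X : Type*} [Group X] (S : Sys X)

/-- The coset of an element is in the orbit of a listed one. -/
def InO (live : List ℕ) (g : X) : Prop := ∃ n ∈ live, ∃ a : P, S.Eqv g (S.v n * S.f a)

/-- A walk lands in a listed coset. -/
def lands (T : Tr Fct) (M : ℕ) (live : List ℕ) (n h : ℕ) (ops ls : List ℕ) : Bool :=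
  ops.all (fun o => Nat.blt (Nat.shiftRight o 1) M) &&
    match walk T ⟨n, h, 0, false⟩ ops ls with
    | some (B, []) => live.contains B.n
    | _ => false

attribute [local irreducible] pm rel idp ap cl

variable {S}

theorem lands_sound {T : Tr Fct} {M : ℕ} (hT : ∀ k < M, FOK S (T.get k)) (hz : ∀ b x, S.Z b x = 1) {live : List ℕ}
    {n h : ℕ} {ops ls : List ℕ} (hl : lands T M live n h ops ls = true) {a : P} (ha : El h a) {as : List P}
    (has : List.Forall₂ El ls as) : InO S live (S.v n * S.f a * (as.map S.tc).prod) := by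
  simp only [lands, Bool.and_eq_true] at hl
  obtain ⟨hb, hl⟩ := hl
  cases hw : walk T ⟨n, h, 0, false⟩ ops ls with
  | none => simp [hw] at hl
  | some q =>
    obtain ⟨B, r⟩ := q
    cases r with
    | cons _ _ => simp [hw] at hl
    | nil =>
      simp only [hw] at hl
      have h0 : At S ⟨n, h, 0, false⟩ (S.v n * S.f a) := ⟨a, ha, by rw [hz, mul_one]; exact Sys.Eqv.refl S _⟩
      obtain ⟨as1, as2, rfl, h2, b, -, hB⟩ := walk_sound hT ops hb hw h0 has
      cases h2
      rw [hz, mul_one] at hB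
      exact ⟨B.n, List.contains_iff_mem.1 hl, b, by rwa [List.append_nil]⟩

theorem InO.mul_f {live : List ℕ} {g : X} (h : InO S live g) (b : P) : InO S live (g * S.f b) := by
  obtain ⟨n, hn, a, e⟩ := h
  exact ⟨n, hn, a * b, by rw [map_mul, ← mul_assoc]; exact e.mul_right _⟩

theorem InO.congr {live : List ℕ} {g g' : X} (h : InO S live g) (e : S.Eqv g' g) : InO S live g' := by
  obtain ⟨n, hn, a, e'⟩ := h
  exact ⟨n, hn, a, e.trans e'⟩

theorem closure_InO {live : List ℕ} (h0 : 0 ∈ live) (hv0 : S.v 0 = 1) (e : X) (he : e * e = 1)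
    (hcl : ∀ n ∈ live, ∀ a : P, InO S live (S.v n * S.f a * e)) :
    ∀ g ∈ Subgroup.closure (Set.range S.f ∪ {e}), InO S live g := by
  set L := Subgroup.closure (Set.range S.f ∪ {e})
  have hL : ∀ g ∈ L, ∀ w, (InO S live w → InO S live (w * g)) ∧ (InO S live w → InO S live (w * g⁻¹)) := by
    intro g hg
    induction hg using Subgroup.closure_induction with
    | mem x hx =>
      intro w
      rcases hx with ⟨a, rfl⟩ | rfl
      · exact ⟨fun h => h.mul_f a, fun h => by rw [← map_inv]; exact h.mul_f a⁻¹⟩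
      · have : ∀ w, InO S live w → InO S live (w * x) := fun w ⟨n, hn, a, ew⟩ =>
          (hcl n hn a).congr (ew.mul_right x)
        exact ⟨this w, fun h => by rw [inv_eq_of_mul_eq_one_right he]; exact this w h⟩
    | one => intro w; simp
    | mul x y _ _ hx hy =>
      intro w
      exact ⟨fun h => by rw [← mul_assoc]; exact (hy _).1 ((hx w).1 h),
        fun h => by rw [mul_inv_rev, ← mul_assoc]; exact (hx _).2 ((hy w).2 h)⟩
    | inv x _ hx =>
      intro w
      exact ⟨(hx w).2, fun h => by rw [inv_inv]; exact (hx w).1 h⟩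
  have hmem : ∀ g ∈ L, InO S live g := fun g hg => by
    have h1 : InO S live 1 := ⟨0, h0, 1, by rw [hv0, map_one, mul_one]; exact Sys.Eqv.refl S _⟩
    simpa using (hL g hg 1).1 h1
  exact hmem

/-- The points of the orbit of a listed coset. -/
def orbMap (n : ℕ) (a : P) : X ⧸ S.K := ((S.f a * (S.v n)⁻¹ : X) : X ⧸ S.K)

theorem orbMap_eq {n : ℕ} {a b : P} (h : S.Eqv (S.v n * S.f (a⁻¹ * b)) (S.v n)) :
    orbMap (S := S) n a = orbMap (S := S) n b := by
  show ((S.f a * (S.v n)⁻¹ : X) : X ⧸ S.K) = ((S.f b * (S.v n)⁻¹ : X) : X ⧸ S.K)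
  rw [QuotientGroup.eq]
  have : S.v n * S.f (a⁻¹ * b) * (S.v n)⁻¹ ∈ S.K := h
  simpa [mul_assoc] using this

theorem exists_orbMap {live : List ℕ} {g : X} (h : InO S live g⁻¹) :
    ∃ n ∈ live, ∃ a : P, orbMap (S := S) n a = (g : X ⧸ S.K) := by
  obtain ⟨n, hn, a, ha⟩ := h
  refine ⟨n, hn, a⁻¹, ?_⟩
  show ((S.f a⁻¹ * (S.v n)⁻¹ : X) : X ⧸ S.K) = ((g : X) : X ⧸ S.K)
  rw [QuotientGroup.eq, mul_inv_rev, inv_inv, ← map_inv, inv_inv]
  simpa [Sys.Eqv, mul_assoc] using ha.symm

theorem relIndex_bound {live : List ℕ} (hnd : live.Nodup) (h0 : 0 ∈ live) (hv0 : S.v 0 = 1) (e : X) (he : e * e = 1)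
    (hcl : ∀ n ∈ live, ∀ a : P, InO S live (S.v n * S.f a * e)) (ord : ℕ → ℕ) (G : ℕ → Subgroup P)
    (hord : ∀ n ∈ live, 0 < ord n ∧ ord n ≤ Nat.card (G n))
    (hG : ∀ n ∈ live, ∀ s ∈ G n, S.Eqv (S.v n * S.f s) (S.v n))
    (hK : S.K ≤ Subgroup.closure (Set.range S.f ∪ {e})) :
    S.K.relIndex (Subgroup.closure (Set.range S.f ∪ {e})) ≠ 0 ∧
      S.K.relIndex (Subgroup.closure (Set.range S.f ∪ {e})) ≤ (live.map fun n => 244823040 / ord n).sum := by
  classical
  haveI := finite_P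
  set L := Subgroup.closure (Set.range S.f ∪ {e})
  have hmem : ∀ g ∈ L, InO S live g := closure_InO h0 hv0 e he hcl
  let Φ : (Σ n : {n // n ∈ live}, P ⧸ G n.1) → X ⧸ S.K := fun z =>
    Quotient.liftOn' z.2 (fun a => ((S.f a * (S.v z.1.1)⁻¹ : X) : X ⧸ S.K)) fun a b hab => by
      rw [QuotientGroup.leftRel_apply] at hab
      rw [QuotientGroup.eq]
      have h := (hG _ z.1.2 _ hab)
      have : S.v z.1.1 * S.f (a⁻¹ * b) * (S.v z.1.1)⁻¹ ∈ S.K := h
      simpa [mul_assoc] using this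
  haveI : Finite (Σ n : {n // n ∈ live}, P ⧸ G n.1) := inferInstance
  let ι : L ⧸ S.K.subgroupOf L → X ⧸ S.K := Quotient.map' Subtype.val fun a b hab => by
    rw [QuotientGroup.leftRel_apply] at hab ⊢
    exact hab
  have hι : Function.Injective ι := by
    intro q q'
    refine Quotient.inductionOn₂' q q' fun a b h => Quotient.sound' ?_
    rw [QuotientGroup.leftRel_apply]
    have h' : ((a.1 : X) : X ⧸ S.K) = (b.1 : X) := h
    rw [Subgroup.mem_subgroupOf]
    simpa using QuotientGroup.eq.1 h'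
  have hsub : Set.range ι ⊆ Set.range Φ := by
    rintro _ ⟨q, rfl⟩
    refine Quotient.inductionOn' q fun g => ?_
    obtain ⟨n, hn, a, ha⟩ := hmem _ (inv_mem g.2)
    refine ⟨⟨⟨n, hn⟩, ((a⁻¹ : P) : P ⧸ G n)⟩, ?_⟩
    show ((S.f a⁻¹ * (S.v n)⁻¹ : X) : X ⧸ S.K) = ((g : X) : X ⧸ S.K)
    rw [QuotientGroup.eq, mul_inv_rev, inv_inv, ← map_inv, inv_inv]
    have h := ha.symm
    simpa [Sys.Eqv, mul_assoc] using h
  have hfin : Finite (L ⧸ S.K.subgroupOf L) := by
    haveI : Finite (Set.range Φ) := Set.finite_range Φ |>.to_subtype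
    exact Finite.of_injective (fun q => (⟨ι q, hsub ⟨q, rfl⟩⟩ : Set.range Φ)) fun q q' h =>
      hι (congrArg Subtype.val h)
  rw [Subgroup.relIndex, Subgroup.index]
  refine ⟨Nat.card_ne_zero.2 ⟨⟨(1 : L)⟩, hfin⟩, ?_⟩
  calc Nat.card (L ⧸ S.K.subgroupOf L) = (Set.range ι).ncard := by
        rw [← Nat.card_coe_set_eq, Nat.card_range_of_injective hι]
    _ ≤ (Set.range Φ).ncard := Set.ncard_le_ncard hsub (Set.finite_range Φ)
    _ ≤ Nat.card (Σ n : {n // n ∈ live}, P ⧸ G n.1) := by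
        rw [← Nat.card_coe_set_eq]
        exact Finite.card_range_le Φ
    _ ≤ (live.map fun n => 244823040 / ord n).sum := by
        haveI : Fintype {n // n ∈ live} := Fintype.ofFinite _
        rw [Nat.card_sigma, ← List.sum_toFinset _ hnd,
          ← Finset.sum_attach live.toFinset (fun n => 244823040 / ord n)]
        refine le_trans (le_of_eq ?_) (Finset.sum_le_sum (f := fun n => Nat.card (P ⧸ G n.1)) fun n _ => ?_)
        · refine Finset.sum_bij (fun n _ => ⟨n.1, List.mem_toFinset.2 n.2⟩) (by simp) ?_ ?_ (by simp)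
          · intro a _ b _ h; exact Subtype.ext (congrArg Subtype.val h :)
          · intro b _; exact ⟨⟨b.1, List.mem_toFinset.1 b.2⟩, Finset.mem_univ _, rfl⟩
        · obtain ⟨h1, h2⟩ := hord n.1 (List.mem_toFinset.1 n.2)
          have h3 := Subgroup.card_mul_index (G n.1)
          rw [card_P] at h3
          show (G n.1).index ≤ _
          rw [Nat.le_div_iff_mul_le h1, ← h3, mul_comm]
          exact Nat.mul_le_mul_right _ h2

end Cfsg.Lib.J4Cert
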