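import Cfsg.Agent.J4Cert.Cosets
import Cfsg.Agent.J4Cert.Base
import Cfsg.Agent.CosetCert.Lower

/-!
A listed coset with its stabiliser, and the classes reached from it.
-/

set_option autoImplicit false

namespace Cfsg.Lib.J4Cert

open Cfsg.Lib.J4Pres

/-- The data of a coset. -/
structure Cov where
  n : ℕ
  ord : ℕ
  gens : Tr ℕ
  idx : List ℕ
  roots : List (ℕ × List ℕ)
  steps : List (ℕ × ℕ)
  tabs : List PermCert.PP
  chain : List CosetCert.Lev

/-- The generators are facts at the coset. -/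
def gensFrom (T : Tr Fct) (M n : ℕ) (gens : Tr ℕ) : ℕ → List ℕ → Bool
  | _, [] => true
  | g, f :: l => Nat.blt f M && Nat.beq (T.get f).i n && Nat.beq (T.get f).j n && Nat.beq (T.get f).r 0 &&
      Nat.beq (gens.get g) (T.get f).h && gensFrom T M n gens (g + 1) l

/-- A table agrees with a packed permutation. -/
def agree (t : PermCert.PP) (p : ℕ) : Bool :=
  PermCert.valid 24 t && (List.range 24).all fun i => Nat.beq (ap p i) (PermCert.ap t.1 i)

/-- The stabiliser part. -/
def Cov.stabOK (C : Cov) (T : Tr Fct) (M : ℕ) : Bool :=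
  gensFrom T M C.n C.gens 0 C.idx && Nat.beq C.tabs.length (2 * C.idx.length) &&
    ((List.range C.idx.length).all fun g => agree (C.tabs.getD (2 * g) (0, 0)) (C.gens.get g) &&
      C.tabs.getD (2 * g + 1) (0, 0) == PermCert.pinv (C.tabs.getD (2 * g) (0, 0))) &&
    CosetCert.chainOK C.tabs 24 C.tabs.length C.chain && Nat.beq (CosetCert.chainSize C.chain) C.ord &&
    Nat.blt 0 C.ord

/-- The classes are all reached. -/
def Cov.allOK (Q : Part) (C : Cov) : Bool :=
  (C.roots.all fun r => Nat.blt r.1 Q.R) &&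
    match covFrom Q C.gens C.idx.length (maskOf (C.roots.map Prod.fst)) (unpack C.steps) with
    | some out => Nat.beq out (2 ^ Q.R - 1)
    | none => false

/-- The roots land in listed cosets by one letter. -/
def Cov.trioOK (Q : Part) (C : Cov) (T : Tr Fct) (M : ℕ) (live : List ℕ) : Bool :=
  C.roots.all fun r => lands T M live C.n idp r.2 [Q.reps.get r.1]

attribute [local irreducible] pm rel idp ap cl

variable {X : Type*} [Group X] {S : Sys X}

theorem gensFrom_sound {T : Tr Fct} {M n : ℕ} {gens : Tr ℕ} (hT : ∀ k < M, FOK S (T.get k))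
    (hz : ∀ b x, S.Z b x = 1) : ∀ (l : List ℕ) (g : ℕ), gensFrom T M n gens g l = true →
      ∀ i < l.length, ∃ a, El (gens.get (g + i)) a ∧ S.Eqv (S.v n * S.f a) (S.v n)
  | [], g, _, i, hi => by simp at hi
  | f :: l, g, h, i, hi => by
    simp only [gensFrom, Bool.and_eq_true, Nat.blt_eq] at h
    obtain ⟨⟨⟨⟨⟨h1, h2⟩, h3⟩, h4⟩, h5⟩, h6⟩ := h
    cases i with
    | zero =>
      obtain ⟨a, ha, -, hE⟩ := hT f h1
      rw [if_pos (Nat.eq_of_beq_eq_true h4), Nat.eq_of_beq_eq_true h2, Nat.eq_of_beq_eq_true h3, hz, mul_one] at hE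
      exact ⟨a, by rw [add_zero, Nat.eq_of_beq_eq_true h5]; exact ha, hE.symm⟩
    | succ i =>
      obtain ⟨a, ha, hE⟩ := gensFrom_sound hT hz l (g + 1) h6 i (by simp only [List.length_cons] at hi; omega)
      exact ⟨a, by rwa [show g + (i + 1) = g + 1 + i by omega], hE⟩

theorem El.of_agree {t : PermCert.PP} {p : ℕ} {a : P} (h : agree t p = true) (ha : El p a) :
    PermCert.valid 24 t = true ∧ psi a = PermCert.perm 24 t := by
  simp only [agree, Bool.and_eq_true, List.all_eq_true, List.mem_range] at h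
  refine ⟨h.1, Equiv.ext fun i => Fin.ext ?_⟩
  rw [PermCert.perm_apply h.1, ← Nat.eq_of_beq_eq_true (h.2 i i.2), ha i]

theorem Cov.stab_sound {C : Cov} {T : Tr Fct} {M : ℕ} (hT : ∀ k < M, FOK S (T.get k)) (hz : ∀ b x, S.Z b x = 1)
    (h : C.stabOK T M = true) : ∃ (ga : ℕ → P) (G : Subgroup P), (∀ g < C.idx.length, El (C.gens.get g) (ga g)) ∧
      (∀ g < C.idx.length, ga g ∈ G) ∧ 0 < C.ord ∧ C.ord ≤ Nat.card G ∧
      ∀ s ∈ G, S.Eqv (S.v C.n * S.f s) (S.v C.n) := by
  classical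
  simp only [Cov.stabOK, Bool.and_eq_true, List.all_eq_true, List.mem_range, Nat.blt_eq, beq_iff_eq] at h
  obtain ⟨⟨⟨⟨⟨hg, hl⟩, htab⟩, hc⟩, hs⟩, hpos⟩ := h
  have he : ∀ g < C.idx.length, ∃ a, El (C.gens.get g) a ∧ S.Eqv (S.v C.n * S.f a) (S.v C.n) := fun g hg' => by
    obtain ⟨a, ha⟩ := gensFrom_sound hT hz _ _ hg g hg'
    exact ⟨a, by rwa [zero_add] at ha⟩
  let ga : ℕ → P := fun g => if hg : g < C.idx.length then (he g hg).choose else 1
  have hga : ∀ g < C.idx.length, El (C.gens.get g) (ga g) ∧ S.Eqv (S.v C.n * S.f (ga g)) (S.v C.n) := by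
    intro g hg
    simpa only [ga, dif_pos hg] using (he g hg).choose_spec
  let E : Subgroup P :=
    { carrier := {s | S.Eqv (S.v C.n * S.f s) (S.v C.n)}
      one_mem' := by show S.Eqv _ _; rw [map_one, mul_one]; exact Sys.Eqv.refl S _
      mul_mem' := fun {a b} (ha : S.Eqv _ _) (hb : S.Eqv _ _) => by
        show S.Eqv _ _
        rw [map_mul, ← mul_assoc]
        exact (ha.mul_right _).trans hb
      inv_mem' := fun {a} (ha : S.Eqv _ _) => by
        show S.Eqv _ _
        have := (ha.mul_right (S.f a⁻¹)).symm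
        rwa [mul_assoc, ← map_mul, mul_inv_cancel, map_one, mul_one] at this }
  let G : Subgroup P := Subgroup.closure (ga '' Set.Iio C.idx.length)
  have hGE : G ≤ E := (Subgroup.closure_le _).2 (by rintro _ ⟨g, hg, rfl⟩; exact (hga g hg).2)
  have hmem : ∀ g < C.idx.length, ga g ∈ G := fun g hg => Subgroup.subset_closure ⟨g, hg, rfl⟩
  let imL : ℕ → P := fun l => if l % 2 = 0 then ga (l / 2) else (ga (l / 2))⁻¹
  refine ⟨ga, G, fun g hg => (hga g hg).1, hmem, hpos, ?_, fun s hs => hGE hs⟩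
  rw [← Nat.eq_of_beq_eq_true hs]
  haveI := finite_P
  refine CosetCert.chain_bound imL psi C.tabs (fun l hl' => ?_) C.chain G hc inferInstance fun K hK w hw => ?_
  · rw [Nat.eq_of_beq_eq_true hl] at hl'
    obtain ⟨ha, hi⟩ := htab (l / 2) (by omega)
    obtain ⟨v1, e1⟩ := El.of_agree ha (hga (l / 2) (by omega)).1
    rcases Nat.mod_two_eq_zero_or_one l with hm | hm
    · rw [show l = 2 * (l / 2) by omega, show imL (2 * (l / 2)) = ga (l / 2) by simp [imL]]
      exact ⟨v1, e1⟩
    · rw [show C.tabs.getD l (0, 0) = PermCert.pinv (C.tabs.getD (2 * (l / 2)) (0, 0)) by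
        rw [← hi, show 2 * (l / 2) + 1 = l by omega]]
      refine ⟨PermCert.valid_pinv v1, ?_⟩
      rw [show imL l = (ga (l / 2))⁻¹ by simp [imL, hm], map_inv, e1, PermCert.perm_pinv v1]
  · refine list_prod_mem fun x hx => ?_
    obtain ⟨l, hl', rfl⟩ := List.mem_map.1 hx
    have hlt : l < C.tabs.length := CosetCert.chain_bound.chain_letters.{0} C.tabs C.chain hc K hK w hw l hl'
    rw [Nat.eq_of_beq_eq_true hl] at hlt
    show imL l ∈ G
    simp only [imL]
    split
    · exact hmem _ (by omega)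
    · exact inv_mem (hmem _ (by omega))

theorem Cov.all_sound {Q : Part} {rep : ℕ → P} {H : Subgroup P} (hQ : Q.Spec rep H) {C : Cov}
    (h : C.allOK Q = true) {ga : ℕ → P} (hga : ∀ g < C.idx.length, El (C.gens.get g) (ga g)) (Good : ℕ → Prop)
    (hroot : ∀ r ∈ C.roots, r.1 < Q.R → Good r.1)
    (step : ∀ k p g, k < Q.R → p < Q.R → g < C.idx.length → rep k * (rep p * ga g)⁻¹ ∈ H → Good p → Good k) :
    ∀ k < Q.R, Good k := by
  simp only [Cov.allOK, Bool.and_eq_true, List.all_eq_true, Nat.blt_eq] at h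
  obtain ⟨hR, h⟩ := h
  cases hc : covFrom Q C.gens C.idx.length (maskOf (C.roots.map Prod.fst)) (unpack C.steps) with
  | none => simp [hc] at h
  | some out =>
    simp only [hc] at h
    intro k hk
    refine (covFrom_sound hQ hga Good step _ _ out hc (fun j hj => ?_) k ?_).2
    · obtain ⟨r, hr, rfl⟩ := List.mem_map.1 (testBit_maskOf _ _ hj)
      exact ⟨hR r hr, hroot r hr (hR r hr)⟩
    · rw [Nat.eq_of_beq_eq_true h, Nat.testBit_two_pow_sub_one]
      exact decide_eq_true hk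

theorem Cov.trio_sound {Q : Part} {rep : ℕ → P} (hQ : Q.Spec rep (stab colT)) (hc : Q.c = colT) {C : Cov}
    {T : Tr Fct} {M : ℕ} {live : List ℕ} (hT : ∀ k < M, FOK S (T.get k)) (hz : ∀ b x, S.Z b x = 1)
    (h1 : C.stabOK T M = true) (h2 : C.allOK Q = true) (h3 : C.trioOK Q T M live = true)
    (htw : ∀ s ∈ stab colT, S.t * S.f s = S.f s * S.t) :
    ∃ G : Subgroup P, (0 < C.ord ∧ C.ord ≤ Nat.card G) ∧ (∀ s ∈ G, S.Eqv (S.v C.n * S.f s) (S.v C.n)) ∧
      ∀ a : P, InO S live (S.v C.n * S.f a * S.t) := by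
  obtain ⟨ga, G, hga, hmem, hp, hord, hG⟩ := Cov.stab_sound hT hz h1
  have htc : ∀ a b : P, a * b⁻¹ ∈ stab colT → S.tc a = S.tc b := fun a b hab => by
    have := htw _ hab
    calc S.tc a = (S.f b)⁻¹ * ((S.f (a * b⁻¹))⁻¹ * (S.t * S.f (a * b⁻¹))) * S.f b := by
          simp only [Sys.tc, map_mul, map_inv]; group
      _ = S.tc b := by rw [this]; simp only [Sys.tc]; group
  simp only [Cov.trioOK, List.all_eq_true] at h3
  have hgood := Cov.all_sound hQ h2 hga (fun k => InO S live (S.v C.n * S.tc (rep k))) (fun r hr hrR => by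
      have := lands_sound hT hz (h3 r hr) El.one (as := [rep r.1]) (List.Forall₂.cons (hQ.el _ hrR) List.Forall₂.nil)
      simpa using this)
    fun k p g _ _ hg hmem' hgood => by
      have h5 := (hgood.mul_f (ga g))
      refine h5.congr ?_
      rw [htc _ _ hmem']
      have e : S.tc (rep p * ga g) = (S.f (ga g))⁻¹ * S.tc (rep p) * S.f (ga g) := by
        simp only [Sys.tc, map_mul]; group
      have h6 := (hG _ (inv_mem (hmem g hg))).mul_right (S.tc (rep p) * S.f (ga g))
      rw [e]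
      simpa [mul_assoc] using h6
  refine ⟨G, ⟨hp, hord⟩, hG, fun a => ?_⟩
  obtain ⟨k, hk, hka⟩ := hQ.total a⁻¹
  have := (hgood k hk).mul_f a
  rw [← htc _ _ hka] at this
  have e : S.v C.n * S.f a * S.t = S.v C.n * S.tc a⁻¹ * S.f a := by
    simp only [Sys.tc, map_inv]; group
  rwa [e]

end Cfsg.Lib.J4Cert
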