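import Cfsg.Agent.J4Cert.Mat
import Cfsg.Agent.J4Cert.Data.EData

/-!
An elementary abelian group of order 2048 in the image, with the action of the letters.
-/

set_option autoImplicit false
set_option maxRecDepth 8000

namespace Cfsg.Lib.J4Cert

open Cfsg Cfsg.Lib.J4Rep

/-- The inverse letter. -/
def invL : ℕ → ℕ
  | 0 => 0
  | 1 => 2
  | 2 => 1
  | _ => 3

/-- The matrix of a word. -/
def wordM : List ℕ → List ℕ
  | [] => idMat
  | l :: w => mB (letM l) (wordM w)

/-- A matrix conjugated by a letter. -/
def conjM (A : List ℕ) (l : ℕ) : List ℕ := mB (mB (letM (invL l)) A) (letM l)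

/-- The selected product. -/
def evM : List (List ℕ) → ℕ → List ℕ
  | [], _ => idMat
  | A :: l, v => bif Nat.beq (Nat.land v 1) 1 then mB A (evM l (Nat.shiftRight v 1)) else evM l (Nat.shiftRight v 1)

/-- The later basis elements are conjugates of earlier ones. -/
def parOK : ℕ → List (ℕ × ℕ) → Bool
  | _, [] => true
  | k, (q, l) :: r =>
    Nat.blt q k && Nat.blt l 3 && (conjM (eBasis.getD q []) l == eBasis.getD k []) && parOK (k + 1) r

/-- The basis elements are commuting involutions. -/
def commOK : List (List ℕ) → Bool
  | [] => true
  | A :: l => (mB A A == idMat) && (l.all fun B => mB A B == mB B A) && commOK l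

/-- The action of the letters on the basis. -/
def rowsOK : Bool :=
  (List.range 3).all fun l => (List.range 11).all fun k =>
    decide ((eRows.getD l []).getD k 0 < 2048) &&
      (conjM (eBasis.getD k []) l == evM eBasis ((eRows.getD l []).getD k 0))

/-- The images of a list of vectors. -/
def sep : List (List ℕ) → ℕ → List ℕ → List ℕ → Bool
  | [], acc, vs, ws => Nat.beq acc 0 || vs != ws
  | A :: l, acc, vs, ws =>
    sep l (2 * acc) vs ws && sep l (2 * acc + 1) vs (ws.map fun w => vt (tabs4 A) w)

/-- Steps reach a vector from an earlier one. -/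
def orbFrom : ℕ → List (ℕ × ℕ × ℕ) → Option ℕ
  | seen, [] => some seen
  | seen, (n, v, l) :: r =>
    bif Nat.blt l 3 && Nat.testBit seen v && Nat.beq (J4Rep.va v (eRows.getD l [])) n then
      orbFrom (Nat.lor seen (Nat.shiftLeft 1 n)) r
    else none

/-- The representatives and the steps cover every nonzero vector. -/
def orbOK : Bool :=
  match orbFrom (eWit.foldl (fun s e => Nat.lor s (Nat.shiftLeft 1 e.1)) 0) eOrb with
  | some out => Nat.beq out (2 ^ 2048 - 2)
  | none => false

/-- The conjugate by the involution does not commute with a basis element. -/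
def witOK : Bool :=
  eWit.all fun e =>
    decide (e.2 < 11) &&
      (fun D B => mB D B != mB B D) (conjM (evM eBasis e.1) 3) (eBasis.getD e.2 [])

theorem eBasis_shape : eBasis.length = 11 ∧ ePar.length = 10 ∧ eBasis.all okMat = true := by decide +kernel

theorem eWord_ok : wordM eWord = eBasis.getD 0 [] := by decide +kernel

theorem ePar_ok : parOK 1 ePar = true := by decide +kernel

theorem eBasis_comm : commOK eBasis = true := by decide +kernel

theorem eRows_ok : rowsOK = true := by decide +kernel

theorem eSep_ok : sep eBasis 0 eVecs eVecs = true ∧ eVecs.all (fun v => decide (v < 2 ^ 112)) = true := by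
  decide +kernel

theorem eOrb_ok : orbOK = true := by decide +kernel

theorem eWit_ok : witOK = true := by decide +kernel

end Cfsg.Lib.J4Cert
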