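import Cfsg.Agent.J4Cert.KDef

/-!
The facts are checked in ranges.
-/

set_option autoImplicit false
set_option maxRecDepth 8000
set_option Elab.async false

namespace Cfsg.Lib.J4Cert

theorem kC_ok7 : kC.okRange 1750 250 = true := by decide +kernel

theorem kC_ok8 : kC.okRange 2000 250 = true := by decide +kernel

theorem kC_ok9 : kC.okRange 2250 250 = true := by decide +kernel

theorem kC_ok10 : kC.okRange 2500 250 = true := by decide +kernel

theorem kC_ok11 : kC.okRange 2750 250 = true := by decide +kernel

theorem kC_ok12 : kC.okRange 3000 250 = true := by decide +kernel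

theorem kC_ok13 : kC.okRange 3250 208 = true := by decide +kernel

end Cfsg.Lib.J4Cert
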