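import Cfsg.Agent.J4Cert.KCheck0
import Cfsg.Agent.J4Cert.KCheck1

/-!
All facts are checked.
-/

set_option autoImplicit false
set_option maxRecDepth 8000
set_option Elab.async false

namespace Cfsg.Lib.J4Cert

theorem kC_all : ∀ k < kLen, kC.okAt k = true := by
  intro k hk
  simp only [kLen] at hk
  rcases Nat.lt_or_ge k 250 with h | h
  · exact okRange_sound kC 250 0 kC_ok0 k (by omega) (by omega)
  rcases Nat.lt_or_ge k 500 with h | h
  · exact okRange_sound kC 250 250 kC_ok1 k (by omega) (by omega)
  rcases Nat.lt_or_ge k 750 with h | h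
  · exact okRange_sound kC 250 500 kC_ok2 k (by omega) (by omega)
  rcases Nat.lt_or_ge k 1000 with h | h
  · exact okRange_sound kC 250 750 kC_ok3 k (by omega) (by omega)
  rcases Nat.lt_or_ge k 1250 with h | h
  · exact okRange_sound kC 250 1000 kC_ok4 k (by omega) (by omega)
  rcases Nat.lt_or_ge k 1500 with h | h
  · exact okRange_sound kC 250 1250 kC_ok5 k (by omega) (by omega)
  rcases Nat.lt_or_ge k 1750 with h | h
  · exact okRange_sound kC 250 1500 kC_ok6 k (by omega) (by omega)
  rcases Nat.lt_or_ge k 2000 with h | h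
  · exact okRange_sound kC 250 1750 kC_ok7 k (by omega) (by omega)
  rcases Nat.lt_or_ge k 2250 with h | h
  · exact okRange_sound kC 250 2000 kC_ok8 k (by omega) (by omega)
  rcases Nat.lt_or_ge k 2500 with h | h
  · exact okRange_sound kC 250 2250 kC_ok9 k (by omega) (by omega)
  rcases Nat.lt_or_ge k 2750 with h | h
  · exact okRange_sound kC 250 2500 kC_ok10 k (by omega) (by omega)
  rcases Nat.lt_or_ge k 3000 with h | h
  · exact okRange_sound kC 250 2750 kC_ok11 k (by omega) (by omega)
  rcases Nat.lt_or_ge k 3250 with h | h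
  · exact okRange_sound kC 250 3000 kC_ok12 k (by omega) (by omega)
  rcases Nat.lt_or_ge k 3458 with h | h
  · exact okRange_sound kC 208 3250 kC_ok13 k (by omega) (by omega)
  omega

end Cfsg.Lib.J4Cert
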