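import Cfsg.Agent.J4Cert.KCovDef

/-!
The orbits are checked.
-/

set_option autoImplicit false
set_option maxRecDepth 8000
set_option Elab.async false

namespace Cfsg.Lib.J4Cert

theorem kCov17_ok : kCov17.stabOK kFacts kLen = true ∧ kCov17.allOK trioQ = true ∧
    kCov17.trioOK trioQ kFacts kLen kLiveN = true := by
  refine ⟨?_, ?_, ?_⟩ <;> decide +kernel

theorem kCov21_ok : kCov21.stabOK kFacts kLen = true ∧ kCov21.allOK trioQ = true ∧
    kCov21.trioOK trioQ kFacts kLen kLiveN = true := by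
  refine ⟨?_, ?_, ?_⟩ <;> decide +kernel

theorem kCov22_ok : kCov22.stabOK kFacts kLen = true ∧ kCov22.allOK trioQ = true ∧
    kCov22.trioOK trioQ kFacts kLen kLiveN = true := by
  refine ⟨?_, ?_, ?_⟩ <;> decide +kernel

theorem kCov24_ok : kCov24.stabOK kFacts kLen = true ∧ kCov24.allOK trioQ = true ∧
    kCov24.trioOK trioQ kFacts kLen kLiveN = true := by
  refine ⟨?_, ?_, ?_⟩ <;> decide +kernel

theorem kCov25_ok : kCov25.stabOK kFacts kLen = true ∧ kCov25.allOK trioQ = true ∧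
    kCov25.trioOK trioQ kFacts kLen kLiveN = true := by
  refine ⟨?_, ?_, ?_⟩ <;> decide +kernel

theorem kCov30_ok : kCov30.stabOK kFacts kLen = true ∧ kCov30.allOK trioQ = true ∧
    kCov30.trioOK trioQ kFacts kLen kLiveN = true := by
  refine ⟨?_, ?_, ?_⟩ <;> decide +kernel

theorem kCov31_ok : kCov31.stabOK kFacts kLen = true ∧ kCov31.allOK trioQ = true ∧
    kCov31.trioOK trioQ kFacts kLen kLiveN = true := by
  refine ⟨?_, ?_, ?_⟩ <;> decide +kernel

theorem kCov32_ok : kCov32.stabOK kFacts kLen = true ∧ kCov32.allOK trioQ = true ∧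
    kCov32.trioOK trioQ kFacts kLen kLiveN = true := by
  refine ⟨?_, ?_, ?_⟩ <;> decide +kernel

theorem kCov33_ok : kCov33.stabOK kFacts kLen = true ∧ kCov33.allOK trioQ = true ∧
    kCov33.trioOK trioQ kFacts kLen kLiveN = true := by
  refine ⟨?_, ?_, ?_⟩ <;> decide +kernel

theorem kCov34_ok : kCov34.stabOK kFacts kLen = true ∧ kCov34.allOK trioQ = true ∧
    kCov34.trioOK trioQ kFacts kLen kLiveN = true := by
  refine ⟨?_, ?_, ?_⟩ <;> decide +kernel

end Cfsg.Lib.J4Cert
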