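import Cfsg.Agent.J4Cert.KCovCheck0
import Cfsg.Agent.J4Cert.KCovCheck1

/-!
All orbits are checked.
-/

set_option autoImplicit false
set_option maxRecDepth 8000
set_option Elab.async false

namespace Cfsg.Lib.J4Cert

theorem kCovs_ok : ∀ C ∈ kCovs, C.stabOK kFacts kLen = true ∧ C.allOK trioQ = true ∧
    C.trioOK trioQ kFacts kLen kLiveN = true := by
  simp only [kCovs, List.forall_mem_cons, List.not_mem_nil, false_implies, implies_true, and_true]
  exact ⟨kCov0_ok, kCov1_ok, kCov4_ok, kCov5_ok, kCov6_ok, kCov7_ok, kCov9_ok, kCov10_ok, kCov12_ok, kCov14_ok, kCov17_ok, kCov21_ok, kCov22_ok, kCov24_ok, kCov25_ok, kCov30_ok, kCov31_ok, kCov32_ok, kCov33_ok, kCov34_ok⟩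

theorem kLive_facts : kLiveN.Nodup ∧ 0 ∈ kLiveN ∧
    (kCovs.map fun C => 244823040 / C.ord).sum = 173067389 := by decide +kernel

end Cfsg.Lib.J4Cert
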