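import Cfsg.Agent.J4Cert.GSys
import Cfsg.Agent.J4Cert.KCheck
import Cfsg.Agent.J4Cert.KCov

/-!
The index of the subgroup in the presented group is at most 173067389.
-/

set_option autoImplicit false

namespace Cfsg.Lib.J4Cert

open Cfsg Cfsg.Lib.J4Pres Cfsg.Lib.CosetTable

/-- The element outside the small group. -/
def ge : Spor.J4 := (gy * ((jHom (wval im w2))⁻¹ * gt * jHom (wval im w2))) ^ 3

/-- The subgroup of the index. -/
def KJ : Subgroup Spor.J4 := Subgroup.closure (Set.range jHom ∪ {ge})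

theorem closure_gt : Subgroup.closure (Set.range jHom ∪ {gt}) = ⊤ := by
  rw [eq_top_iff, ← PresentedGroup.closure_range_of jRels, Subgroup.closure_le]
  rintro _ ⟨b, rfl⟩
  refine Subgroup.subset_closure ?_
  cases b
  · exact Or.inl ⟨px, jHom_px⟩
  · exact Or.inl ⟨py, jHom_py⟩
  · exact Or.inr rfl

attribute [local irreducible] pm rel idp ap cl

/-- The orders for the listed cosets. -/
def kOrd (n : ℕ) : ℕ := ((kCovs.find? fun C => Nat.beq C.n n).map Cov.ord).getD 1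

theorem kOrd_eq : (kCovs.all fun C => Nat.beq (kOrd C.n) C.ord) = true ∧
    (kLiveN.map fun n => 244823040 / kOrd n).sum = 173067389 := by decide +kernel

theorem k_cover : (gSys KJ kDefs).v 0 = 1 ∧
    (∀ n ∈ kLiveN, ∀ a : P, InO (gSys KJ kDefs) kLiveN ((gSys KJ kDefs).v n * (gSys KJ kDefs).f a * gt)) ∧
    ∃ G : ℕ → Subgroup P, ∀ n ∈ kLiveN, (0 < kOrd n ∧ kOrd n ≤ Nat.card (G n)) ∧
      ∀ s ∈ G n, (gSys KJ kDefs).Eqv ((gSys KJ kDefs).v n * (gSys KJ kDefs).f s) ((gSys KJ kDefs).v n) := by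
  obtain ⟨rep, hQ, -⟩ := trio_spec
  obtain ⟨hH⟩ := models_G (K := KJ) (defs := kDefs) kFacts kSrc true (fun a => Subgroup.subset_closure (Or.inl ⟨a, rfl⟩))
    (fun _ => Subgroup.subset_closure (Or.inr rfl))
  have hT : ∀ k < kLen, FOK (gSys KJ kDefs) (kFacts.get k) := fact_ok hH kC_all
  have hz := gSys_Z KJ kDefs
  have htw : ∀ s ∈ stab colT, (gSys KJ kDefs).t * (gSys KJ kDefs).f s = (gSys KJ kDefs).f s * (gSys KJ kDefs).t := by
    obtain ⟨_, -, hst⟩ := trio_spec
    intro s hs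
    rw [hst] at hs
    have hc : Subgroup.closure {px, wP} ≤ (Subgroup.centralizer {gt}).comap jHom := by
      rw [Subgroup.closure_le]
      rintro g (rfl | rfl) <;> simp [Subgroup.mem_centralizer_singleton_iff, jHom_px, comm_x, comm_w]
    exact (Subgroup.mem_centralizer_singleton_iff.1 (hc hs)).symm
  have hC : ∀ n ∈ kLiveN, ∃ C ∈ kCovs, C.n = n := by
    intro n hn
    simpa [kLiveN] using hn
  have hcov : ∀ C ∈ kCovs, ∃ G : Subgroup P, (0 < C.ord ∧ C.ord ≤ Nat.card G) ∧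
      (∀ s ∈ G, (gSys KJ kDefs).Eqv ((gSys KJ kDefs).v C.n * (gSys KJ kDefs).f s) ((gSys KJ kDefs).v C.n)) ∧
      ∀ a : P, InO (gSys KJ kDefs) kLiveN ((gSys KJ kDefs).v C.n * (gSys KJ kDefs).f a * (gSys KJ kDefs).t) :=
    fun C hC' => by
      obtain ⟨h1, h2, h3⟩ := kCovs_ok C hC'
      exact Cov.trio_sound hQ trio_small.1 hT hz h1 h2 h3 htw
  choose G hG using hcov
  choose cv hcv using hC
  classical
  have hord : ∀ C ∈ kCovs, kOrd C.n = C.ord := fun C hC' =>
    Nat.eq_of_beq_eq_true (List.all_eq_true.1 kOrd_eq.1 C hC')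
  refine ⟨hH.v_zero, fun n hn a => ?_, fun n => if h : n ∈ kLiveN then G (cv n h) (hcv n h).1 else ⊥, fun n hn => ?_⟩
  · have := (hG _ (hcv n hn).1).2.2 a
    rwa [(hcv n hn).2] at this
  · have h := hG _ (hcv n hn).1
    have e := hord _ (hcv n hn).1
    rw [(hcv n hn).2] at e
    simp only [dif_pos hn, e]
    refine ⟨h.1, fun s hs => ?_⟩
    have := h.2.1 s hs
    rwa [(hcv n hn).2] at this

theorem index_KJ : KJ.index ≠ 0 ∧ KJ.index ≤ 173067389 := by
  obtain ⟨hv0, hcl, G, hG⟩ := k_cover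
  have hb := relIndex_bound (S := gSys KJ kDefs) kLive_facts.1 kLive_facts.2.1 hv0 gt t_sq hcl kOrd G
    (fun n hn => (hG n hn).1) (fun n hn => (hG n hn).2)
    (fun x _ => by rw [show (gSys KJ kDefs).f = jHom from rfl, closure_gt]; exact Subgroup.mem_top x)
  rw [show (gSys KJ kDefs).f = jHom from rfl, closure_gt, show (gSys KJ kDefs).K = KJ from rfl,
    Subgroup.relIndex_top_right] at hb
  exact ⟨hb.1, hb.2.trans (le_of_eq kOrd_eq.2)⟩

end Cfsg.Lib.J4Cert
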