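import Cfsg.Agent.J4Cert.EData
import Cfsg.Agent.J4Cert.KIndex

/-!
The elementary abelian group: independence, the action of the letters and two orbits.
-/

set_option autoImplicit false
set_option maxRecDepth 8000

namespace Cfsg.Lib.J4Cert

open Cfsg Cfsg.Lib.J4Pres Cfsg.Lib.CosetTable

variable {Q : Type*} [Group Q]

/-- The selected product of group elements. -/
def ev : List Q → ℕ → Q
  | [], _ => 1
  | g :: l, v => (if v % 2 = 1 then g else 1) * ev l (v / 2)

/-- The list consists of commuting involutions. -/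
def Comm2 (l : List Q) : Prop := (∀ g ∈ l, g * g = 1) ∧ ∀ g ∈ l, ∀ h ∈ l, g * h = h * g

theorem ev_comm {l : List Q} {c : Q} (h : ∀ g ∈ l, c * g = g * c) : ∀ v, c * ev l v = ev l v * c := by
  induction l with
  | nil => simp [ev]
  | cons g l ih =>
    intro v
    simp only [List.forall_mem_cons] at h
    rw [ev, ← mul_assoc, mul_assoc (if v % 2 = 1 then g else 1) (ev l _) c, ← ih h.2 (v / 2), ← mul_assoc]
    congr 1
    split <;> simp [h.1]

theorem ev_xor {l : List Q} (h : Comm2 l) : ∀ a b, ev l (a ^^^ b) = ev l a * ev l b := by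
  induction l with
  | nil => simp [ev]
  | cons g l ih =>
    intro a b
    obtain ⟨h2, hc⟩ := h
    have h' : Comm2 l := ⟨fun x hx => h2 x (List.mem_cons_of_mem g hx),
      fun x hx y hy => hc x (List.mem_cons_of_mem g hx) y (List.mem_cons_of_mem g hy)⟩
    have hgl : ∀ v, g * ev l v = ev l v * g := ev_comm fun x hx => hc g List.mem_cons_self x (List.mem_cons_of_mem g hx)
    have hg2 := h2 g List.mem_cons_self
    have hgl' : ∀ v w, g * (ev l v * w) = ev l v * (g * w) := fun v w => by rw [← mul_assoc, hgl, mul_assoc]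
    have hg2' : ∀ w, g * (g * w) = w := fun w => by rw [← mul_assoc, hg2, one_mul]
    simp only [ev, Nat.xor_div_two, ih h', J4Rep.xor_mod_two]
    rcases Nat.mod_two_eq_zero_or_one a with ha | ha <;> rcases Nat.mod_two_eq_zero_or_one b with hb | hb <;>
      simp [ha, hb, mul_assoc, hgl', hg2']

theorem ev_conj (c : Q) : ∀ (l : List Q) (v : ℕ), c⁻¹ * ev l v * c = ev (l.map fun g => c⁻¹ * g * c) v
  | [], v => by simp [ev]
  | g :: l, v => by
    rw [List.map_cons, ev, ev, ← ev_conj c l]
    split <;> group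

theorem ev_va {l : List Q} (h : Comm2 l) : ∀ (rows : List ℕ) (v : ℕ),
    ev l (J4Rep.va v rows) = ev (rows.map (ev l)) v
  | [], v => by
    have : ∀ l : List Q, ev l 0 = 1 := fun l => by induction l <;> simp_all [ev]
    simp [J4Rep.va, ev, this]
  | r :: rows, v => by
    have h0 : ∀ l : List Q, ev l 0 = 1 := fun l => by induction l <;> simp_all [ev]
    rw [J4Rep.va, ev_xor h, List.map_cons, ev, ev_va h rows]
    split <;> simp_all

/-- Elements of the presented group for the basis. -/
structure EBasis where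
  g : List Spor.J4
  mok : List.Forall₂ MOK g eBasis
  mem : ∀ x ∈ g, x ∈ KJ
  head : g.getD 0 1 = ge

theorem wordM_ok : ∀ w : List ℕ, MOK (wval letG w) (wordM w)
  | [] => by simpa [wval, wordM] using MOK.one
  | l :: w => by
    have e : wval letG (l :: w) = letG l * wval letG w := by simp [wval]
    rw [e]
    exact (letM_ok l).mul (wordM_ok w)

theorem eWord_val : wval letG eWord = ge := by
  simp [wval, eWord, ge, w2, im, letG, jHom_px, jHom_py, pow_succ, mul_assoc, mul_inv_rev,
    show gx⁻¹ = gx by rw [← jHom_px, ← map_inv, px_inv]]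

theorem letG_inv (l : ℕ) : letG (invL l) = (letG l)⁻¹ := by
  match l with
  | 0 => simp [letG, invL, ← jHom_px, ← map_inv, px_inv]
  | 1 => simp [letG, invL]
  | 2 => simp [letG, invL]
  | n + 3 => simp [letG, invL, inv_eq_of_mul_eq_one_right t_sq]

theorem MOK.conj {g : Spor.J4} {A : List ℕ} (hg : MOK g A) (l : ℕ) :
    MOK ((letG l)⁻¹ * g * letG l) (conjM A l) :=
  letG_inv l ▸ ((letM_ok (invL l)).mul hg).mul (letM_ok l)

theorem letG_mem_range {l : ℕ} (hl : l < 3) : letG l ∈ jHom.range := by
  interval_cases l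
  · exact ⟨px, jHom_px⟩
  · exact ⟨py, jHom_py⟩
  · exact ⟨py⁻¹, by rw [map_inv, jHom_py]; rfl⟩

theorem par_ext : ∀ (r : List (ℕ × ℕ)) (k : ℕ), parOK k r = true → k + r.length ≤ eBasis.length → ∀ g : List Spor.J4,
    g.length = k → (∀ i < k, MOK (g.getD i 1) (eBasis.getD i []) ∧ g.getD i 1 ∈ KJ) → 0 < k →
    ∃ g' : List Spor.J4, g'.length = k + r.length ∧ g'.getD 0 1 = g.getD 0 1 ∧
      ∀ i < k + r.length, MOK (g'.getD i 1) (eBasis.getD i []) ∧ g'.getD i 1 ∈ KJ
  | [], k, _, _, g, hg, h, _ => ⟨g, by simpa using hg, rfl, by simpa using h⟩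
  | (q, l) :: r, k, hp, hle, g, hg, h, hk => by
    simp only [parOK, Bool.and_eq_true, Nat.blt_eq, beq_iff_eq] at hp
    obtain ⟨⟨⟨h1, h2⟩, h3⟩, h4⟩ := hp
    simp only [List.length_cons] at hle
    let n := (letG l)⁻¹ * g.getD q 1 * letG l
    have hL : letG l ∈ KJ := by
      obtain ⟨a, ha⟩ := letG_mem_range h2
      exact Subgroup.subset_closure (Or.inl ⟨a, ha⟩)
    have hn : MOK n (eBasis.getD k []) ∧ n ∈ KJ :=
      ⟨h3 ▸ (h q h1).1.conj l, KJ.mul_mem (KJ.mul_mem (KJ.inv_mem hL) (h q h1).2) hL⟩
    obtain ⟨g', e1, e2, e3⟩ := par_ext r (k + 1) h4 (by omega) (g ++ [n]) (by simp [hg]) (fun i hi => by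
        rcases Nat.lt_succ_iff_lt_or_eq.1 hi with hi | rfl
        · rw [List.getD_append _ _ _ _ (hg ▸ hi)]; exact h i hi
        · rw [List.getD_append_right _ _ _ _ hg.le, hg, Nat.sub_self, List.getD_cons_zero]; exact hn) (by omega)
    refine ⟨g', by simp only [List.length_cons]; omega, ?_, fun i hi => e3 i (by simp only [List.length_cons] at hi; omega)⟩
    rw [e2, List.getD_append _ _ _ _ (hg ▸ hk)]

attribute [local irreducible] eBasis

theorem exists_basis : Nonempty EBasis := by
  obtain ⟨hl, hp, hok⟩ := eBasis_shape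
  obtain ⟨g, e1, e2, e3⟩ := par_ext ePar 1 ePar_ok (by omega) [ge] rfl (fun i hi => by
    obtain rfl : i = 0 := by omega
    refine ⟨?_, Subgroup.subset_closure (Or.inr rfl)⟩
    rw [List.getD_cons_zero, ← eWord_val, ← eWord_ok]
    exact wordM_ok eWord) Nat.one_pos
  rw [hp] at e1 e3
  refine ⟨⟨g, List.forall₂_iff_get.2 ⟨by omega, fun i h1 h2 => ?_⟩, fun x hx => ?_, by rw [e2, List.getD_cons_zero]⟩⟩
  · have := (e3 i (by omega)).1
    rwa [List.getD_eq_getElem _ _ h1, List.getD_eq_getElem _ _ h2] at this
  · obtain ⟨i, hi, rfl⟩ := List.getElem_of_mem hx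
    have := (e3 i (by omega)).2
    rwa [List.getD_eq_getElem _ _ hi] at this

/-- The basis in the image. -/
noncomputable def EBasis.img (B : EBasis) : List (Equiv.Perm J4Rep.Vec) := B.g.map rhoG

theorem evM_ok : ∀ {g : List Spor.J4} {L : List (List ℕ)}, List.Forall₂ MOK g L → ∀ v,
    MOK (ev g v) (evM L v)
  | _, _, List.Forall₂.nil, v => by simpa [ev, evM] using MOK.one
  | _, _, List.Forall₂.cons (a := a) (b := A) hA hL, v => by
    have h2 : Nat.shiftRight v 1 = v / 2 := by show v >>> 1 = _; rw [Nat.shiftRight_eq_div_pow, pow_one]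
    have h1 : Nat.land v 1 = v % 2 := by show v &&& 1 = _; exact Nat.and_one_is_mod v
    rw [ev, evM, h1, h2]
    rcases Nat.mod_two_eq_zero_or_one v with h | h <;> simp only [h]
    · simpa [show Nat.beq 0 1 = false from rfl] using evM_ok hL (v / 2)
    · simpa [show Nat.beq 1 1 = true from rfl] using hA.mul (evM_ok hL (v / 2))

theorem rho_ev (g : List Spor.J4) : ∀ v, rhoG (ev g v) = ev (g.map rhoG) v := by
  induction g with
  | nil => simp [ev]
  | cons a g ih => intro v; rw [ev, List.map_cons, ev, map_mul, ih]; split <;> simp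

variable (B : EBasis)

theorem EBasis.comm : Comm2 B.img := by
  have h : ∀ {g : List Spor.J4} {L : List (List ℕ)}, List.Forall₂ MOK g L → commOK L = true →
      Comm2 (g.map rhoG) := by
    intro g L hf
    induction hf with
    | nil => intro _; exact ⟨by simp, by simp⟩
    | @cons a A g L ha hl ih =>
      intro hc
      simp only [commOK, Bool.and_eq_true, beq_iff_eq, List.all_eq_true] at hc
      obtain ⟨⟨h1, h2⟩, h3⟩ := hc
      obtain ⟨i2, ic⟩ := ih h3
      have ha2 : rhoG a * rhoG a = 1 := by rw [← map_mul]; exact (h1 ▸ ha.mul ha).rho_one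
      have hac : ∀ x ∈ g.map rhoG, rhoG a * x = x * rhoG a := by
        intro x hx
        obtain ⟨b, hb, rfl⟩ := List.mem_map.1 hx
        obtain ⟨i, hi, rfl⟩ := List.getElem_of_mem hb
        have hi' : i < L.length := hl.length_eq ▸ hi
        have hb' := List.Forall₂.get hl hi hi'
        rw [← map_mul, ← map_mul]
        exact ((ha.mul hb').rho_eq ((h2 _ (List.getElem_mem hi')) ▸ hb'.mul ha))
      refine ⟨fun x hx => ?_, fun x hx y hy => ?_⟩
      · rcases List.mem_cons.1 hx with rfl | hx
        · exact ha2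
        · exact i2 x hx
      · rcases List.mem_cons.1 hx with rfl | hx <;> rcases List.mem_cons.1 hy with rfl | hy
        · rfl
        · exact hac y hy
        · exact (hac x hx).symm
        · exact ic x hx y hy
  exact h B.mok eBasis_comm

theorem EBasis.len : B.g.length = 11 := B.mok.length_eq.trans eBasis_shape.1

/-- Conjugation by a letter is given by its rows. -/
theorem EBasis.conj {l : ℕ} (hl : l < 3) (v : ℕ) :
    (rhoG (letG l))⁻¹ * ev B.img v * rhoG (letG l) = ev B.img (J4Rep.va v (eRows.getD l [])) := by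
  have hr := eRows_ok
  simp only [rowsOK, List.all_eq_true, List.mem_range, Bool.and_eq_true, beq_iff_eq, decide_eq_true_eq] at hr
  rw [ev_va B.comm, ev_conj]
  have hlen : (eRows.getD l []).length = 11 :=
    (by decide +kernel : ∀ l < 3, (eRows.getD l []).length = 11) l hl
  congr 1
  refine List.ext_getElem (by simp only [List.length_map, EBasis.img, B.len, hlen]) fun k h1 h2 => ?_
  simp only [EBasis.img, List.getElem_map]
  simp only [EBasis.img, List.length_map, B.len] at h1
  have hk : k < B.g.length := by rw [B.len]; exact h1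
  have hk' : k < eBasis.length := by rw [eBasis_shape.1]; exact h1
  have hg := List.Forall₂.get B.mok hk hk'
  have e := (hr l hl k h1).2
  rw [List.getD_eq_getElem _ _ hk', List.getD_eq_getElem _ _ (hlen.symm ▸ h1)] at e
  have hh := ((e ▸ hg.conj l).rho_eq (evM_ok B.mok _)).trans (rho_ev _ _)
  simp only [map_mul, map_inv] at hh
  exact hh

theorem EBasis.eq_zero {v : ℕ} (hv : v < 2048) (h : ev B.img v = 1) : v = 0 := by
  obtain ⟨hs, hlt⟩ := eSep_ok
  have key : ∀ {g : List Spor.J4} {L : List (List ℕ)}, List.Forall₂ MOK g L → ∀ (acc : ℕ) (u : Spor.J4) (ws : List ℕ),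
      sep L acc eVecs ws = true → (∀ k < eVecs.length, ∀ hk : eVecs.getD k 0 < 2 ^ 112,
        ((rhoG u).symm ⟨eVecs.getD k 0, hk⟩).1 = ws.getD k 0) → ws.length = eVecs.length →
      ∀ v < 2 ^ L.length, rhoG (u * ev g v) = 1 → acc = 0 ∧ v = 0 := by
    intro g L hf
    induction hf with
    | nil =>
      intro acc u ws hsep hws hlen v hv he
      obtain rfl : v = 0 := by simpa using hv
      refine ⟨?_, rfl⟩
      simp only [sep, Bool.or_eq_true, bne_iff_ne, ne_eq] at hsep
      rcases hsep with h | h
      · exact Nat.eq_of_beq_eq_true h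
      · refine absurd (List.ext_getElem hlen.symm fun k h1 h2 => ?_) h
        have hk : eVecs[k] < 2 ^ 112 := by
          simp only [List.all_eq_true, decide_eq_true_eq] at hlt
          exact hlt _ (List.getElem_mem h1)
        have := hws k h1 (by rwa [List.getD_eq_getElem _ _ h1])
        simp only [ev, mul_one] at he
        rw [he, List.getD_eq_getElem _ _ h2] at this
        rw [← this]
        show _ = eVecs.getD k 0
        rw [List.getD_eq_getElem _ _ h1]
    | @cons a A g L ha hl ih =>
      intro acc u ws hsep hws hlen v hv he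
      simp only [sep, Bool.and_eq_true] at hsep
      rw [List.length_cons, pow_succ] at hv
      rw [ev] at he
      rcases Nat.mod_two_eq_zero_or_one v with hm | hm
      · rw [if_neg (by omega), one_mul] at he
        obtain ⟨e1, e2⟩ := ih (2 * acc) u ws hsep.1 hws hlen (v / 2) (by omega) he
        omega
      · rw [if_pos hm, ← mul_assoc] at he
        obtain ⟨e1, -⟩ := ih (2 * acc + 1) (u * a) (ws.map fun w => vt (tabs4 A) w) hsep.2 (fun k hk hk' => by
            have hA := ha.1
            simp only [okMat, Bool.and_eq_true, List.all_eq_true, decide_eq_true_eq] at hA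
            rw [List.getD_eq_getElem (ws.map fun w => vt (tabs4 A) w) 0 (by simpa [hlen] using hk), List.getElem_map,
              vt_eq A _ hA.2 (by rw [Nat.eq_of_beq_eq_true hA.1])]
            have := hws k hk hk'
            rw [List.getD_eq_getElem ws _ (hlen ▸ hk)] at this
            rw [← this, map_mul]
            exact ha.2 _)
          (by simpa using hlen) (v / 2) (by omega) he
        omega
  refine (key B.mok 0 1 eVecs hs (fun k _ hk => by rw [map_one]; rfl) rfl v (by rw [eBasis_shape.1]; exact hv) ?_).2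
  rw [one_mul, rho_ev]
  exact h

end Cfsg.Lib.J4Cert
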