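import Cfsg.Agent.J4Cert.Base
import Cfsg.Agent.J4Cert.Data.Rels

/-!
The data of the relations.
-/

set_option autoImplicit false

namespace Cfsg.Lib.J4Cert

/-- A certificate on the common base; only the last relation has an exponent. -/
def mkCrt (b : ℤ) (root : Bool) (defs : List (ℕ × List ℕ)) (tab : Tr Fct) (src : Tr Src) : Crt where
  base := baseTab
  nb := baseN
  rels := relP.zipIdx.map fun e => ⟨e.1.1, e.1.2, bif Nat.beq e.2 4 then b else 0⟩
  rootL := bif root then rootP else []
  defs := defs
  tab := tab
  src := src

end Cfsg.Lib.J4Cert
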