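import Cfsg.Agent.J4Cert.Trio
import Cfsg.Agent.J4Cert.Rels

/-!
The relations of the presented group as hypotheses for certificates.
-/

set_option autoImplicit false
set_option maxRecDepth 8000

namespace Cfsg.Lib.J4Cert

open Cfsg Cfsg.Lib.J4Pres Cfsg.Lib.CosetTable

/-- The word of the first conjugator. -/
def w1 : List ℕ := [1, 0, 2, 0, 1, 0, 2, 0]
/-- The word of the second conjugator. -/
def w2 : List ℕ := [1, 0, 1, 0, 1, 0, 1, 0, 2, 0]
/-- The word of the rotation in the last relation. -/
def wu : List ℕ := (List.replicate 3 [1, 0, 1, 0, 1, 0, 1]).flatten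
/-- The word of the last conjugator. -/
def wg : List ℕ := [0, 1, 0, 1, 0, 1, 1] ++ (List.replicate 6 [0, 1]).flatten ++ [1]

/-- The shapes of the listed relations. -/
def relShape : Bool :=
  relW == [([], []), ([[], []], []), ([w1 ++ [1, 1], w1 ++ [1], w1], []), ([w1, w1 ++ [1], w1 ++ [1, 1]], []),
      ([[], wg ++ wu, [], wg], wu ++ wu)] &&
    rootW == [w2 ++ [1, 1], w2 ++ [1], w2] &&
    relP.map (fun e => e.1) == relW.map (fun e => e.1.map wp) && rootP == rootW.map wp &&
    (relP.zip relW).all (fun e => Nat.beq (pm e.1.2 (wp e.2.2)) idp)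

attribute [local irreducible] pm rel idp ap cl

theorem relShape_ok : relShape = true := by decide +kernel

/-- The rotation in the last relation fixes the trio. -/
theorem blk_wu : Blk colT 0x201 (wval im wu) ∨ Blk colT 0x012 (wval im wu) ∨ Blk colT 0x120 (wval im wu) := by
  have h : Nat.beq (rel colT (wp wu) idp) (graph 0x201 3) = true ∨ Nat.beq (rel colT (wp wu) idp) (graph 0x012 3) = true
      ∨ Nat.beq (rel colT (wp wu) idp) (graph 0x120 3) = true := by decide +kernel
  exact h.imp (blk_of_graph (wp_el wu)) (Or.imp (blk_of_graph (wp_el wu)) (blk_of_graph (wp_el wu)))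

theorem tw_G : ∀ (s : P) (e : ℕ × Bool), e ∈ trio6 → Blk colT e.1 s →
    gt * jHom s = jHom s * gt * (bif e.2 then (1 : Spor.J4) else 1) := by
  obtain ⟨rep, -, hst⟩ := trio_spec
  refine tw_of_rule (fun g => by simp) (by simp)
    ⟨(0x201, true), by simp [trio6], blk_gens.1, by simp [jHom_px, comm_x]⟩
    ⟨(0x012, true), by simp [trio6], blk_gens.2, by simpa using comm_w⟩ hst

/-- The cosets defined by a list. -/
noncomputable def valsOf {X : Type*} [Group X] (f : P →* X) (t : X) (defs : List (ℕ × List ℕ)) : List X :=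
  defs.foldl (fun vs d => vs ++ [vs.getD d.1 1 * ((f (d.2.map baseEl).prod)⁻¹ * t * f (d.2.map baseEl).prod)]) [1]

theorem valsOf_spec {X : Type*} [Group X] (f : P →* X) (t : X) (l : List (ℕ × List ℕ)) : ∀ vs : List X,
    let r := l.foldl (fun vs d => vs ++ [vs.getD d.1 1 * ((f (d.2.map baseEl).prod)⁻¹ * t * f (d.2.map baseEl).prod)]) vs
    (∀ i < vs.length, r.getD i 1 = vs.getD i 1) ∧ ∀ m d, l[m]? = some d → d.1 < vs.length + m →
      r.getD (vs.length + m) 1 = r.getD d.1 1 * ((f (d.2.map baseEl).prod)⁻¹ * t * f (d.2.map baseEl).prod) := by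
  induction l with
  | nil => intro vs; simp
  | cons e l ih =>
    intro vs
    simp only [List.foldl_cons]
    generalize hv : vs.getD e.1 1 * ((f (e.2.map baseEl).prod)⁻¹ * t * f (e.2.map baseEl).prod) = w
    obtain ⟨h1, h2⟩ := ih (vs ++ [w])
    simp only [List.length_append, List.length_singleton] at h1 h2
    refine ⟨fun i hi => ?_, fun m d hm hd => ?_⟩
    · rw [h1 i (by omega), List.getD_append _ _ _ _ hi]
    · cases m with
      | zero =>
        simp only [List.getElem?_cons_zero, Option.some.injEq] at hm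
        subst hm
        rw [add_zero] at hd ⊢
        rw [h1 _ (by omega), h1 _ (by omega), List.getD_append_right _ _ _ _ le_rfl, List.getD_append _ _ _ _ hd,
          Nat.sub_self, List.getD_cons_zero, hv]
      | succ m =>
        rw [List.getElem?_cons_succ] at hm
        rw [show vs.length + (m + 1) = vs.length + 1 + m by omega] at hd ⊢
        exact h2 m d hm hd

/-- The system of the presented group. -/
noncomputable def gSys (K : Subgroup Spor.J4) (defs : List (ℕ × List ℕ)) : Sys Spor.J4 where
  f := jHom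
  t := gt
  z := 1
  χ := 1
  z_comm := fun g => by simp
  χ_comm := fun g => by simp
  χ_sq := by simp
  tt := t_sq
  tw := tw_G
  K := K
  v := fun n => (valsOf jHom gt defs).getD n 1

theorem gSys_Z (K : Subgroup Spor.J4) (defs : List (ℕ × List ℕ)) (b : ℤ) (x : Bool) : (gSys K defs).Z b x = 1 := by
  simp [Sys.Z, gSys]

theorem y_cube : py ^ 3 = 1 := relExprs_one _ (by simp [relExprs])

theorem triple {X : Type*} [Group X] (S : Sys X) (a : P) :
    S.tc (a * (py * py)) * S.tc (a * py) * S.tc a = (S.f py * S.tc a) ^ 3 := by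
  have h := congrArg S.f y_cube
  rw [map_pow, map_one] at h
  have e : (S.f py)⁻¹ = S.f py * S.f py := inv_eq_of_mul_eq_one_right (by rw [← h, pow_three])
  have e2 : (S.f py)⁻¹ * (S.f py)⁻¹ = S.f py := by rw [← mul_inv_rev, ← e, inv_inv]
  have e3 : S.tc (a * (py * py)) * S.tc (a * py) * S.tc a =
      ((S.f py)⁻¹ * (S.f py)⁻¹) * (S.tc a * S.f py * S.tc a * S.f py * S.tc a) := by
    simp only [Sys.tc, map_mul]; group
  rw [e3, e2, pow_three]
  simp only [mul_assoc]

theorem triple_rev {X : Type*} [Group X] (S : Sys X) (a : P) :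
    S.tc a * S.tc (a * py) * S.tc (a * (py * py)) = ((S.f py * S.tc a) ^ 3)⁻¹ := by
  rw [← triple S a, mul_inv_rev, mul_inv_rev, inv_eq_of_mul_eq_one_right (S.tc_tc a),
    inv_eq_of_mul_eq_one_right (S.tc_tc _), inv_eq_of_mul_eq_one_right (S.tc_tc _), mul_assoc]

/-- The element with the first relation. -/
theorem rel_one : (gy * ((jHom (wval im w1))⁻¹ * gt * jHom (wval im w1))) ^ 3 = 1 := by
  have h := extra_one ((Spor.J4.y * ((Spor.J4.y * Spor.J4.x * (Spor.J4.y⁻¹) * Spor.J4.x * Spor.J4.y * Spor.J4.x *
      (Spor.J4.y⁻¹) * Spor.J4.x)⁻¹ * Spor.J4.t * (Spor.J4.y * Spor.J4.x * (Spor.J4.y⁻¹) * Spor.J4.x * Spor.J4.y *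
      Spor.J4.x * (Spor.J4.y⁻¹) * Spor.J4.x))) ^ 3) (by simp [Spor.J4.extra])
  simp only [map_pow, map_mul, map_inv] at h
  simpa [wval, w1, im, jHom_px, jHom_py, gx, gy, gt, mul_assoc] using h

/-- The element with the last relation. -/
theorem rel_two : (jHom (wval im wu) * gt * ((jHom (wval im wg))⁻¹ * gt * jHom (wval im wg))) ^ 2 = 1 := by
  have h := extra_one ((((Spor.J4.y * Spor.J4.x * Spor.J4.y * Spor.J4.x * Spor.J4.y * Spor.J4.x * Spor.J4.y) ^ 3) *
      Spor.J4.t * ((((Spor.J4.x * Spor.J4.y) ^ 3) * Spor.J4.y * ((Spor.J4.x * Spor.J4.y) ^ 6) * Spor.J4.y)⁻¹ *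
      Spor.J4.t * (((Spor.J4.x * Spor.J4.y) ^ 3) * Spor.J4.y * ((Spor.J4.x * Spor.J4.y) ^ 6) * Spor.J4.y))) ^ 2)
    (by simp [Spor.J4.extra])
  simp only [map_pow, map_mul, map_inv] at h
  simpa [wval, wu, wg, im, jHom_px, jHom_py, gx, gy, gt, pow_succ, mul_assoc, List.replicate] using h

theorem wval_append (u v : List ℕ) : wval im (u ++ v) = wval im u * wval im v := by simp [wval]

/-- The word elements of the root relation multiply to the cube. -/
theorem el_words (L : List (List ℕ)) : List.Forall₂ El (L.map wp) (L.map (wval im)) := by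
  induction L with
  | nil => exact List.Forall₂.nil
  | cons w L ih => exact List.Forall₂.cons (wp_el w) ih

theorem models_G {K : Subgroup Spor.J4} {defs : List (ℕ × List ℕ)} (tab : Tr Fct) (src : Tr Src) (root : Bool)
    (hK : ∀ a, jHom a ∈ K)
    (hroot : root = true → (gy * ((jHom (wval im w2))⁻¹ * gt * jHom (wval im w2))) ^ 3 ∈ K) :
    Nonempty ((mkCrt 0 root defs tab src).Models (gSys K defs)) := by
  have hs := relShape_ok
  simp only [relShape, Bool.and_eq_true, beq_iff_eq, List.all_eq_true] at hs
  obtain ⟨⟨⟨⟨hW, hRW⟩, hP⟩, hRP⟩, hπ⟩ := hs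
  refine ⟨{ baseEl := baseEl, base_ok := baseEl_ok, rels_ok := ?_, root_ok := ?_, range_le := hK, v_zero := ?_, v_def := ?_ }⟩
  · intro R hR
    simp only [mkCrt, List.mem_map] at hR
    obtain ⟨⟨⟨L, πi⟩, i⟩, hi, rfl⟩ := hR
    obtain ⟨hil, hie⟩ := List.mem_zipIdx' hi
    have hlen : relP.length = relW.length := by simpa using congrArg List.length hP
    have hL : L = (relW[i]'(hlen ▸ hil)).1.map wp := by
      have h1 := congrArg (fun l => l[i]?) hP
      simp only [List.getElem?_map, List.getElem?_eq_getElem hil, List.getElem?_eq_getElem (hlen ▸ hil),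
        Option.map_some, Option.some.injEq] at h1
      rw [← h1, ← hie]
    have hp : pm πi (wp (relW[i]'(hlen ▸ hil)).2) = idp := by
      have := hπ (relP[i], relW[i]'(hlen ▸ hil)) (List.mem_iff_getElem.2 ⟨i, by simp [hil, hlen ▸ hil], by simp⟩)
      rw [← hie] at this
      exact Nat.eq_of_beq_eq_true this
    refine ⟨(relW[i]'(hlen ▸ hil)).1.map (wval im), wval im (relW[i]'(hlen ▸ hil)).2, hL ▸ el_words _,
      (wp_el _).inv hp, ?_⟩
    rw [gSys_Z]
    have hi5 : i < 5 := by rw [hlen, hW] at hil; simpa using hil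
    simp only [hW]
    interval_cases i
    · simp [wval]
    · simp only [List.getElem_cons_succ, List.getElem_cons_zero, List.map_cons, List.map_nil, List.prod_cons,
        List.prod_nil, mul_one, Sys.tc_tc]
      simp [wval]
    · simp only [List.getElem_cons_succ, List.getElem_cons_zero, List.map_cons, List.map_nil, List.prod_cons,
        List.prod_nil, mul_one, wval_append, ← mul_assoc (((gSys K defs)).tc _)]
      have h := triple (gSys K defs) (wval im w1)
      simp only [show wval im [1, 1] = py * py by simp [wval, im], show wval im [1] = py by simp [wval, im],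
        show wval im ([] : List ℕ) = 1 from rfl, map_one, mul_one]
      rw [h]
      simpa [gSys, Sys.tc, jHom_py] using rel_one
    · simp only [List.getElem_cons_succ, List.getElem_cons_zero, List.map_cons, List.map_nil, List.prod_cons,
        List.prod_nil, mul_one, wval_append, ← mul_assoc (((gSys K defs)).tc _)]
      simp only [show wval im [1, 1] = py * py by simp [wval, im], show wval im [1] = py by simp [wval, im],
        show wval im ([] : List ℕ) = 1 from rfl, map_one, mul_one]
      rw [triple_rev, inv_eq_one]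
      simpa [gSys, Sys.tc, jHom_py] using rel_one
    · simp only [List.getElem_cons_succ, List.getElem_cons_zero, List.map_cons, List.map_nil, List.prod_cons,
        List.prod_nil, mul_one, wval_append, show wval im ([] : List ℕ) = 1 from rfl]
      have hU : gt * jHom (wval im wu) = jHom (wval im wu) * gt := by
        rcases blk_wu with h | h | h
        · simpa using tw_G _ (0x201, true) (by simp [trio6]) h
        · simpa using tw_G _ (0x012, true) (by simp [trio6]) h
        · simpa using tw_G _ (0x120, true) (by simp [trio6]) h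
      have h2 := rel_two
      simp only [gSys, Sys.tc, map_mul, map_one, inv_one, one_mul, mul_one, mul_inv_rev]
      generalize jHom (wval im wu) = U at hU h2 ⊢
      generalize jHom (wval im wg) = g at h2 ⊢
      have hU' : gt * U⁻¹ = U⁻¹ * gt := by
        calc gt * U⁻¹ = U⁻¹ * (U * gt) * U⁻¹ := by group
          _ = U⁻¹ * gt := by rw [← hU]; group
      calc _ = (gt * U⁻¹) * (g⁻¹ * gt * g) * U * gt * (g⁻¹ * gt * g) * (U * U) := by group
        _ = U⁻¹ * U⁻¹ * (U * gt * (g⁻¹ * gt * g)) ^ 2 * (U * U) := by rw [hU', pow_two]; group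
        _ = 1 := by rw [h2]; group
  · cases root with
    | false => exact ⟨[], List.Forall₂.nil, by simpa using Sys.Eqv.refl _ _⟩
    | true =>
      refine ⟨rootW.map (wval im), by
        show List.Forall₂ El rootP _
        rw [hRP]
        exact el_words _, ?_⟩
      rw [hRW]
      simp only [List.map_cons, List.map_nil, List.prod_cons, List.prod_nil, mul_one, wval_append,
        ← mul_assoc (((gSys K defs)).tc _)]
      simp only [show wval im [1, 1] = py * py by simp [wval, im], show wval im [1] = py by simp [wval, im],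
        show wval im ([] : List ℕ) = 1 from rfl, map_one, mul_one]
      rw [triple]
      show _ * (1 : Spor.J4)⁻¹ ∈ K
      simpa [gSys, Sys.tc, jHom_py] using hroot rfl
  · exact ((valsOf_spec jHom gt defs [1]).1 0 (by simp))
  · intro m d hm hd
    have h := (valsOf_spec jHom gt defs [1]).2 m d hm (by simp only [List.length_singleton]; omega)
    rw [List.length_singleton, Nat.add_comm 1 m] at h
    exact h

end Cfsg.Lib.J4Cert
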