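import Cfsg.Agent.J4Cert.Part
import Cfsg.Agent.J4Rep.Basic

/-!
The presented group on three letters as a system, and the centralising stabiliser.
-/

set_option autoImplicit false

namespace Cfsg.Lib.J4Cert

open Cfsg Cfsg.Lib.J4Pres Cfsg.Lib.PermCert

/-- The relators of the large group. -/
abbrev jRels : Set (FreeGroup Spor.J4.Gen) := Spor.coxRelators Spor.J4.edges ∪ {r | r ∈ Spor.J4.extra}

/-- The first generator. -/
def gx : Spor.J4 := PresentedGroup.mk jRels Spor.J4.x
/-- The second generator. -/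
def gy : Spor.J4 := PresentedGroup.mk jRels Spor.J4.y
/-- The third generator. -/
def gt : Spor.J4 := PresentedGroup.mk jRels Spor.J4.t

theorem extra_one : ∀ r ∈ Spor.J4.extra, PresentedGroup.mk jRels r = 1 := fun _ hr =>
  PresentedGroup.one_of_mem (Or.inr hr)

/-- The images of the letters of the small group. -/
def jGen : Bool → Spor.J4
  | true => gx
  | false => gy

theorem relExprs_j : ∀ r ∈ relExprs gx gy, r = 1 := by
  intro r hr
  rw [gx, gy, ← map_relExprs] at hr
  obtain ⟨q, hq, rfl⟩ := List.mem_map.1 hr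
  refine extra_one q ?_
  simp only [relExprs, List.mem_cons, List.not_mem_nil, or_false] at hq
  simp only [Spor.J4.extra, List.mem_cons]
  tauto

theorem jGen_lift : ∀ r ∈ relSet, FreeGroup.lift jGen r = 1 := by
  intro r hr
  refine relExprs_j _ ?_
  have h := map_relExprs (FreeGroup.lift jGen) (FreeGroup.of true) (FreeGroup.of false)
  rw [FreeGroup.lift_apply_of, FreeGroup.lift_apply_of] at h
  rw [show relExprs gx gy = _ from h.symm]
  exact List.mem_map_of_mem hr

/-- The map from the group on two letters. -/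
def jHom : P →* Spor.J4 := PresentedGroup.toGroup jGen_lift

theorem jHom_px : jHom px = gx := PresentedGroup.toGroup.of jGen_lift
theorem jHom_py : jHom py = gy := PresentedGroup.toGroup.of jGen_lift

/-- The action on vectors. -/
def rhoG : Spor.J4 →* Equiv.Perm J4Rep.Vec := PresentedGroup.toGroup (f := J4Rep.genPerm) J4Rep.relators_ok

theorem rhoG_mk (r : FreeGroup Spor.J4.Gen) : rhoG (PresentedGroup.mk jRels r) = J4Rep.rho r := by
  have h : rhoG.comp (PresentedGroup.mk jRels) = J4Rep.rho := FreeGroup.ext_hom _ _ fun a => by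
    rw [MonoidHom.comp_apply, J4Rep.rho, FreeGroup.lift_apply_of]
    exact PresentedGroup.toGroup.of _
  exact DFunLike.congr_fun h r

theorem rho_jHom_injective : Function.Injective (rhoG.comp jHom) := by
  haveI := simple_P
  rw [← MonoidHom.ker_eq_bot_iff]
  rcases (MonoidHom.normal_ker (rhoG.comp jHom)).eq_bot_or_eq_top with h | h
  · exact h
  · exfalso
    have h1 : px ∈ (rhoG.comp jHom).ker := h ▸ Subgroup.mem_top _
    rw [MonoidHom.mem_ker, MonoidHom.comp_apply, jHom_px, gx, rhoG_mk] at h1
    exact J4Rep.x_ne_one h1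

theorem jHom_injective : Function.Injective jHom := fun a b h => rho_jHom_injective (congrArg rhoG h)

/-- The second generator of the trio stabiliser. -/
def wExpr {G : Type*} [Group G] (a b : G) : G := b * a * b * ((a * b⁻¹) ^ 2) * ((a * b) ^ 3)

theorem map_wExpr {G H : Type*} [Group G] [Group H] (f : G →* H) (a b : G) : f (wExpr a b) = wExpr (f a) (f b) := by
  simp [wExpr]

/-- The second generator of the trio stabiliser, in the small group. -/
def wP : P := wExpr px py

theorem comm_x : gt * gx = gx * gt := by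
  have h := extra_one (Spor.J4.t⁻¹ * Spor.J4.x⁻¹ * Spor.J4.t * Spor.J4.x) (by simp [Spor.J4.extra])
  simp only [map_mul, map_inv] at h
  calc gt * gx = gx * gt * (gt⁻¹ * gx⁻¹ * gt * gx) := by group
    _ = gx * gt := by rw [show gt⁻¹ * gx⁻¹ * gt * gx = 1 from h, mul_one]

theorem comm_w : gt * jHom wP = jHom wP * gt := by
  have h := extra_one (Spor.J4.t⁻¹ * (wExpr Spor.J4.x Spor.J4.y)⁻¹ * Spor.J4.t * wExpr Spor.J4.x Spor.J4.y)
    (by simp [Spor.J4.extra, wExpr])
  simp only [map_mul, map_inv] at h
  rw [map_wExpr] at h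
  rw [show jHom wP = wExpr gx gy by rw [wP, map_wExpr, jHom_px, jHom_py]]
  calc gt * wExpr gx gy = wExpr gx gy * gt * (gt⁻¹ * (wExpr gx gy)⁻¹ * gt * wExpr gx gy) := by group
    _ = wExpr gx gy * gt := by rw [show gt⁻¹ * (wExpr gx gy)⁻¹ * gt * wExpr gx gy = 1 from h, mul_one]

theorem t_sq : gt * gt = 1 := by
  have h := extra_one (Spor.J4.t ^ 2) (by simp [Spor.J4.extra])
  rwa [map_pow, pow_two] at h

/-- A composite of two maps of three colours. -/
def compOK : Bool :=
  trio6.all fun e1 => trio6.all fun e2 => trio6.any fun e3 =>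
    (e3.2 == xor e1.2 e2.2) && (List.range 3).all fun j => cl e3.1 j == cl e1.1 (cl e2.1 j)

/-- A map of three colours is determined by its values. -/
def uniqOK : Bool :=
  trio6.all fun e1 => trio6.all fun e2 => e1 == e2 || (List.range 3).any fun j => cl e1.1 j != cl e2.1 j

theorem trio6_facts : compOK = true ∧ uniqOK = true ∧ colOK colT 3 = true ∧
    ∀ e ∈ trio6, ∀ j < 3, cl e.1 j < 3 := by decide +kernel

theorem exists_colour (j : ℕ) (hj : j < 3) : ∃ i : Fin 24, cl colT i = j := by
  have h := trio6_facts.2.2.1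
  simp only [colOK, Bool.and_eq_true, List.all_eq_true, List.mem_range, List.any_eq_true, beq_iff_eq] at h
  obtain ⟨i, hi, e⟩ := h.2 j hj
  exact ⟨⟨i, hi⟩, e⟩

theorem colT_lt (i : Fin 24) : cl colT i < 3 := by
  have h := trio6_facts.2.2.1
  simp only [colOK, Bool.and_eq_true, List.all_eq_true, List.mem_range, decide_eq_true_eq] at h
  exact h.1 i i.2

theorem blk_unique {s : P} {e e' : ℕ × Bool} (he : e ∈ trio6) (he' : e' ∈ trio6) (h : Blk colT e.1 s)
    (h' : Blk colT e'.1 s) : e = e' := by
  have hu := trio6_facts.2.1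
  simp only [uniqOK, List.all_eq_true, Bool.or_eq_true, beq_iff_eq, List.any_eq_true, List.mem_range,
    bne_iff_ne, ne_eq] at hu
  rcases hu e he e' he' with h1 | ⟨j, hj, h1⟩
  · exact h1
  · obtain ⟨i, rfl⟩ := exists_colour j hj
    exact absurd ((h i).symm.trans (h' i)) h1

/-- An element has a map of colours with the rule for the involution. -/
def Rule {X : Type*} [Group X] (f : P →* X) (t χ : X) (s : P) : Prop :=
  ∃ e ∈ trio6, Blk colT e.1 s ∧ t * f s = f s * t * (bif e.2 then χ else 1)

theorem rule_mul {X : Type*} [Group X] {f : P →* X} {t χ : X} (hχ : ∀ g, g * χ = χ * g) (hχ2 : χ * χ = 1)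
    {a b : P} (ha : Rule f t χ a) (hb : Rule f t χ b) : Rule f t χ (a * b) := by
  obtain ⟨e1, h1, b1, r1⟩ := ha
  obtain ⟨e2, h2, b2, r2⟩ := hb
  have hc := trio6_facts.1
  simp only [compOK, List.all_eq_true, List.any_eq_true, Bool.and_eq_true, beq_iff_eq, List.mem_range] at hc
  obtain ⟨e3, h3, hp, hcomp⟩ := hc e1 h1 e2 h2
  refine ⟨e3, h3, fun i => ?_, ?_⟩
  · rw [map_mul, Equiv.Perm.mul_apply, b1, b2]
    exact (hcomp _ (colT_lt i)).symm
  · have hc1 : ∀ g, g * (bif e1.2 then χ else 1) = (bif e1.2 then χ else 1) * g := fun g => by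
      cases e1.2 <;> simp [hχ g]
    calc t * f (a * b) = t * f a * f b := by rw [map_mul, mul_assoc]
      _ = f a * t * (bif e1.2 then χ else 1) * f b := by rw [r1]
      _ = f a * (t * f b) * (bif e1.2 then χ else 1) := by
          rw [mul_assoc (f a * t), ← hc1 (f b)]; simp only [mul_assoc]
      _ = f a * (f b * t) * ((bif e2.2 then χ else 1) * (bif e1.2 then χ else 1)) := by rw [r2]; simp only [mul_assoc]
      _ = f (a * b) * t * (bif e3.2 then χ else 1) := by
          rw [map_mul, hp, mul_assoc (f a) (f b) t]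
          congr 1
          cases e1.2 <;> cases e2.2 <;> simp [hχ2]

theorem rule_closure {X : Type*} [Group X] {f : P →* X} {t χ : X} (hχ : ∀ g, g * χ = χ * g) (hχ2 : χ * χ = 1)
    {gens : Set P} (hg : ∀ g ∈ gens, Rule f t χ g) : ∀ s ∈ Subgroup.closure gens, Rule f t χ s := by
  haveI := finite_P
  intro s hs
  rw [← Subgroup.mem_toSubmonoid, Subgroup.closure_toSubmonoid_of_finite] at hs
  induction hs using Submonoid.closure_induction with
  | mem x hx => exact hg x hx
  | one =>
    refine ⟨(0x210, false), by simp [trio6], fun i => ?_, by simp⟩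
    rw [map_one, Equiv.Perm.one_apply]
    exact ((by decide +kernel : ∀ j < 3, cl 0x210 j = j) _ (colT_lt i)).symm
  | mul x y _ _ hx hy => exact rule_mul hχ hχ2 hx hy

theorem tw_of_rule {X : Type*} [Group X] {f : P →* X} {t χ : X} (hχ : ∀ g, g * χ = χ * g) (hχ2 : χ * χ = 1)
    (hx : ∃ e ∈ trio6, Blk colT e.1 px ∧ t * f px = f px * t * (bif e.2 then χ else 1))
    (hw : ∃ e ∈ trio6, Blk colT e.1 wP ∧ t * f wP = f wP * t * (bif e.2 then χ else 1))
    (hst : stab colT = Subgroup.closure {px, wP}) :
    ∀ (s : P) (e : ℕ × Bool), e ∈ trio6 → Blk colT e.1 s → t * f s = f s * t * (bif e.2 then χ else 1) := by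
  intro s e he hb
  have hs : s ∈ Subgroup.closure {px, wP} := hst ▸ (Stb.of_blk hb : s ∈ stab colT)
  obtain ⟨e', he', hb', hr⟩ := rule_closure hχ hχ2 (gens := {px, wP}) (by
    rintro g (rfl | rfl)
    · exact hx
    · exact hw) s hs
  rwa [blk_unique he he' hb hb']

end Cfsg.Lib.J4Cert
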