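import Cfsg.Agent.J4Cert.HCheck
import Cfsg.Agent.J4Cert.ESpace

/-!
The small group has index at most 2048 in the subgroup of the large index.
-/

set_option autoImplicit false
set_option maxRecDepth 8000

namespace Cfsg.Lib.J4Cert

open Cfsg Cfsg.Lib.J4Pres Cfsg.Lib.CosetTable

/-- The stabiliser chain of the sextet. -/
def sextChainOK : Bool :=
  CosetCert.chainOK sextTabs 24 sextTabs.length sextChain && Nat.beq (CosetCert.chainSize sextChain) 138240

/-- The generators preserve the sextet and fix the first basis element. -/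
def sextFixOK : Bool :=
  (sextGens.all fun e => e.2.all (fun l => Nat.blt l 3) &&
      Nat.beq (e.2.foldl (fun v l => J4Rep.va v (eRows.getD l [])) 1) 1) &&
    (List.range sextGens.length).all fun k =>
      sextMaps.any fun c => Nat.beq (rel sextCol (sextGens.getD k (0, [])).1 idp) (graph c 6)
where
  /-- The maps of colours of the generators. -/
  sextMaps : List ℕ := [0x543210, 0x201534, 0x315042, 0x540213, 0x541230]

attribute [local irreducible] pm rel idp ap cl eBasis

theorem sextStab_ok : sextStabOK = true ∧ sextChainOK = true := by decide +kernel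

theorem sextFix_ok : sextFixOK = true := by decide +kernel

theorem forall₂_wp : ∀ L : List (List ℕ), List.Forall₂ El (L.map wp) (L.map (wval im)) := el_words

/-- The range of the small group. -/
abbrev HJ : Subgroup Spor.J4 := jHom.range

theorem rho_eq_of_mem {a b : Spor.J4} (ha : a ∈ HJ) (hb : b ∈ HJ) (h : rhoG a = rhoG b) : a = b := by
  obtain ⟨p, rfl⟩ := ha
  obtain ⟨q, rfl⟩ := hb
  rw [show p = q from rho_jHom_injective h]

theorem jHom_letG {l : ℕ} (hl : l < 3) : jHom (im l) = letG l := by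
  interval_cases l
  · exact jHom_px
  · exact jHom_py
  · show jHom py⁻¹ = gy⁻¹
    rw [map_inv, jHom_py]

theorem EBasis.conj_word (B : EBasis) : ∀ (w : List ℕ), (∀ l ∈ w, l < 3) → ∀ v,
    (rhoG (jHom (wval im w)))⁻¹ * ev B.img v * rhoG (jHom (wval im w)) =
      ev B.img (w.foldl (fun v l => J4Rep.va v (eRows.getD l [])) v)
  | [], _, v => by simp [wval]
  | l :: w, h, v => by
    have e : wval im (l :: w) = im l * wval im w := by simp [wval]
    have hl := h l List.mem_cons_self
    rw [List.foldl_cons, ← EBasis.conj_word B w (fun a ha => h a (List.mem_cons_of_mem l ha)), ← B.conj hl, e,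
      map_mul, map_mul, jHom_letG hl]
    group

theorem EBasis.img_head (B : EBasis) : ev B.img 1 = rhoG ge := by
  obtain ⟨g, tl, hg⟩ : ∃ g tl, B.g = g :: tl := by
    cases h : B.g with
    | nil => exact absurd B.len (by simp [h])
    | cons a b => exact ⟨a, b, rfl⟩
  have h0 := B.head
  rw [hg, List.getD_cons_zero] at h0
  have hz : ∀ l : List (Equiv.Perm J4Rep.Vec), ev l 0 = 1 := fun l => by induction l <;> simp_all [ev]
  simp [EBasis.img, hg, ev, hz, h0]

theorem h_index : HJ.relIndex KJ ≠ 0 ∧ HJ.relIndex KJ ≤ 2048 := by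
  classical
  obtain ⟨B⟩ := exists_basis
  obtain ⟨hH⟩ := models_G (K := HJ) (defs := hDefs) hFacts hSrc false (fun a => ⟨a, rfl⟩) (fun h => by simp at h)
  set S := gSys HJ hDefs with hS
  have hT : ∀ k < hLen, FOK S (hFacts.get k) := fact_ok hH hC_all
  have hz : ∀ b x, S.Z b x = 1 := gSys_Z HJ hDefs
  have hs := relShape_ok
  simp only [relShape, Bool.and_eq_true, beq_iff_eq, List.all_eq_true] at hs
  obtain ⟨⟨⟨⟨-, hRW⟩, -⟩, hRP⟩, -⟩ := hs
  have hroot : List.Forall₂ El rootP (rootW.map (wval im)) := hRP ▸ el_words rootW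
  have hprod : ((rootW.map (wval im)).map S.tc).prod = ge := by
    rw [hRW]
    simp only [List.map_cons, List.map_nil, List.prod_cons, List.prod_nil, mul_one, wval_append, ← mul_assoc (S.tc _)]
    simp only [show wval im [1, 1] = py * py by simp [wval, im], show wval im [1] = py by simp [wval, im],
      show wval im ([] : List ℕ) = 1 from rfl, map_one, mul_one]
    rw [triple]
    simp [hS, gSys, Sys.tc, jHom_py, ge]
  have hw := eWalk_ok
  simp only [eWalkOK, Bool.and_eq_true] at hw
  obtain ⟨⟨hb, hw1⟩, hw2⟩ := hw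
  -- the element lies in the third coset
  obtain ⟨a3, ha3, he3⟩ : ∃ a, El h3 a ∧ S.Eqv ge (S.v 3 * S.f a) := by
    cases hq : walk hFacts ⟨0, idp, 0, false⟩ eOps rootP with
    | none => simp [hq] at hw1
    | some q =>
      obtain ⟨C, r⟩ := q
      cases r with
      | cons _ _ => simp [hq] at hw1
      | nil =>
        simp only [hq, Bool.and_eq_true] at hw1
        have h0 : At S ⟨0, idp, 0, false⟩ 1 := ⟨1, El.one, by
          rw [hz, map_one, mul_one, mul_one, show S.v 0 = 1 from hH.v_zero]; exact Sys.Eqv.refl S _⟩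
        obtain ⟨as1, as2, hcat, h2, b, hb', hB⟩ := walk_sound hT eOps hb hq h0 hroot
        cases h2
        rw [List.append_nil] at hcat
        rw [← hcat, hprod, one_mul, hz, mul_one, Nat.eq_of_beq_eq_true hw1.1] at hB
        exact ⟨b, by rw [← Nat.eq_of_beq_eq_true hw1.2]; exact hb', hB⟩
  -- the element is an involution
  have hsq : ge * ge = 1 := by
    obtain ⟨n, hn, a, hE⟩ := lands_sound hT hz hw2 El.one (List.rel_append hroot hroot)
    rw [List.mem_singleton] at hn
    subst hn
    rw [List.map_append, List.prod_append, hprod, map_one, mul_one, show S.v 0 = 1 from hH.v_zero, one_mul, one_mul] at hE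
    have hm : ge * ge ∈ HJ := by
      have h1 := HJ.mul_mem (show ge * ge * (S.f a)⁻¹ ∈ HJ from hE) (⟨a, rfl⟩ : S.f a ∈ HJ)
      rwa [inv_mul_cancel_right] at h1
    refine rho_eq_of_mem hm HJ.one_mem ?_
    rw [map_mul, map_one, ← B.img_head, ← ev_xor B.comm, Nat.xor_self]
    have : ∀ l : List (Equiv.Perm J4Rep.Vec), ev l 0 = 1 := fun l => by induction l <;> simp_all [ev]
    exact this _
  -- the cosets
  have hcv := hCov_ok
  simp only [hCovOK, List.all_eq_true, Bool.and_eq_true] at hcv
  have hC3 := hcv (⟨3, 138240, hcov3Gens, hcov3Idx, hcov3Roots, hcov3Steps, hcov3Tabs, hcov3Chain⟩, hcov3Inv)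
    (by simp [hCovs, hInv])
  obtain ⟨g3, G3, hg3, hm3, -, -, hG3⟩ := Cov.stab_sound hT hz hC3.1.1
  -- the stabiliser of the sextet
  obtain ⟨hst, hch⟩ := sextStab_ok
  simp only [sextStabOK, Bool.and_eq_true, List.all_eq_true, List.mem_range, beq_iff_eq] at hst
  obtain ⟨⟨hlen, htl⟩, hst⟩ := hst
  simp only [sextChainOK, Bool.and_eq_true] at hch
  have hfix := sextFix_ok
  simp only [sextFixOK, Bool.and_eq_true, List.all_eq_true, List.mem_range, List.any_eq_true, Nat.blt_eq] at hfix
  let sa : ℕ → P := fun k => wval im (sextGens.getD k (0, [])).2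
  have hsa : ∀ k < sextGens.length, El (sextGens.getD k (0, [])).1 (sa k) := fun k hk => by
    rw [← Nat.eq_of_beq_eq_true (hst k hk).1.1.1]
    exact wp_el _
  have hcomm : ∀ k < sextGens.length, ge * jHom (sa k) = jHom (sa k) * ge := by
    intro k hk
    have hk3 : k < hcov3Idx.length := Nat.eq_of_beq_eq_true hlen ▸ hk
    have e : a3 * sa k = g3 k * a3 := (ha3.mul (hsa k hk)).unique
      (by rw [Nat.eq_of_beq_eq_true (hst k hk).1.1.2]; exact (hg3 k hk3).mul ha3)
    have hq : S.Eqv (ge * S.f (sa k)) ge := by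
      refine ((he3.mul_right (S.f (sa k))).trans ?_).trans he3.symm
      rw [mul_assoc, ← map_mul, e, map_mul, ← mul_assoc]
      exact (hG3 _ (hm3 k hk3)).mul_right _
    have hm : ge * jHom (sa k) * ge⁻¹ ∈ HJ := hq
    have hmem : sextGens.getD k (0, []) ∈ sextGens := by
      rw [List.getD_eq_getElem _ _ hk]; exact List.getElem_mem hk
    obtain ⟨hlet, hfx⟩ := hfix.1 _ hmem
    have hc := B.conj_word _ hlet 1
    rw [Nat.eq_of_beq_eq_true hfx, B.img_head] at hc
    have hrho : rhoG (ge * jHom (sa k) * ge⁻¹) = rhoG (jHom (sa k)) := by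
      rw [map_mul, map_mul, map_inv, mul_inv_eq_iff_eq_mul]
      calc rhoG ge * rhoG (jHom (sa k))
          = rhoG (jHom (sa k)) * ((rhoG (jHom (sa k)))⁻¹ * rhoG ge * rhoG (jHom (sa k))) := by group
        _ = rhoG (jHom (sa k)) * rhoG ge := by rw [hc]
    exact mul_inv_eq_iff_eq_mul.1 (rho_eq_of_mem hm ⟨_, rfl⟩ hrho)
  let G : Subgroup P := Subgroup.closure (sa '' Set.Iio sextGens.length)
  have hGc : ∀ s ∈ G, ge * jHom s = jHom s * ge := by
    intro s hs
    have hc : G ≤ (Subgroup.centralizer {ge}).comap jHom := by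
      rw [Subgroup.closure_le]
      rintro _ ⟨k, hk, rfl⟩
      simp [Subgroup.mem_centralizer_singleton_iff, hcomm k hk]
    exact (Subgroup.mem_centralizer_singleton_iff.1 (hc hs)).symm
  have hGs : G ≤ stab sextQ.c := by
    refine (Subgroup.closure_le _).2 ?_
    rintro _ ⟨k, hk, rfl⟩
    obtain ⟨c, -, hc⟩ := hfix.2 k hk
    have := Blk.of_rel (hsa k hk) El.one (Nat.eq_of_beq_eq_true hc)
    rw [inv_one, mul_one] at this
    exact Stb.of_blk this
  have hN : 138240 ≤ Nat.card G := by
    haveI := finite_P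
    let imL : ℕ → P := fun l => if l % 2 = 0 then sa (l / 2) else (sa (l / 2))⁻¹
    rw [← Nat.eq_of_beq_eq_true hch.2]
    refine CosetCert.chain_bound imL psi sextTabs (fun l hl => ?_) sextChain G hch.1 inferInstance
      fun K hK w hw => list_prod_mem fun z hz' => ?_
    · rw [Nat.eq_of_beq_eq_true htl] at hl
      have hk : l / 2 < sextGens.length := by omega
      obtain ⟨v1, e1⟩ := El.of_agree (hst _ hk).1.2 (hsa _ hk)
      rcases Nat.mod_two_eq_zero_or_one l with hm | hm
      · rw [show l = 2 * (l / 2) by omega, show imL (2 * (l / 2)) = sa (l / 2) by simp [imL]]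
        exact ⟨v1, e1⟩
      · rw [show sextTabs.getD l (0, 0) = PermCert.pinv (sextTabs.getD (2 * (l / 2)) (0, 0)) by
          rw [← (hst _ hk).2, show 2 * (l / 2) + 1 = l by omega]]
        refine ⟨PermCert.valid_pinv v1, ?_⟩
        rw [show imL l = (sa (l / 2))⁻¹ by simp [imL, hm], map_inv, e1, PermCert.perm_pinv v1]
    · obtain ⟨l, hl', rfl⟩ := List.mem_map.1 hz'
      have hlt : l < sextTabs.length := CosetCert.chain_bound.chain_letters.{0} sextTabs sextChain hch.1 K hK w hw l hl'
      rw [Nat.eq_of_beq_eq_true htl] at hlt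
      have hmem : sa (l / 2) ∈ G := Subgroup.subset_closure ⟨l / 2, by show l / 2 < _; omega, rfl⟩
      show imL l ∈ G
      simp only [imL]
      split
      · exact hmem
      · exact inv_mem hmem
  obtain ⟨rep, hQ⟩ := sextQ.spec (fun g hg => by
      simp only [sextQ, List.mem_cons, List.not_mem_nil, or_false] at hg
      rcases hg with rfl | rfl | rfl <;> exact ⟨_, let8_el _⟩)
    sextQ_small.1 sextQ_reps sextQ_incr sextQ_small.2 hGs hN rfl
  have hcov : ∀ e ∈ hCovs.zip hInv, ∃ G : Subgroup P, (0 < e.1.ord ∧ e.1.ord ≤ Nat.card G) ∧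
      (∀ s ∈ G, S.Eqv (S.v e.1.n * S.f s) (S.v e.1.n)) ∧ ∀ a : P, InO S [0, 3, 12] (S.v e.1.n * S.f a * ge) := by
    intro e he
    obtain ⟨⟨h1, h2⟩, h3⟩ := hcv e he
    obtain ⟨ga, Gn, hga, hmem, hp, hord, hGn⟩ := Cov.stab_sound hT hz h1
    simp only [rootsE, Bool.and_eq_true, List.all_eq_true] at h3
    obtain ⟨hl, h3⟩ := h3
    have hgood := Cov.all_sound hQ h2 hga (fun k => InO S [0, 3, 12] (S.v e.1.n * S.f (rep k)⁻¹ * ge))
      (fun r hr hrR => by
        obtain ⟨i, hi, rfl⟩ := List.getElem_of_mem hr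
        have hi' : i < e.2.length := Nat.eq_of_beq_eq_true hl ▸ hi
        obtain ⟨hinv, hland⟩ := h3 (e.1.roots[i], e.2[i]) (List.mem_iff_getElem.2 ⟨i, by simp [hi, hi'], by simp⟩)
        have hel : El e.2[i] (rep e.1.roots[i].1)⁻¹ := (hQ.el _ hrR).inv (Nat.eq_of_beq_eq_true hinv)
        have := lands_sound hT hz hland hel hroot
        rwa [hprod] at this)
      fun k p g _ _ hg hm' hgood => by
        have e1 : (rep k)⁻¹ = (ga g)⁻¹ * (rep p)⁻¹ * (rep k * (rep p * ga g)⁻¹)⁻¹ := by group
        have hcm : ge * jHom (rep k * (rep p * ga g)⁻¹)⁻¹ = jHom (rep k * (rep p * ga g)⁻¹)⁻¹ * ge :=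
          hGc _ (inv_mem hm')
        refine (hgood.mul_f (rep k * (rep p * ga g)⁻¹)⁻¹).congr ?_
        generalize (rep k * (rep p * ga g)⁻¹)⁻¹ = s at e1 hcm
        rw [e1, map_mul, map_mul, ← mul_assoc, ← mul_assoc, mul_assoc _ (S.f s) ge,
          show S.f s * ge = ge * S.f s from hcm.symm, ← mul_assoc]
        exact (((hGn _ (inv_mem (hmem g hg))).mul_right _).mul_right _).mul_right _
    refine ⟨Gn, ⟨hp, hord⟩, hGn, fun a => ?_⟩
    obtain ⟨k, hk, hka⟩ := hQ.total a⁻¹
    have hcm := hGc _ (inv_mem hka)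
    have e1 : a = (rep k)⁻¹ * (a⁻¹ * (rep k)⁻¹)⁻¹ := by group
    have := (hgood k hk).mul_f (a⁻¹ * (rep k)⁻¹)⁻¹
    generalize (a⁻¹ * (rep k)⁻¹)⁻¹ = s at e1 this hcm
    rw [mul_assoc _ ge, show ge * S.f s = S.f s * ge from hcm, ← mul_assoc, mul_assoc (S.v e.1.n), ← map_mul] at this
    rwa [← e1] at this
  have hC : ∀ n ∈ [0, 3, 12], ∃ e ∈ hCovs.zip hInv, e.1.n = n := by decide +kernel
  choose G' hG' using hcov
  choose cv hcv' using hC
  let ord : ℕ → ℕ := fun n => if n = 0 then 244823040 else if n = 3 then 138240 else 887040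
  let GG : ℕ → Subgroup P := fun n => if h : n ∈ [0, 3, 12] then G' (cv n h) (hcv' n h).1 else ⊥
  have hordn : ∀ e ∈ hCovs.zip hInv,
      e.1.ord = if e.1.n = 0 then 244823040 else if e.1.n = 3 then 138240 else 887040 := by
    simp [hCovs, hInv]
  have hb := relIndex_bound (S := S) (live := [0, 3, 12]) (by decide) (by simp) hH.v_zero ge hsq
    (fun n hn a => by
      have := (hG' _ (hcv' n hn).1).2.2 a
      rwa [(hcv' n hn).2] at this)
    ord GG
    (fun n hn => by
      have := (hG' _ (hcv' n hn).1).1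
      rw [hordn _ (hcv' n hn).1] at this
      simp only [(hcv' n hn).2] at this
      simpa only [ord, GG, dif_pos hn] using this)
    (fun n hn s hs => by
      simp only [GG, dif_pos hn] at hs
      have := (hG' _ (hcv' n hn).1).2.1 s hs
      rwa [(hcv' n hn).2] at this)
    (by
      rw [show S.K = HJ from rfl, show S.f = jHom from rfl]
      rintro _ ⟨a, rfl⟩
      exact Subgroup.subset_closure (Or.inl ⟨a, rfl⟩))
  exact ⟨hb.1, hb.2.trans (le_of_eq (by simp [ord]))⟩

end Cfsg.Lib.J4Cert
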