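import Cfsg.Agent.J4Cert.GSys
import Cfsg.Agent.J4Cert.Data.hFacts
import Cfsg.Agent.J4Cert.Data.hSteps
import Cfsg.Agent.J4Cert.Data.hCov
import Cfsg.Agent.J4Cert.Data.sextPart

/-!
The certificate for the cosets of the small group and the orbits on sextets.
-/

set_option autoImplicit false
set_option maxRecDepth 8000

namespace Cfsg.Lib.J4Cert

/-- The certificate. -/
def hC : Crt := mkCrt 0 false hDefs hFacts hSrc

/-- The sextets. -/
def sextQ : Part where
  c := sextCol
  m := 6
  R := 1771
  gens := [let8 0, let8 1, let8 2]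
  reps := sextReps
  par := sextPar'
  srt := sextSrt

/-- The three cosets. -/
def hCovs : List Cov :=
  [⟨0, 244823040, hcov0Gens, hcov0Idx, hcov0Roots, hcov0Steps, hcov0Tabs, hcov0Chain⟩,
    ⟨3, 138240, hcov3Gens, hcov3Idx, hcov3Roots, hcov3Steps, hcov3Tabs, hcov3Chain⟩,
    ⟨12, 887040, hcov12Gens, hcov12Idx, hcov12Roots, hcov12Steps, hcov12Tabs, hcov12Chain⟩]

/-- The inverses of the root representatives. -/
def hInv : List (List ℕ) := [hcov0Inv, hcov3Inv, hcov12Inv]

/-- The roots land in the listed cosets by the three letters. -/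
def rootsE (C : Cov) (inv : List ℕ) : Bool :=
  Nat.beq C.roots.length inv.length && (C.roots.zip inv).all fun e =>
    Nat.beq (pm e.2 (sextReps.get e.1.1)) idp && lands hFacts hLen [0, 3, 12] C.n e.2 e.1.2 rootP

/-- All three cosets are checked. -/
def hCovOK : Bool :=
  (hCovs.zip hInv).all fun e => e.1.stabOK hFacts hLen && e.1.allOK sextQ && rootsE e.1 e.2

/-- The element and its square as states. -/
def eWalkOK : Bool :=
  eOps.all (fun o => Nat.blt (Nat.shiftRight o 1) hLen) &&
    (match walk hFacts ⟨0, idp, 0, false⟩ eOps rootP with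
      | some (B, []) => Nat.beq B.n 3 && Nat.beq B.h h3
      | _ => false) &&
    lands hFacts hLen [0] 0 idp e2Ops (rootP ++ rootP)

/-- The stabiliser of the sextet. -/
def sextStabOK : Bool :=
  Nat.beq sextGens.length hcov3Idx.length && Nat.beq sextTabs.length (2 * sextGens.length) &&
    (List.range sextGens.length).all fun k =>
      (fun e => Nat.beq (wp e.2) e.1 && Nat.beq (pm h3 e.1) (pm (hcov3Gens.get k) h3) &&
        agree (sextTabs.getD (2 * k) (0, 0)) e.1 &&
        (sextTabs.getD (2 * k + 1) (0, 0) == PermCert.pinv (sextTabs.getD (2 * k) (0, 0))))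
      (sextGens.getD k (0, []))

theorem hC_ok : hC.okRange 0 195 = true := by decide +kernel

theorem hC_all : ∀ k < hLen, hC.okAt k = true := fun k hk =>
  okRange_sound hC 195 0 hC_ok k (Nat.zero_le k) (by simpa [hLen] using hk)

theorem hCov_ok : hCovOK = true := by decide +kernel

theorem eWalk_ok : eWalkOK = true := by decide +kernel

theorem sextQ_small : colOK sextQ.c 6 = true ∧ sextSrt.length = 1771 := by decide +kernel

theorem sextQ_reps : sextQ.repsFrom 0 1771 = true := by decide +kernel

theorem sextQ_incr : sextQ.incr 0 sextSrt = true := by decide +kernel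

end Cfsg.Lib.J4Cert
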