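import Cfsg.Agent.J4Cert.KDef

/-!
The facts are checked in ranges.
-/

set_option autoImplicit false
set_option maxRecDepth 8000
set_option Elab.async false

namespace Cfsg.Lib.J4Cert

theorem kC_ok0 : kC.okRange 0 250 = true := by decide +kernel

theorem kC_ok1 : kC.okRange 250 250 = true := by decide +kernel

theorem kC_ok2 : kC.okRange 500 250 = true := by decide +kernel

theorem kC_ok3 : kC.okRange 750 250 = true := by decide +kernel

theorem kC_ok4 : kC.okRange 1000 250 = true := by decide +kernel

theorem kC_ok5 : kC.okRange 1250 250 = true := by decide +kernel

theorem kC_ok6 : kC.okRange 1500 250 = true := by decide +kernel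

end Cfsg.Lib.J4Cert
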