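import Cfsg.Agent.J4Cert.KCovDef

/-!
The orbits are checked.
-/

set_option autoImplicit false
set_option maxRecDepth 8000
set_option Elab.async false

namespace Cfsg.Lib.J4Cert

theorem kCov0_ok : kCov0.stabOK kFacts kLen = true ∧ kCov0.allOK trioQ = true ∧
    kCov0.trioOK trioQ kFacts kLen kLiveN = true := by
  refine ⟨?_, ?_, ?_⟩ <;> decide +kernel

theorem kCov1_ok : kCov1.stabOK kFacts kLen = true ∧ kCov1.allOK trioQ = true ∧
    kCov1.trioOK trioQ kFacts kLen kLiveN = true := by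
  refine ⟨?_, ?_, ?_⟩ <;> decide +kernel

theorem kCov4_ok : kCov4.stabOK kFacts kLen = true ∧ kCov4.allOK trioQ = true ∧
    kCov4.trioOK trioQ kFacts kLen kLiveN = true := by
  refine ⟨?_, ?_, ?_⟩ <;> decide +kernel

theorem kCov5_ok : kCov5.stabOK kFacts kLen = true ∧ kCov5.allOK trioQ = true ∧
    kCov5.trioOK trioQ kFacts kLen kLiveN = true := by
  refine ⟨?_, ?_, ?_⟩ <;> decide +kernel

theorem kCov6_ok : kCov6.stabOK kFacts kLen = true ∧ kCov6.allOK trioQ = true ∧
    kCov6.trioOK trioQ kFacts kLen kLiveN = true := by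
  refine ⟨?_, ?_, ?_⟩ <;> decide +kernel

theorem kCov7_ok : kCov7.stabOK kFacts kLen = true ∧ kCov7.allOK trioQ = true ∧
    kCov7.trioOK trioQ kFacts kLen kLiveN = true := by
  refine ⟨?_, ?_, ?_⟩ <;> decide +kernel

theorem kCov9_ok : kCov9.stabOK kFacts kLen = true ∧ kCov9.allOK trioQ = true ∧
    kCov9.trioOK trioQ kFacts kLen kLiveN = true := by
  refine ⟨?_, ?_, ?_⟩ <;> decide +kernel

theorem kCov10_ok : kCov10.stabOK kFacts kLen = true ∧ kCov10.allOK trioQ = true ∧
    kCov10.trioOK trioQ kFacts kLen kLiveN = true := by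
  refine ⟨?_, ?_, ?_⟩ <;> decide +kernel

theorem kCov12_ok : kCov12.stabOK kFacts kLen = true ∧ kCov12.allOK trioQ = true ∧
    kCov12.trioOK trioQ kFacts kLen kLiveN = true := by
  refine ⟨?_, ?_, ?_⟩ <;> decide +kernel

theorem kCov14_ok : kCov14.stabOK kFacts kLen = true ∧ kCov14.allOK trioQ = true ∧
    kCov14.trioOK trioQ kFacts kLen kLiveN = true := by
  refine ⟨?_, ?_, ?_⟩ <;> decide +kernel

end Cfsg.Lib.J4Cert
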