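import Cfsg.Agent.J4Cert.Rels
import Cfsg.Agent.J4Cert.Data.kFacts
import Cfsg.Agent.J4Cert.Data.kSteps

/-!
The certificate of the large index.
-/

set_option autoImplicit false
set_option maxRecDepth 8000
set_option Elab.async false

namespace Cfsg.Lib.J4Cert

/-- The certificate. -/
def kC : Crt := mkCrt 0 true kDefs kFacts kSrc

end Cfsg.Lib.J4Cert
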