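import Cfsg.Agent.J4Cert.Trio
import Cfsg.Agent.J4Cert.KDef
import Cfsg.Agent.J4Cert.Data.kCov

/-!
The data of the orbits.
-/

set_option autoImplicit false
set_option maxRecDepth 8000
set_option Elab.async false

namespace Cfsg.Lib.J4Cert

/-- The data of a coset. -/
def kCov0 : Cov :=
  ⟨0, (kLive.getD 0 (0, 1)).2, cov0Gens, cov0Idx, cov0Roots, cov0Steps, cov0Tabs, cov0Chain⟩

/-- The data of a coset. -/
def kCov1 : Cov :=
  ⟨1, (kLive.getD 1 (0, 1)).2, cov1Gens, cov1Idx, cov1Roots, cov1Steps, cov1Tabs, cov1Chain⟩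

/-- The data of a coset. -/
def kCov4 : Cov :=
  ⟨4, (kLive.getD 2 (0, 1)).2, cov4Gens, cov4Idx, cov4Roots, cov4Steps, cov4Tabs, cov4Chain⟩

/-- The data of a coset. -/
def kCov5 : Cov :=
  ⟨5, (kLive.getD 3 (0, 1)).2, cov5Gens, cov5Idx, cov5Roots, cov5Steps, cov5Tabs, cov5Chain⟩

/-- The data of a coset. -/
def kCov6 : Cov :=
  ⟨6, (kLive.getD 4 (0, 1)).2, cov6Gens, cov6Idx, cov6Roots, cov6Steps, cov6Tabs, cov6Chain⟩

/-- The data of a coset. -/
def kCov7 : Cov :=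
  ⟨7, (kLive.getD 5 (0, 1)).2, cov7Gens, cov7Idx, cov7Roots, cov7Steps, cov7Tabs, cov7Chain⟩

/-- The data of a coset. -/
def kCov9 : Cov :=
  ⟨9, (kLive.getD 6 (0, 1)).2, cov9Gens, cov9Idx, cov9Roots, cov9Steps, cov9Tabs, cov9Chain⟩

/-- The data of a coset. -/
def kCov10 : Cov :=
  ⟨10, (kLive.getD 7 (0, 1)).2, cov10Gens, cov10Idx, cov10Roots, cov10Steps, cov10Tabs, cov10Chain⟩

/-- The data of a coset. -/
def kCov12 : Cov :=
  ⟨12, (kLive.getD 8 (0, 1)).2, cov12Gens, cov12Idx, cov12Roots, cov12Steps, cov12Tabs, cov12Chain⟩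

/-- The data of a coset. -/
def kCov14 : Cov :=
  ⟨14, (kLive.getD 9 (0, 1)).2, cov14Gens, cov14Idx, cov14Roots, cov14Steps, cov14Tabs, cov14Chain⟩

/-- The data of a coset. -/
def kCov17 : Cov :=
  ⟨17, (kLive.getD 10 (0, 1)).2, cov17Gens, cov17Idx, cov17Roots, cov17Steps, cov17Tabs, cov17Chain⟩

/-- The data of a coset. -/
def kCov21 : Cov :=
  ⟨21, (kLive.getD 11 (0, 1)).2, cov21Gens, cov21Idx, cov21Roots, cov21Steps, cov21Tabs, cov21Chain⟩

/-- The data of a coset. -/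
def kCov22 : Cov :=
  ⟨22, (kLive.getD 12 (0, 1)).2, cov22Gens, cov22Idx, cov22Roots, cov22Steps, cov22Tabs, cov22Chain⟩

/-- The data of a coset. -/
def kCov24 : Cov :=
  ⟨24, (kLive.getD 13 (0, 1)).2, cov24Gens, cov24Idx, cov24Roots, cov24Steps, cov24Tabs, cov24Chain⟩

/-- The data of a coset. -/
def kCov25 : Cov :=
  ⟨25, (kLive.getD 14 (0, 1)).2, cov25Gens, cov25Idx, cov25Roots, cov25Steps, cov25Tabs, cov25Chain⟩

/-- The data of a coset. -/
def kCov30 : Cov :=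
  ⟨30, (kLive.getD 15 (0, 1)).2, cov30Gens, cov30Idx, cov30Roots, cov30Steps, cov30Tabs, cov30Chain⟩

/-- The data of a coset. -/
def kCov31 : Cov :=
  ⟨31, (kLive.getD 16 (0, 1)).2, cov31Gens, cov31Idx, cov31Roots, cov31Steps, cov31Tabs, cov31Chain⟩

/-- The data of a coset. -/
def kCov32 : Cov :=
  ⟨32, (kLive.getD 17 (0, 1)).2, cov32Gens, cov32Idx, cov32Roots, cov32Steps, cov32Tabs, cov32Chain⟩

/-- The data of a coset. -/
def kCov33 : Cov :=
  ⟨33, (kLive.getD 18 (0, 1)).2, cov33Gens, cov33Idx, cov33Roots, cov33Steps, cov33Tabs, cov33Chain⟩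

/-- The data of a coset. -/
def kCov34 : Cov :=
  ⟨34, (kLive.getD 19 (0, 1)).2, cov34Gens, cov34Idx, cov34Roots, cov34Steps, cov34Tabs, cov34Chain⟩

/-- The data of all cosets. -/
def kCovs : List Cov :=
  [kCov0, kCov1, kCov4, kCov5, kCov6, kCov7, kCov9, kCov10, kCov12, kCov14, kCov17, kCov21, kCov22, kCov24, kCov25, kCov30, kCov31, kCov32, kCov33, kCov34]

/-- The listed cosets. -/
def kLiveN : List ℕ := kCovs.map Cov.n

end Cfsg.Lib.J4Cert
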