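import Cfsg.Agent.J4Cert.Group
import Cfsg.Agent.Schur.UniversalCover

/-!
Lifts of the small group to central extensions.
-/

set_option autoImplicit false

namespace Cfsg.Lib.J4Cert

open Cfsg Cfsg.Lib.J4Pres

theorem multiplier_P {Δ : Type} [Group Δ] [Finite Δ] (τ : Δ →* P) (h : IsStemExtension τ) :
    τ.ker = ⊥ := by
  haveI := finite_P
  obtain ⟨h1, h2, h3⟩ := h
  have hk : (equivM24.toMonoidHom.comp τ).ker = τ.ker := by ext g; simp
  have hs : IsStemExtension (equivM24.toMonoidHom.comp τ) :=
    ⟨equivM24.surjective.comp h1, hk.trans_le h2, hk.trans_le h3⟩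
  rw [← hk]
  exact Schur.ker_eq_bot_of_hasCyclicSchurMultiplier_one Cfsg.Agent.S2038.result hs

/-- A map from a perfect group without stem extensions lifts to central extensions. -/
theorem exists_lift_central {G Γ Q : Type} [Group G] [Group Γ] [Group Q] [Finite G] [Finite Γ]
    (hperf : commutator G = ⊤)
    (htriv : ∀ (Δ : Type) [Group Δ] [Finite Δ] (τ : Δ →* G), IsStemExtension τ → τ.ker = ⊥)
    (σ : Γ →* Q) (hs : Function.Surjective σ) (hc : σ.ker ≤ Subgroup.center Γ) (j : G →* Q) :
    ∃ f : G →* Γ, σ.comp f = j := by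
  let D : Subgroup (G × Γ) := (j.comp (MonoidHom.fst G Γ)).eqLocus (σ.comp (MonoidHom.snd G Γ))
  let p₁ : D →* G := (MonoidHom.fst G Γ).comp D.subtype
  have hp : Function.Surjective p₁ := fun a => by
    obtain ⟨b, hb⟩ := hs (j a)
    exact ⟨⟨(a, b), hb.symm⟩, rfl⟩
  have hK : p₁.ker ≤ Subgroup.center D := by
    rintro ⟨⟨a, b⟩, hab⟩ hk
    have ha : a = 1 := hk
    subst ha
    have hb : b ∈ σ.ker := by
      have : j 1 = σ b := hab
      rw [map_one] at this
      exact this.symm
    rw [Subgroup.mem_center_iff]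
    rintro ⟨⟨a', b'⟩, _⟩
    refine Subtype.ext (Prod.ext ?_ ?_)
    · show a' * 1 = 1 * a'
      simp
    · exact Subgroup.mem_center_iff.1 (hc hb) b'
  have himg : (commutator D).map p₁ = ⊤ := by
    rw [commutator_def, Subgroup.map_commutator, Subgroup.map_top_of_surjective p₁ hp, ← commutator_def, hperf]
  have hdec : ∀ d : D, ∃ n ∈ commutator D, ∃ k ∈ p₁.ker, d = n * k := fun d => by
    obtain ⟨n, hn, hnd⟩ : p₁ d ∈ (commutator D).map p₁ := himg ▸ Subgroup.mem_top _
    exact ⟨n, hn, n⁻¹ * d, by rw [MonoidHom.mem_ker, map_mul, map_inv, hnd, inv_mul_cancel],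
      (mul_inv_cancel_left n d).symm⟩
  have hperf' : commutator D = ⁅commutator D, commutator D⁆ :=
    le_antisymm (Schur.commutator_eq_of_central hK hdec) (Subgroup.commutator_le_left _ _)
  let τ : commutator D →* G := p₁.comp (commutator D).subtype
  have hτ : IsStemExtension τ := by
    refine ⟨fun a => ?_, fun k hk => ?_, ?_⟩
    · obtain ⟨n, hn, hna⟩ : a ∈ (commutator D).map p₁ := himg ▸ Subgroup.mem_top _
      exact ⟨⟨n, hn⟩, hna⟩
    · rw [Subgroup.mem_center_iff]
      intro g
      exact Subtype.ext (Subgroup.mem_center_iff.1 (hK (show (k : D) ∈ p₁.ker from hk)) g)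
    · intro k _
      have h : (commutator (commutator D)).map (commutator D).subtype = commutator D := by
        rw [commutator_def (commutator D), Subgroup.map_commutator, ← MonoidHom.range_eq_map,
          Subgroup.range_subtype]
        exact hperf'.symm
      obtain ⟨x, hx, hxk⟩ : (k : D) ∈ (commutator (commutator D)).map (commutator D).subtype := by
        rw [h]; exact k.2
      rwa [Subtype.ext hxk] at hx
  have hk := htriv _ τ hτ
  let e : commutator D ≃* G := MulEquiv.ofBijective τ ⟨(MonoidHom.ker_eq_bot_iff τ).1 hk, hτ.1⟩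
  refine ⟨(((MonoidHom.snd G Γ).comp D.subtype).comp (commutator D).subtype).comp e.symm.toMonoidHom, ?_⟩
  ext a
  have h1 : τ (e.symm a) = a := e.apply_symm_apply a
  have h2 : j ((e.symm a).1.1.1) = σ ((e.symm a).1.1.2) := (e.symm a).1.2
  show σ ((e.symm a).1.1.2) = j a
  rw [← h2]
  exact congrArg j h1

theorem exists_lift_P {Γ Q : Type} [Group Γ] [Group Q] [Finite Γ] (σ : Γ →* Q) (hs : Function.Surjective σ)
    (hc : σ.ker ≤ Subgroup.center Γ) (j : P →* Q) : ∃ f : P →* Γ, σ.comp f = j := by
  haveI := finite_P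
  exact exists_lift_central commutator_eq_top (fun Δ _ _ τ h => multiplier_P τ h) σ hs hc j

end Cfsg.Lib.J4Cert
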