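import Cfsg.Agent.J4Cert.Order

/-!
The representation as invertible matrices.
-/

set_option autoImplicit false

namespace Cfsg.Lib.J4Cert

open Cfsg

theorem exists_mok (g : Spor.J4) : ∃ A, MOK g A := by
  haveI := finite_J4
  have hg : g ∈ (⊤ : Subgroup Spor.J4).toSubmonoid := Subgroup.mem_top g
  rw [← PresentedGroup.closure_range_of jRels, Subgroup.closure_toSubmonoid_of_finite] at hg
  induction hg using Submonoid.closure_induction with
  | mem x hx =>
    obtain ⟨b, rfl⟩ := hx
    cases b
    · exact ⟨_, mok_gens.1⟩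
    · exact ⟨_, mok_gens.2.1⟩
    · exact ⟨_, mok_gens.2.2.2⟩
  | one => exact ⟨_, MOK.one⟩
  | mul x y _ _ hx hy =>
    obtain ⟨A, hA⟩ := hx
    obtain ⟨B, hB⟩ := hy
    exact ⟨_, hA.mul hB⟩

/-- A bit as an element of the field with two elements. -/
def b2 (x : Bool) : ZMod 2 := bif x then 1 else 0

theorem b2_xor (x y : Bool) : b2 (xor x y) = b2 x + b2 y := by
  cases x <;> cases y <;> decide

theorem va_bit : ∀ (A : List ℕ) (v j : ℕ), b2 ((J4Rep.va v A).testBit j) =
    ∑ i ∈ Finset.range A.length, b2 (v.testBit i) * b2 ((A.getD i 0).testBit j)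
  | [], v, j => by simp [J4Rep.va, b2]
  | r :: A, v, j => by
    rw [J4Rep.va, Nat.testBit_xor, b2_xor, va_bit A, List.length_cons, Finset.sum_range_succ', add_comm]
    congr 1
    · simp [Nat.testBit_succ]
    · rw [Nat.testBit_zero, List.getD_cons_zero]
      by_cases h : v % 2 = 1 <;> simp [h, b2]

/-- The unit vectors. -/
def unitVec (i : Fin 112) : J4Rep.Vec := ⟨2 ^ i.val, Nat.pow_lt_pow_right (by norm_num) i.2⟩

theorem va_unit : ∀ (A : List ℕ) (i : ℕ), i < A.length → J4Rep.va (2 ^ i) A = A.getD i 0
  | [], i, hi => by simp at hi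
  | r :: A, 0, _ => by simp [J4Rep.va, J4Rep.va_zero A]
  | r :: A, i + 1, hi => by
    rw [J4Rep.va, List.getD_cons_succ, ← va_unit A i (by simpa using hi), show 2 ^ (i + 1) = 2 * 2 ^ i from pow_succ' 2 i]
    simp

/-- The matrix of an element. -/
def matG (g : Spor.J4) : Matrix (Fin 112) (Fin 112) (ZMod 2) :=
  Matrix.of fun i j => b2 (((rhoG g).symm (unitVec i)).1.testBit j)

theorem matG_mul (g h : Spor.J4) : matG (g * h) = matG g * matG h := by
  obtain ⟨B, hB⟩ := exists_mok h
  have hl : B.length = 112 := by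
    have := hB.1
    simp only [okMat, Bool.and_eq_true] at this
    exact Nat.eq_of_beq_eq_true this.1
  ext i k
  have e : (rhoG (g * h)).symm (unitVec i) = (rhoG h).symm ((rhoG g).symm (unitVec i)) := by
    rw [map_mul]
    rfl
  rw [Matrix.mul_apply]
  simp only [matG, Matrix.of_apply]
  rw [e, hB.2, va_bit, hl, Finset.sum_range]
  refine Finset.sum_congr rfl fun j _ => ?_
  rw [← va_unit B j (hl.symm ▸ j.2)]
  exact congrArg (fun x : ℕ => _ * b2 (x.testBit k)) (hB.2 (unitVec j)).symm

theorem matG_one : matG 1 = 1 := by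
  ext i j
  simp only [matG, Matrix.of_apply, Matrix.one_apply, map_one]
  show b2 ((2 ^ i.val).testBit j) = _
  rw [Nat.testBit_two_pow]
  by_cases h : i = j
  · simp [h, b2]
  · rw [if_neg h, decide_eq_false (fun e => h (Fin.ext e))]
    rfl

/-- The representation by invertible matrices. -/
def toGL : Spor.J4 →* GL (Fin 112) (ZMod 2) :=
  MonoidHom.toHomUnits
    ({ toFun := matG, map_one' := matG_one, map_mul' := matG_mul } : Spor.J4 →* Matrix (Fin 112) (Fin 112) (ZMod 2))

theorem toGL_injective : Function.Injective toGL := by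
  rw [← MonoidHom.ker_eq_bot_iff, Subgroup.eq_bot_iff_forall]
  intro g hg
  have hm : matG g = 1 := congrArg Units.val (MonoidHom.mem_ker.1 hg)
  obtain ⟨A, hA⟩ := exists_mok g
  have hok := hA.1
  simp only [okMat, Bool.and_eq_true, List.all_eq_true, decide_eq_true_eq] at hok
  have hl := Nat.eq_of_beq_eq_true hok.1
  have e : A = J4Rep.idMat := by
    refine List.ext_getElem (by rw [hl, J4Rep.idMat, List.length_map, List.length_range]) fun i h1 h2 => ?_
    have hi : i < 112 := hl ▸ h1
    have hv := hA.2 (unitVec ⟨i, hi⟩)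
    rw [show (unitVec ⟨i, hi⟩).1 = 2 ^ i from rfl, va_unit A i h1, List.getD_eq_getElem _ _ h1] at hv
    rw [show J4Rep.idMat[i] = 2 ^ i by simp [J4Rep.idMat]]
    refine Nat.eq_of_testBit_eq fun j => ?_
    by_cases hj : j < 112
    · have := congrFun (congrFun hm ⟨i, hi⟩) ⟨j, hj⟩
      simp only [matG, Matrix.of_apply, Matrix.one_apply, hv, Fin.mk.injEq] at this
      rw [Nat.testBit_two_pow]
      by_cases hij : i = j
      · rw [if_pos hij] at this
        cases hb : A[i].testBit j
        · rw [hb] at this; exact absurd this (by decide)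
        · simp [hij]
      · rw [if_neg hij] at this
        cases hb : A[i].testBit j
        · simp [hij]
        · rw [hb] at this; exact absurd this (by decide)
    · have h1' := hok.2 A[i] (List.getElem_mem h1)
      rw [Nat.testBit_lt_two_pow (lt_of_lt_of_le h1' (Nat.pow_le_pow_right (by norm_num) (not_lt.1 hj))),
        Nat.testBit_two_pow]
      exact (decide_eq_false (by omega)).symm
  exact rhoG_injective ((e ▸ hA).rho_one.trans (map_one _).symm)

end Cfsg.Lib.J4Cert
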