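import Cfsg.Agent.J4Cert.Group

/-!
Fast products of the matrices of the representation and the matrices of the presented group.
-/

set_option autoImplicit false

namespace Cfsg.Lib.J4Cert

open Cfsg Cfsg.Lib.J4Rep

/-- One entry of a table of sums. -/
def ent (a b c d i : ℕ) : ℕ :=
  Nat.xor (bif Nat.testBit i 0 then a else 0) (Nat.xor (bif Nat.testBit i 1 then b else 0)
    (Nat.xor (bif Nat.testBit i 2 then c else 0) (bif Nat.testBit i 3 then d else 0)))

/-- The fields of width 112, packed. -/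
def packW : List ℕ → ℕ
  | [] => 0
  | a :: l => Nat.add a (Nat.shiftLeft (packW l) 112)

/-- The sums of four rows. -/
def tab4 (a b c d : ℕ) : ℕ :=
  packW [ent a b c d 0, ent a b c d 1, ent a b c d 2, ent a b c d 3, ent a b c d 4, ent a b c d 5, ent a b c d 6,
    ent a b c d 7, ent a b c d 8, ent a b c d 9, ent a b c d 10, ent a b c d 11, ent a b c d 12, ent a b c d 13,
    ent a b c d 14, ent a b c d 15]

/-- The tables of a matrix, four rows each. -/
def tabs4 : List ℕ → List ℕ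
  | a :: b :: c :: d :: A => tab4 a b c d :: tabs4 A
  | _ => []

/-- The product of a vector with a matrix given by tables. -/
def vt : List ℕ → ℕ → ℕ
  | [], _ => 0
  | p :: T, v => Nat.xor (Nat.land (Nat.shiftRight p (Nat.mul 112 (Nat.land v 15))) 0xffffffffffffffffffffffffffff)
      (vt T (Nat.shiftRight v 4))

/-- The fast product. -/
def mB (A B : List ℕ) : List ℕ :=
  (fun T => A.map (vt T)) (tabs4 B)

/-- The shape of a matrix. -/
def okMat (A : List ℕ) : Bool := Nat.beq A.length 112 && A.all fun r => decide (r < 2 ^ 112)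

theorem packW_get : ∀ (l : List ℕ), (∀ x ∈ l, x < 2 ^ 112) → ∀ i, packW l / (2 ^ 112) ^ i % 2 ^ 112 = l.getD i 0
  | [], _, i => by
    show 0 / _ % _ = _
    rw [Nat.zero_div, Nat.zero_mod]
    rfl
  | a :: l, h, i => by
    have ha := h a List.mem_cons_self
    have e : packW (a :: l) = a + 2 ^ 112 * packW l := by
      show a + packW l <<< 112 = _
      rw [Nat.shiftLeft_eq, mul_comm]
    cases i with
    | zero => rw [e, pow_zero, Nat.div_one, Nat.add_mul_mod_self_left, Nat.mod_eq_of_lt ha]; rfl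
    | succ i =>
      rw [List.getD_cons_succ, ← packW_get l (fun x hx => h x (List.mem_cons_of_mem a hx)) i, e, pow_succ' _ i,
        ← Nat.div_div_eq_div_mul, Nat.add_mul_div_left _ _ (Nat.two_pow_pos 112), Nat.div_eq_of_lt ha, zero_add]

theorem ent_lt {a b c d : ℕ} (ha : a < 2 ^ 112) (hb : b < 2 ^ 112) (hc : c < 2 ^ 112) (hd : d < 2 ^ 112) (i : ℕ) :
    ent a b c d i < 2 ^ 112 := by
  unfold ent
  refine Nat.xor_lt_two_pow ?_ (Nat.xor_lt_two_pow ?_ (Nat.xor_lt_two_pow ?_ ?_)) <;>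
    · cases Nat.testBit i _ <;> simp <;> assumption

theorem tab4_get {a b c d : ℕ} (ha : a < 2 ^ 112) (hb : b < 2 ^ 112) (hc : c < 2 ^ 112) (hd : d < 2 ^ 112) {i : ℕ}
    (hi : i < 16) :
    Nat.land (Nat.shiftRight (tab4 a b c d) (Nat.mul 112 i)) 0xffffffffffffffffffffffffffff = ent a b c d i := by
  show (tab4 a b c d >>> (112 * i)) &&& 0xffffffffffffffffffffffffffff = _
  rw [show (0xffffffffffffffffffffffffffff : ℕ) = 2 ^ 112 - 1 by norm_num, Nat.and_two_pow_sub_one_eq_mod,
    Nat.shiftRight_eq_div_pow, pow_mul]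
  refine (packW_get _ (fun x hx => ?_) i).trans ?_
  · simp only [List.mem_cons, List.not_mem_nil, or_false] at hx
    rcases hx with rfl | rfl | rfl | rfl | rfl | rfl | rfl | rfl | rfl | rfl | rfl | rfl | rfl | rfl | rfl | rfl <;>
      exact ent_lt ha hb hc hd _
  · interval_cases i <;> rfl

theorem va_four (a b c d : ℕ) (A : List ℕ) (v : ℕ) :
    va v (a :: b :: c :: d :: A) = Nat.xor (ent a b c d (Nat.land v 15)) (va (Nat.shiftRight v 4) A) := by
  show _ = (ent a b c d (v &&& 15)) ^^^ (va (v >>> 4) A)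
  have hb : ∀ k < 4, (v &&& 15).testBit k = decide (v / 2 ^ k % 2 = 1) := by
    intro k hk
    rw [Nat.testBit_and, show (15 : ℕ) = 2 ^ 4 - 1 from rfl, Nat.testBit_two_pow_sub_one, decide_eq_true hk,
      Bool.and_true, Nat.testBit_eq_decide_div_mod_eq]
  simp only [va, ent, hb 0 (by norm_num), hb 1 (by norm_num), hb 2 (by norm_num), hb 3 (by norm_num),
    Nat.shiftRight_eq_div_pow, Nat.div_div_eq_div_mul, pow_zero, Nat.div_one, Bool.cond_decide]
  norm_num [Nat.xor_assoc]

theorem vt_eq : ∀ (B : List ℕ) (v : ℕ), (∀ r ∈ B, r < 2 ^ 112) → B.length % 4 = 0 → vt (tabs4 B) v = va v B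
  | [], v, _, _ => rfl
  | [_], _, _, h => by simp at h
  | [_, _], _, _, h => by simp at h
  | [_, _, _], _, _, h => by simp at h
  | a :: b :: c :: d :: A, v, hB, h => by
    simp only [List.forall_mem_cons] at hB
    obtain ⟨ha, hb, hc, hd, hA⟩ := hB
    rw [va_four, tabs4, vt, tab4_get ha hb hc hd (i := Nat.land v 15) (Nat.lt_succ_of_le Nat.and_le_right),
      vt_eq A (Nat.shiftRight v 4) hA (by simp only [List.length_cons] at h; omega)]

theorem mB_eq {A B : List ℕ} (hB : okMat B = true) : mB A B = mmul A B := by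
  simp only [okMat, Bool.and_eq_true, List.all_eq_true, decide_eq_true_eq] at hB
  show A.map (vt (tabs4 B)) = A.map fun r => va r B
  exact List.map_congr_left fun v _ => vt_eq B v hB.2 (by rw [Nat.eq_of_beq_eq_true hB.1])

/-- The matrix of an element of the presented group. -/
def MOK (g : Spor.J4) (A : List ℕ) : Prop := okMat A = true ∧ ∀ v : Vec, ((rhoG g).symm v).1 = va v.1 A

theorem okMat_mmul {A B : List ℕ} (hA : okMat A = true) (hB : okMat B = true) : okMat (mmul A B) = true := by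
  simp only [okMat, Bool.and_eq_true, List.all_eq_true, decide_eq_true_eq] at hA hB ⊢
  refine ⟨by simpa [mmul] using hA.1, fun r hr => ?_⟩
  obtain ⟨q, -, rfl⟩ := List.mem_map.1 hr
  exact va_lt B q (by simpa [List.all_eq_true] using hB.2)

theorem MOK.mul {g h : Spor.J4} {A B : List ℕ} (hg : MOK g A) (hh : MOK h B) : MOK (g * h) (mB A B) := by
  rw [mB_eq hh.1]
  refine ⟨okMat_mmul hg.1 hh.1, fun v => ?_⟩
  rw [map_mul, ← va_mmul, ← hg.2 v]
  exact hh.2 _

theorem MOK.one : MOK 1 idMat := ⟨by decide +kernel, fun v => by rw [map_one, va_idMat v.2]; rfl⟩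

theorem MOK.rho_eq {g h : Spor.J4} {A : List ℕ} (hg : MOK g A) (hh : MOK h A) : rhoG g = rhoG h := by
  have : (rhoG g).symm = (rhoG h).symm := Equiv.ext fun v => Subtype.ext ((hg.2 v).trans (hh.2 v).symm)
  rw [← Equiv.symm_symm (rhoG g), this, Equiv.symm_symm]

theorem MOK.rho_one {g : Spor.J4} (hg : MOK g idMat) : rhoG g = 1 := by
  rw [hg.rho_eq MOK.one, map_one]

theorem MOK.ne {g : Spor.J4} {A : List ℕ} (hg : MOK g A) {v : ℕ} (hv : v < 2 ^ 112) (h : va v A ≠ v) :
    rhoG g ≠ 1 := by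
  intro h1
  have := hg.2 ⟨v, hv⟩
  rw [h1] at this
  exact h this.symm

theorem mok_gens : MOK gx matX ∧ MOK gy matY ∧ MOK gy⁻¹ matYi ∧ MOK gt matT := by
  refine ⟨⟨by decide +kernel, fun v => ?_⟩, ⟨by decide +kernel, fun v => ?_⟩, ⟨by decide +kernel, fun v => ?_⟩,
    ⟨by decide +kernel, fun v => ?_⟩⟩
  · rw [gx, rhoG_mk]; exact ok_x v
  · rw [gy, rhoG_mk]; exact ok_y v
  · rw [gy, ← map_inv, rhoG_mk]; exact ok_yi v
  · rw [gt, rhoG_mk]; exact ok_t v

/-- The letters with their matrices. -/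
def letM : ℕ → List ℕ
  | 0 => matX
  | 1 => matY
  | 2 => matYi
  | _ => matT

/-- The letters. -/
def letG : ℕ → Spor.J4
  | 0 => gx
  | 1 => gy
  | 2 => gy⁻¹
  | _ => gt

theorem letM_ok (l : ℕ) : MOK (letG l) (letM l) := by
  match l with
  | 0 => exact mok_gens.1
  | 1 => exact mok_gens.2.1
  | 2 => exact mok_gens.2.2.1
  | n + 3 => exact mok_gens.2.2.2

/-- Each matrix is a product of two earlier ones; the first four are the letters. -/
def progOK (M : ℕ → List ℕ) : ℕ → List (ℕ × ℕ) → Bool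
  | _, [] => true
  | k, (a, b) :: l =>
    Nat.blt a k && Nat.blt b k && (mB (M a) (M b) == M k) && progOK M (k + 1) l

theorem progOK_sound {M : ℕ → List ℕ} (h0 : ∀ l < 4, M l = letM l) : ∀ (l : List (ℕ × ℕ)) (k : ℕ),
    progOK M k l = true → (∀ j < k, ∃ g, MOK g (M j)) → ∀ j < k + l.length, ∃ g, MOK g (M j)
  | [], k, _, hk, j, hj => hk j hj
  | (a, b) :: l, k, h, hk, j, hj => by
    simp only [progOK, Bool.and_eq_true, Nat.blt_eq, beq_iff_eq] at h
    obtain ⟨⟨⟨h1, h2⟩, h3⟩, h4⟩ := h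
    refine progOK_sound h0 l (k + 1) h4 (fun i hi => ?_) j (by simp only [List.length_cons] at hj; omega)
    rcases Nat.lt_succ_iff_lt_or_eq.1 hi with hi | rfl
    · exact hk i hi
    · obtain ⟨g, hg⟩ := hk a h1
      obtain ⟨g', hg'⟩ := hk b h2
      exact ⟨g * g', h3 ▸ hg.mul hg'⟩

end Cfsg.Lib.J4Cert
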