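import Cfsg.Agent.J4Cert.Mat
import Cfsg.Agent.J4Cert.Data.Mats

/-!
The listed matrices are in the image.
-/

set_option autoImplicit false
set_option maxRecDepth 8000
set_option Elab.async false

namespace Cfsg.Lib.J4Cert

/-- The matrices by index. -/
def matAt (k : ℕ) : List ℕ := matTab.get k

theorem matAt_letters : ∀ l < 4, matAt l = letM l := by decide +kernel

theorem matProg0_ok : progOK matAt 4 matProg0 = true := by decide +kernel

theorem matProg1_ok : progOK matAt 84 matProg1 = true := by decide +kernel

theorem matProg2_ok : progOK matAt 164 matProg2 = true := by decide +kernel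

theorem matProg3_ok : progOK matAt 244 matProg3 = true := by decide +kernel

theorem matProg4_ok : progOK matAt 324 matProg4 = true := by decide +kernel

theorem mats_mem : ∀ j < 398, ∃ g, MOK g (matAt j) := by
  have h0 : ∀ j < 4, ∃ g, MOK g (matAt j) := fun j hj => ⟨letG j, matAt_letters j hj ▸ letM_ok j⟩
  have h1 : ∀ j < 84, ∃ g, MOK g (matAt j) :=
    progOK_sound matAt_letters matProg0 4 matProg0_ok h0
  have h2 : ∀ j < 164, ∃ g, MOK g (matAt j) :=
    progOK_sound matAt_letters matProg1 84 matProg1_ok h1
  have h3 : ∀ j < 244, ∃ g, MOK g (matAt j) :=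
    progOK_sound matAt_letters matProg2 164 matProg2_ok h2
  have h4 : ∀ j < 324, ∃ g, MOK g (matAt j) :=
    progOK_sound matAt_letters matProg3 244 matProg3_ok h3
  have h5 : ∀ j < 398, ∃ g, MOK g (matAt j) :=
    progOK_sound matAt_letters matProg4 324 matProg4_ok h4
  exact h5

end Cfsg.Lib.J4Cert
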