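import Cfsg.Agent.J4Cert.Rels
import Cfsg.Agent.J4Cert.Data.bFacts
import Cfsg.Agent.J4Cert.Data.bSteps

/-!
The certificate of the central extensions.
-/

set_option autoImplicit false
set_option maxRecDepth 8000
set_option Elab.async false

namespace Cfsg.Lib.J4Cert

/-- The certificate. -/
def bC : Crt := mkCrt 1 false bDefs bFacts bSrc

/-- The facts about the central elements. -/
def bBits : Bool :=
  [(52, 2, true), (53, 2, false), (56, 3, false)].all fun e : ℕ × ℤ × Bool =>
    let F := bFacts.get e.1
    Nat.beq F.r 0 && Nat.beq F.i F.j && Nat.beq F.h idp && zeq F.b e.2.1 && (F.x == e.2.2) && Nat.blt e.1 bLen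

theorem bC_ok : bC.okRange 0 bLen = true := by decide +kernel

theorem bBits_ok : bBits = true := by decide +kernel

end Cfsg.Lib.J4Cert
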