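import Cfsg.Agent.J4Cert.HBound
import Cfsg.Agent.J4Cert.Orders

/-!
The order of the presented group and faithfulness of the representation.
-/

set_option autoImplicit false

namespace Cfsg.Lib.J4Cert

open Cfsg Cfsg.Lib.J4Pres Cfsg.Lib.CosetTable

instance : Finite J4Rep.Vec := (Set.finite_lt_nat (2 ^ 112)).to_subtype

attribute [local irreducible] pm rel idp ap cl eBasis

theorem va_rows_lt {l v : ℕ} (hl : l < 3) : J4Rep.va v (eRows.getD l []) < 2 ^ 11 := by
  refine J4Rep.va_lt _ _ ?_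
  exact (by decide +kernel : ∀ l < 3, ((eRows.getD l []).all fun r => decide (r < 2 ^ 11)) = true) l hl

theorem ev_zero {Q : Type*} [Group Q] : ∀ l : List Q, ev l 0 = 1 := fun l => by induction l <;> simp_all [ev]

/-- The elementary abelian subgroup of the image. -/
noncomputable def EBasis.sub (B : EBasis) : Subgroup (Equiv.Perm J4Rep.Vec) where
  carrier := {q | ∃ v < 2 ^ 11, ev B.img v = q}
  one_mem' := ⟨0, Nat.two_pow_pos 11, ev_zero _⟩
  mul_mem' := by
    rintro _ _ ⟨v, hv, rfl⟩ ⟨w, hw, rfl⟩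
    exact ⟨v ^^^ w, Nat.xor_lt_two_pow hv hw, ev_xor B.comm v w⟩
  inv_mem' := by
    rintro _ ⟨v, hv, rfl⟩
    refine ⟨v, hv, (inv_eq_of_mul_eq_one_left ?_).symm⟩
    rw [← ev_xor B.comm, Nat.xor_self, ev_zero]

theorem EBasis.sub_conj (B : EBasis) (a : P) :
    ∀ q ∈ B.sub, (rhoG (jHom a))⁻¹ * q * rhoG (jHom a) ∈ B.sub := by
  have h : ∀ a ∈ Subgroup.closure (im '' Set.Iio 3), ∀ q ∈ B.sub,
      (rhoG (jHom a))⁻¹ * q * rhoG (jHom a) ∈ B.sub ∧ rhoG (jHom a) * q * (rhoG (jHom a))⁻¹ ∈ B.sub := by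
    intro a ha
    induction ha using Subgroup.closure_induction with
    | mem x hx =>
      obtain ⟨l, hl, rfl⟩ := hx
      rintro _ ⟨v, hv, rfl⟩
      rw [jHom_letG hl]
      refine ⟨⟨_, va_rows_lt hl, (B.conj hl v).symm⟩, ?_⟩
      have hi : invL l < 3 := by
        have : l < 3 := hl
        interval_cases l <;> simp [invL]
      refine ⟨_, va_rows_lt hi, (B.conj hi v).symm.trans ?_⟩
      rw [letG_inv, map_inv, inv_inv]
    | one => intro q hq; simpa using hq
    | mul x y _ _ hx hy =>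
      intro q hq
      constructor
      · have := (hy _ (hx q hq).1).1
        simpa [mul_assoc] using this
      · have := (hx _ (hy q hq).2).2
        simpa [mul_assoc] using this
    | inv x _ hx =>
      intro q hq
      simpa using (hx q hq).symm
  exact fun q hq => (h a (closure_gens ▸ Subgroup.mem_top a) q hq).1

theorem EBasis.sub_inter (B : EBasis) {a : P} (h : rhoG (jHom a) ∈ B.sub) : a = 1 := by
  haveI := simple_P
  let N : Subgroup P := B.sub.comap (rhoG.comp jHom)
  haveI : N.Normal := ⟨fun n hn g => by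
    show rhoG (jHom (g * n * g⁻¹)) ∈ B.sub
    have := B.sub_conj g⁻¹ _ hn
    simpa [mul_assoc] using this⟩
  rcases (‹N.Normal›).eq_bot_or_eq_top with hb | ht
  · have : a ∈ N := h
    rwa [hb, Subgroup.mem_bot] at this
  · exfalso
    have hcomm : ∀ x y : P, x * y = y * x := by
      intro x y
      obtain ⟨v, -, hv⟩ := (ht ▸ Subgroup.mem_top x : x ∈ N)
      obtain ⟨w, -, hw⟩ := (ht ▸ Subgroup.mem_top y : y ∈ N)
      refine rho_jHom_injective ?_
      rw [map_mul, map_mul, ← hv, ← hw, ← ev_xor B.comm, ← ev_xor B.comm, Nat.xor_comm]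
    letI : CommGroup P := { (inferInstance : Group P) with mul_comm := hcomm }
    haveI := finite_P
    have := IsSimpleGroup.prime_card (α := P)
    rw [card_P] at this
    norm_num at this

theorem EBasis.sub_le (B : EBasis) : ∀ v, ev B.img v ∈ KJ.map rhoG := by
  intro v
  refine ⟨ev B.g v, ?_, rho_ev _ v⟩
  have : ∀ (l : List Spor.J4), (∀ x ∈ l, x ∈ KJ) → ∀ v, ev l v ∈ KJ := by
    intro l
    induction l with
    | nil => intro _ v; exact KJ.one_mem
    | cons g l ih =>
      intro h v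
      simp only [List.forall_mem_cons] at h
      rw [ev]
      refine KJ.mul_mem ?_ (ih h.2 _)
      split
      · exact h.1
      · exact KJ.one_mem
  exact this _ B.mem v

theorem KR_lower : 2048 * 244823040 ≤ Nat.card (KJ.map rhoG) := by
  obtain ⟨B⟩ := exists_basis
  let F : Fin 2048 × P → KJ.map rhoG := fun z =>
    ⟨ev B.img z.1 * rhoG (jHom z.2), mul_mem (B.sub_le _) ⟨_, Subgroup.subset_closure (Or.inl ⟨z.2, rfl⟩), rfl⟩⟩
  have hF : Function.Injective F := by
    rintro ⟨v, a⟩ ⟨w, b⟩ h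
    have h' : ev B.img v * rhoG (jHom a) = ev B.img w * rhoG (jHom b) := congrArg Subtype.val h
    have e : rhoG (jHom (b * a⁻¹)) = ev B.img ((w : ℕ) ^^^ v) := by
      have hw : ev B.img w * ev B.img w = 1 := by rw [← ev_xor B.comm, Nat.xor_self, ev_zero]
      rw [map_mul, map_inv, map_mul, map_inv, mul_inv_eq_iff_eq_mul, ev_xor B.comm, mul_assoc, h', ← mul_assoc, hw,
        one_mul]
    have hab := B.sub_inter (a := b * a⁻¹) ⟨_, Nat.xor_lt_two_pow w.2 v.2, e.symm⟩
    rw [hab, map_one, map_one] at e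
    have h0 := B.eq_zero (Nat.xor_lt_two_pow (n := 11) w.2 v.2) e.symm
    rw [Nat.xor_eq_zero_iff] at h0
    exact Prod.ext (Fin.ext h0.symm) (mul_inv_eq_one.1 hab).symm
  have := Nat.card_le_card_of_injective F hF
  rwa [Nat.card_prod, card_P, Nat.card_fin] at this

theorem HJ_le : HJ ≤ KJ := by
  rintro _ ⟨a, rfl⟩
  exact Subgroup.subset_closure (Or.inl ⟨a, rfl⟩)

theorem card_KJ : Finite KJ ∧ Nat.card KJ = 2048 * 244823040 ∧ Nat.card (KJ.map rhoG) = 2048 * 244823040 := by
  have hH : Nat.card HJ = 244823040 := by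
    rw [← card_P]
    exact (Nat.card_congr (MonoidHom.ofInjective jHom_injective).toEquiv).symm
  have h1 := Subgroup.card_mul_index (HJ.subgroupOf KJ)
  rw [Nat.card_congr (Subgroup.subgroupOfEquivOfLe HJ_le).toEquiv, hH] at h1
  obtain ⟨h2, h3⟩ := h_index
  rw [Subgroup.relIndex] at h2 h3
  haveI hfin : Finite KJ := Nat.finite_of_card_ne_zero (by rw [← h1]; exact Nat.mul_ne_zero (by norm_num) h2)
  have hmap : Nat.card (KJ.map rhoG) ≤ Nat.card KJ :=
    Nat.card_le_card_of_surjective (rhoG.subgroupMap KJ) (rhoG.subgroupMap_surjective KJ)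
  have := KR_lower
  refine ⟨hfin, ?_, ?_⟩ <;> nlinarith

theorem finite_J4 : Finite Spor.J4 := by
  haveI := card_KJ.1
  exact Nat.finite_of_card_ne_zero (by
    rw [← Subgroup.card_mul_index KJ]
    exact Nat.mul_ne_zero (Nat.card_pos.ne') index_KJ.1)

theorem card_range_dvd : 86775571046077562880 ∣ Nat.card rhoG.range := by
  haveI : Finite rhoG.range := inferInstance
  have hK : 2048 * 244823040 ∣ Nat.card rhoG.range := card_KJ.2.2 ▸ Subgroup.card_dvd_of_le (by
    rintro _ ⟨g, -, rfl⟩; exact ⟨g, rfl⟩)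
  have hpr : ∀ {k p : ℕ}, p.Prime → k < 398 → ordOK k p = true → p ∣ Nat.card rhoG.range := by
    intro k p hp hk h
    obtain ⟨g, -, hg⟩ := exists_order hp hk h
    rw [← hg]
    exact Subgroup.orderOf_coe (H := rhoG.range) ⟨rhoG g, g, rfl⟩ ▸ orderOf_dvd_natCard _
  obtain ⟨h29, h31, h37, h43⟩ := primes_ok
  have he := eleven_ok
  simp only [elevenOK, Bool.and_eq_true, beq_iff_eq] at he
  obtain ⟨⟨⟨⟨⟨ha, hb⟩, hc⟩, e1⟩, e2⟩, e3⟩ := he
  have p11 : Nat.Prime 11 := by norm_num
  obtain ⟨a, hA, oa⟩ := exists_order p11 (by norm_num) ha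
  obtain ⟨b, hB, ob⟩ := exists_order p11 (by norm_num) hb
  obtain ⟨c, hC, oc⟩ := exists_order p11 (by norm_num) hc
  have h11 : 11 ^ 3 ∣ Nat.card rhoG.range := by
    have hm : ∀ g, rhoG g ∈ rhoG.range := fun g => ⟨g, rfl⟩
    refine card_cube p11 (a := ⟨_, hm a⟩) (b := ⟨_, hm b⟩) (c := ⟨_, hm c⟩) ?_ ?_ ?_ ?_ ?_ ?_
    · rw [← Subgroup.orderOf_coe]; exact oa
    · exact Subtype.ext (by simpa [← ob] using pow_orderOf_eq_one (rhoG b))
    · rw [← Subgroup.orderOf_coe]; exact oc
    · refine Subtype.ext ?_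
      show rhoG a * rhoG b = rhoG b * rhoG a * rhoG c
      rw [← map_mul, ← map_mul, ← map_mul]
      exact (hA.mul hB).rho_eq (e1 ▸ (hB.mul hA).mul hC)
    · refine Subtype.ext ?_
      show rhoG a * rhoG c = rhoG c * rhoG a
      rw [← map_mul, ← map_mul]
      exact (hA.mul hC).rho_eq (e2 ▸ hC.mul hA)
    · refine Subtype.ext ?_
      show rhoG b * rhoG c = rhoG c * rhoG b
      rw [← map_mul, ← map_mul]
      exact (hB.mul hC).rho_eq (e3 ▸ hC.mul hB)
  have := Nat.lcm_dvd (Nat.lcm_dvd (Nat.lcm_dvd (Nat.lcm_dvd (Nat.lcm_dvd hK h11)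
    (hpr (by norm_num) (by norm_num) h29)) (hpr (by norm_num) (by norm_num) h31))
    (hpr (by norm_num) (by norm_num) h37)) (hpr (by norm_num) (by norm_num) h43)
  refine dvd_trans (dvd_of_eq ?_) this
  decide +kernel

theorem card_J4 : Nat.card Spor.J4 = 86775571046077562880 ∧ Nat.card rhoG.range = 86775571046077562880 := by
  haveI := finite_J4
  have h1 := Nat.card_le_card_of_surjective rhoG.rangeRestrict rhoG.rangeRestrict_surjective
  have h2 := Nat.le_of_dvd Nat.card_pos card_range_dvd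
  have h3 := Subgroup.card_mul_index KJ
  rw [card_KJ.2.1] at h3
  have h4 := Nat.mul_le_mul_left (2048 * 244823040) index_KJ.2
  omega

theorem index_KJ_eq : KJ.index = 173067389 := by
  have h3 := Subgroup.card_mul_index KJ
  rw [card_KJ.2.1, card_J4.1] at h3
  omega

theorem rhoG_injective : Function.Injective rhoG := by
  haveI := finite_J4
  have hb : Function.Bijective rhoG.rangeRestrict :=
    (Nat.bijective_iff_surjective_and_card _).2 ⟨rhoG.rangeRestrict_surjective, card_J4.1.trans card_J4.2.symm⟩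
  intro a b h
  exact hb.1 (Subtype.ext h)

end Cfsg.Lib.J4Cert
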