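import Cfsg.Agent.J4Cert.Trio
import Cfsg.Agent.J4Cert.Rels

/-!
The twisting character of a lift of the involution, and the reversal of the three conjugates.
-/

set_option autoImplicit false
set_option maxRecDepth 8000

namespace Cfsg.Lib.J4Cert

open Cfsg.Lib.J4Pres Cfsg.Lib.CosetTable

/-- The inverse of the second generator, as a word. -/
def wiWord : List ℕ := [2, 0, 2, 0, 2, 0, 1, 0, 1, 0, 2, 0, 2]

/-- The first word of the relation. -/
def kWord1 : List ℕ := [0, 1, 0, 2, 0, 2, 0, 1, 0, 1, 0, 1, 0, 2, 0, 2, 0]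
/-- The second word of the relation. -/
def kWord2 : List ℕ := [1, 1, 0, 2, 0, 2, 0, 2, 0, 2, 0, 2, 0, 1, 1]

/-- The packed letters of the stabiliser. -/
def tLet : ℕ → ℕ
  | 0 => let8 0
  | 1 => wp wWord
  | _ => wp wiWord

/-- The packed product. -/
def tPack : List ℕ → ℕ
  | [] => idp
  | l :: w => pm (tLet l) (tPack w)

/-- The letters of the stabiliser. -/
def tGen : ℕ → P
  | 0 => px
  | 1 => wP
  | _ => wP⁻¹

/-- The word of the first conjugator of the triple. -/
def aWord (i : ℕ) : List ℕ := [1, 0, 2, 0, 1, 0, 2, 0] ++ List.replicate i 1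
/-- The reversing element. -/
def sWord : List ℕ := [0, 1, 0, 2, 0, 1, 0, 2] ++ wWord ++ wWord ++ aWord 0

/-- The reversing element permutes the three trios. -/
def revOK : Bool :=
  (trioPar (pm (wp (aWord 0)) (wp sWord)) (wp (aWord 0)) == some false) &&
    (trioPar (pm (wp (aWord 1)) (wp sWord)) (wp (aWord 2)) == some false) &&
    (trioPar (pm (wp (aWord 2)) (wp sWord)) (wp (aWord 1)) == some false)

/-- The relation between the two words. -/
def kapOK : Bool :=
  Nat.beq (tPack kWord1) (tPack kWord2) && Nat.beq (pm (wp wiWord) (wp wWord)) idp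

attribute [local irreducible] pm rel idp ap cl

theorem revOK_ok : revOK = true := by decide +kernel

theorem kapOK_ok : kapOK = true := by decide +kernel

theorem tPack_el : ∀ w : List ℕ, El (tPack w) (w.map tGen).prod
  | [] => by simpa [tPack] using El.one
  | l :: w => by
    have hl : El (tLet l) (tGen l) := by
      have hk := kapOK_ok
      simp only [kapOK, Bool.and_eq_true] at hk
      have hw : El (wp wWord) wP := wval_wWord ▸ wp_el wWord
      match l with
      | 0 => exact base_gen.1
      | 1 => exact hw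
      | n + 2 => exact hw.inv (Nat.eq_of_beq_eq_true hk.2)
    rw [List.map_cons, List.prod_cons]
    exact hl.mul (tPack_el w)

theorem kWords_eq : (kWord1.map tGen).prod = (kWord2.map tGen).prod := by
  have hk := kapOK_ok
  simp only [kapOK, Bool.and_eq_true] at hk
  exact (tPack_el kWord1).unique (Nat.eq_of_beq_eq_true hk.1 ▸ tPack_el kWord2)

variable {X : Type*} [Group X] (f : P →* X) (t : X)

/-- An element moves the involution by a central element. -/
def Tw (s : P) (c : X) : Prop := (∀ g, g * c = c * g) ∧ t * f s = f s * t * c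

variable {f t}

theorem Tw.one : Tw f t 1 1 := ⟨fun g => by simp, by simp⟩

theorem Tw.mul {a b : P} {c d : X} (ha : Tw f t a c) (hb : Tw f t b d) : Tw f t (a * b) (c * d) := by
  refine ⟨fun g => by rw [← mul_assoc, ha.1, mul_assoc, hb.1, mul_assoc], ?_⟩
  calc t * f (a * b) = t * f a * f b := by rw [map_mul, mul_assoc]
    _ = f a * t * (c * f b) := by rw [ha.2, mul_assoc]
    _ = f a * (t * f b) * c := by rw [← ha.1 (f b)]; simp only [mul_assoc]
    _ = f a * (f b * t * d) * c := by rw [hb.2]
    _ = f (a * b) * t * (c * d) := by rw [map_mul, ← ha.1 d]; simp only [mul_assoc]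

theorem Tw.inv {a : P} {c : X} (ha : Tw f t a c) : Tw f t a⁻¹ c⁻¹ := by
  refine ⟨fun g => (Commute.inv_right (ha.1 g)).eq, ?_⟩
  have hc : ∀ g, g * c⁻¹ = c⁻¹ * g := fun g => (Commute.inv_right (ha.1 g)).eq
  rw [map_inv]
  calc t * (f a)⁻¹ = (f a)⁻¹ * (f a * t * c) * (c⁻¹ * (f a)⁻¹) := by group
    _ = (f a)⁻¹ * (t * f a) * ((f a)⁻¹ * c⁻¹) := by rw [← ha.2, ← hc (f a)⁻¹]
    _ = (f a)⁻¹ * t * c⁻¹ := by group

theorem Tw.word {cg : ℕ → X} (h : ∀ l, Tw f t (tGen l) (cg l)) :
    ∀ w : List ℕ, Tw f t (w.map tGen).prod (w.map cg).prod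
  | [] => by simpa using Tw.one
  | l :: w => by
    rw [List.map_cons, List.map_cons, List.prod_cons, List.prod_cons]
    exact (h l).mul (Tw.word h w)

theorem Tw.unique {s : P} {c d : X} (h : Tw f t s c) (h' : Tw f t s d) : c = d :=
  mul_left_cancel (h.2.symm.trans h'.2)

/-- The first generator gives an involution, and both generators give the same element. -/
theorem Tw.gens {a b : X} (hx : Tw f t px a) (hw : Tw f t wP b) : a * a = 1 ∧ b = a := by
  have hx2 : px * px = 1 := by rw [← pow_two]; exact relExprs_one _ (by simp [relExprs])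
  have ha : a * a = 1 := by
    have := hx.mul hx
    rw [hx2] at this
    exact this.unique Tw.one
  refine ⟨ha, ?_⟩
  let cg : ℕ → X := fun l => match l with
    | 0 => a
    | 1 => b
    | _ => b⁻¹
  have hg : ∀ l, Tw f t (tGen l) (cg l) := fun l => match l with
    | 0 => hx
    | 1 => hw
    | _ + 2 => hw.inv
  have e : (kWord1.map cg).prod = (kWord2.map cg).prod :=
    (Tw.word hg kWord1).unique (kWords_eq ▸ Tw.word hg kWord2)
  simp only [kWord1, kWord2, List.map_cons, List.map_nil, List.prod_cons, List.prod_nil, mul_one, cg] at e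
  have hab : Commute a b := (hx.1 b).symm
  have ea : ∀ u : X, a * (a * u) = u := fun u => by rw [← mul_assoc, ha, one_mul]
  have eb : ∀ u : X, b * (a * u) = a * (b * u) := fun u => by rw [← mul_assoc, ← hab.eq, mul_assoc]
  have ec : ∀ u : X, b⁻¹ * (a * u) = a * (b⁻¹ * u) := fun u => by rw [← mul_assoc, ← hab.inv_right.eq, mul_assoc]
  have ec' : b⁻¹ * a = a * b⁻¹ := hab.inv_right.eq.symm
  simp only [eb, ec, ec', hab.eq.symm, ea, mul_inv_cancel_left, inv_mul_cancel_left, mul_inv_cancel,
    inv_mul_cancel, mul_one] at e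
  calc b = b * 1 := (mul_one b).symm
    _ = a := by
      have h2 : b⁻¹ = a := by simpa using e.symm
      rw [← inv_inv b, h2, inv_eq_of_mul_eq_one_right ha, mul_one]

/-- The conjugate of the involution by an element of the small group. -/
def conjT (f : P →* X) (t : X) (a : P) : X := (f a)⁻¹ * t * f a

theorem conjT_mul (a s : P) : conjT f t (a * s) = (f s)⁻¹ * conjT f t a * f s := by
  simp only [conjT, map_mul, mul_inv_rev, mul_assoc]

theorem conjT_of_par {χ : X}
    (htw : ∀ (s : P) (e : ℕ × Bool), e ∈ trio6 → Blk colT e.1 s → t * f s = f s * t * (bif e.2 then χ else 1))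
    {u v : ℕ} {a b : P} (hu : El u a) (hv : El v b) (h : trioPar u v = some false) :
    conjT f t a = conjT f t b := by
  have hm := findPar_sound h
  rw [graphsLit_eq, graphs6, List.mem_map] at hm
  obtain ⟨e, he, he'⟩ := hm
  rw [Prod.mk.injEq] at he'
  have hh := htw _ e he (Blk.of_rel hu hv he'.1.symm)
  rw [he'.2, cond_false, mul_one] at hh
  calc conjT f t a = (f b)⁻¹ * ((f (a * b⁻¹))⁻¹ * (t * f (a * b⁻¹))) * f b := by
        simp only [conjT, map_mul, map_inv]; group
    _ = conjT f t b := by rw [hh, conjT]; group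

/-- The triple of conjugates is its own reversal up to a central square. -/
theorem triple_sq {χ : X}
    (htw : ∀ (s : P) (e : ℕ × Bool), e ∈ trio6 → Blk colT e.1 s → t * f s = f s * t * (bif e.2 then χ else 1))
    (htt : ∀ g, g * (t * t) = t * t * g) {z : X} (hz : ∀ g, g * z = z * g)
    (h : conjT f t (wval im (aWord 2)) * conjT f t (wval im (aWord 1)) * conjT f t (wval im (aWord 0)) = z) :
    z * z = t * t * (t * t) * (t * t) := by
  have hr := revOK_ok
  simp only [revOK, Bool.and_eq_true, beq_iff_eq] at hr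
  obtain ⟨⟨r0, r1⟩, r2⟩ := hr
  have e0 := conjT_of_par htw ((wp_el (aWord 0)).mul (wp_el sWord)) (wp_el _) r0
  have e1 := conjT_of_par htw ((wp_el (aWord 1)).mul (wp_el sWord)) (wp_el _) r1
  have e2 := conjT_of_par htw ((wp_el (aWord 2)).mul (wp_el sWord)) (wp_el _) r2
  rw [conjT_mul] at e0 e1 e2
  have sq : ∀ a : P, conjT f t a * conjT f t a = t * t := fun a => by
    calc conjT f t a * conjT f t a = (f a)⁻¹ * (t * t * f a) := by simp only [conjT]; group
      _ = t * t := by rw [← htt (f a), inv_mul_cancel_left]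
  have f0 := sq (wval im (aWord 0))
  have f1 := sq (wval im (aWord 1))
  have f2 := sq (wval im (aWord 2))
  generalize conjT f t (wval im (aWord 0)) = A0 at *
  generalize conjT f t (wval im (aWord 1)) = A1 at *
  generalize conjT f t (wval im (aWord 2)) = A2 at *
  have hconj : z = A1 * A2 * A0 := by
    calc z = (f (wval im sWord))⁻¹ * (f (wval im sWord) * z) := by rw [inv_mul_cancel_left]
      _ = (f (wval im sWord))⁻¹ * A2 * f (wval im sWord) * ((f (wval im sWord))⁻¹ * A1 * f (wval im sWord)) *
            ((f (wval im sWord))⁻¹ * A0 * f (wval im sWord)) := by rw [hz, ← h]; group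
      _ = A1 * A2 * A0 := by rw [e0, e1, e2]
  have hcyc : z = A0 * A1 * A2 := by
    calc z = A0 * z * A0⁻¹ := by rw [hz A0, mul_inv_cancel_right]
      _ = A0 * A1 * A2 := by rw [hconj]; group
  generalize t * t = c at htt f0 f1 f2 ⊢
  calc z * z = A2 * A1 * A0 * (A0 * A1 * A2) := by rw [← hcyc, h]
    _ = A2 * (A1 * (A0 * A0) * A1) * A2 := by simp only [mul_assoc]
    _ = A2 * (A1 * A1) * c * A2 := by rw [f0, mul_assoc A1 c A1, ← htt A1]; simp only [mul_assoc]
    _ = A2 * (A2 * (c * c)) := by
      have hc : Commute A2 (c * c) := Commute.mul_right (htt A2) (htt A2)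
      rw [f1, mul_assoc A2 c c, mul_assoc A2 (c * c), hc.eq]
    _ = c * c * c := by rw [← mul_assoc, f2, mul_assoc]

end Cfsg.Lib.J4Cert
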