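import Cfsg.Agent.J4Cert.Lift
import Cfsg.Agent.J4Cert.Twist
import Cfsg.Agent.J4Cert.GSys
import Cfsg.Agent.J4Cert.MultCheck
import Cfsg.Agent.J4Cert.Order
import Cfsg.Agent.Known.StLift.Basic

/-!
The presented group has no stem extension.
-/

set_option autoImplicit false
set_option maxRecDepth 8000

namespace Cfsg.Lib.J4Cert

open Cfsg Cfsg.Lib.J4Pres Cfsg.Lib.CosetTable

attribute [local irreducible] pm rel idp ap cl

theorem models_lift {X : Type} [Group X] (S : Sys X)
    (hv : S.v = fun n => (valsOf S.f S.t bDefs).getD n 1)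
    (hK : ∀ a, S.f a ∈ S.K)
    (h1 : (S.f py * S.tc (wval im w1)) ^ 3 = 1)
    (h2 : S.tc 1 * S.tc (wval im (wg ++ wu)) * S.tc 1 * S.tc (wval im wg) * S.f (wval im (wu ++ wu)) = S.z) :
    Nonempty (bC.Models S) := by
  have hs := relShape_ok
  simp only [relShape, Bool.and_eq_true, beq_iff_eq, List.all_eq_true] at hs
  obtain ⟨⟨⟨⟨hW, -⟩, hP⟩, -⟩, hπ⟩ := hs
  refine ⟨{ baseEl := baseEl, base_ok := baseEl_ok, rels_ok := ?_, root_ok := ⟨[], List.Forall₂.nil, by simpa using Sys.Eqv.refl S _⟩, range_le := hK, v_zero := ?_, v_def := ?_ }⟩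
  · intro R hR
    simp only [bC, mkCrt, List.mem_map] at hR
    obtain ⟨⟨⟨L, πi⟩, i⟩, hi, rfl⟩ := hR
    obtain ⟨hil, hie⟩ := List.mem_zipIdx' hi
    have hlen : relP.length = relW.length := by simpa using congrArg List.length hP
    have hL : L = (relW[i]'(hlen ▸ hil)).1.map wp := by
      have h1 := congrArg (fun l => l[i]?) hP
      simp only [List.getElem?_map, List.getElem?_eq_getElem hil, List.getElem?_eq_getElem (hlen ▸ hil),
        Option.map_some, Option.some.injEq] at h1
      rw [← h1, ← hie]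
    have hp : pm πi (wp (relW[i]'(hlen ▸ hil)).2) = idp := by
      have := hπ (relP[i], relW[i]'(hlen ▸ hil)) (List.mem_iff_getElem.2 ⟨i, by simp [hil, hlen ▸ hil], by simp⟩)
      rw [← hie] at this
      exact Nat.eq_of_beq_eq_true this
    refine ⟨(relW[i]'(hlen ▸ hil)).1.map (wval im), wval im (relW[i]'(hlen ▸ hil)).2, hL ▸ el_words _,
      (wp_el _).inv hp, ?_⟩
    have hi5 : i < 5 := by rw [hlen, hW] at hil; simpa using hil
    simp only [hW]
    have hz0 : ∀ n : ℕ, Nat.beq n 4 = false → S.Z (bif Nat.beq n 4 then (1 : ℤ) else 0) false = 1 := fun n hn => by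
      rw [hn, cond_false, Sys.Z_zero]
    interval_cases i
    · rw [hz0 0 rfl]; simp [wval]
    · rw [hz0 1 rfl]
      simp only [List.getElem_cons_succ, List.getElem_cons_zero, List.map_cons, List.map_nil, List.prod_cons,
        List.prod_nil, mul_one, Sys.tc_tc]
      simp [wval]
    · rw [hz0 2 rfl]
      simp only [List.getElem_cons_succ, List.getElem_cons_zero, List.map_cons, List.map_nil, List.prod_cons,
        List.prod_nil, mul_one, wval_append, ← mul_assoc (S.tc _)]
      simp only [show wval im [1, 1] = py * py by simp [wval, im], show wval im [1] = py by simp [wval, im],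
        show wval im ([] : List ℕ) = 1 from rfl, map_one, mul_one]
      rw [triple]
      exact h1
    · rw [hz0 3 rfl]
      simp only [List.getElem_cons_succ, List.getElem_cons_zero, List.map_cons, List.map_nil, List.prod_cons,
        List.prod_nil, mul_one, wval_append, ← mul_assoc (S.tc _)]
      simp only [show wval im [1, 1] = py * py by simp [wval, im], show wval im [1] = py by simp [wval, im],
        show wval im ([] : List ℕ) = 1 from rfl, map_one, mul_one]
      rw [triple_rev, inv_eq_one]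
      exact h1
    · simp only [List.getElem_cons_succ, List.getElem_cons_zero, List.map_cons, List.map_nil, List.prod_cons,
        List.prod_nil, mul_one, ← mul_assoc]
      rw [show wval im ([] : List ℕ) = 1 from rfl, h2]
      simp [Sys.Z, Nat.beq_refl]
  · rw [hv]; exact (valsOf_spec S.f S.t bDefs [1]).1 0 (by simp)
  · intro m d hm hd
    have h := (valsOf_spec S.f S.t bDefs [1]).2 m d hm (by simp only [List.length_singleton]; omega)
    rw [List.length_singleton, Nat.add_comm 1 m] at h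
    rw [hv]
    exact h

/-- A system whose small group meets the centre trivially has trivial central elements. -/
theorem z_chi_one {X : Type} [Group X] (S : Sys X) (hC : bC.Models S)
    (hsep : ∀ c ∈ S.K, (∀ g, g * c = c * g) → (∃ b x, c = S.Z b x) → c = 1) : S.z = 1 ∧ S.χ = 1 := by
  have hT : ∀ k < bLen, FOK S (bFacts.get k) :=
    fact_ok hC fun k hk => okRange_sound bC bLen 0 bC_ok k (Nat.zero_le k) (by omega)
  have key : ∀ (n : ℕ) (b : ℤ) (x : Bool), (n, b, x) ∈ [(52, 2, true), (53, 2, false), (56, 3, false)] →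
      S.Z b x = 1 := by
    intro n b x hm
    have hb := List.all_eq_true.1 bBits_ok (n, b, x) hm
    simp only [Bool.and_eq_true, beq_iff_eq, Nat.blt_eq] at hb
    obtain ⟨⟨⟨⟨⟨hr, hij⟩, hh⟩, hbb⟩, hx⟩, hn⟩ := hb
    obtain ⟨a, ha, -, hE⟩ := hT n hn
    rw [Nat.eq_of_beq_eq_true hh] at ha
    rw [if_pos (Nat.eq_of_beq_eq_true hr), El.unique ha El.one, map_one, mul_one, zeq_eq hbb, hx,
      Nat.eq_of_beq_eq_true hij] at hE
    have hE' := hE.symm
    simp only [Sys.Eqv] at hE'
    rw [Sys.Z_comm, mul_assoc, mul_inv_cancel, mul_one] at hE'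
    exact hsep _ hE' (Sys.Z_comm b x) ⟨b, x, rfl⟩
  have k1 := key 52 2 true (by simp)
  have k2 := key 53 2 false (by simp)
  have k3 := key 56 3 false (by simp)
  simp only [Sys.Z, cond_true, cond_false, mul_one] at k1 k2 k3
  rw [k2, one_mul] at k1
  refine ⟨?_, k1⟩
  rwa [show (3 : ℤ) = 2 + 1 from rfl, zpow_add, k2, one_mul, zpow_one] at k3

/-- The root relation in the presented group. -/
theorem rel_root : gt * ((jHom (wval im (wg ++ wu)))⁻¹ * gt * jHom (wval im (wg ++ wu))) * gt *
    ((jHom (wval im wg))⁻¹ * gt * jHom (wval im wg)) * jHom (wval im (wu ++ wu)) = 1 := by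
  have hU : gt * jHom (wval im wu) = jHom (wval im wu) * gt := by
    rcases blk_wu with h | h | h
    · simpa using tw_G _ (0x201, true) (by simp [trio6]) h
    · simpa using tw_G _ (0x012, true) (by simp [trio6]) h
    · simpa using tw_G _ (0x120, true) (by simp [trio6]) h
  have h2 := rel_two
  simp only [wval_append, map_mul, mul_inv_rev]
  generalize jHom (wval im wu) = U at hU h2 ⊢
  generalize jHom (wval im wg) = g at h2 ⊢
  have hU' : gt * U⁻¹ = U⁻¹ * gt := by
    calc gt * U⁻¹ = U⁻¹ * (U * gt) * U⁻¹ := by group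
      _ = U⁻¹ * gt := by rw [← hU]; group
  calc _ = (gt * U⁻¹) * (g⁻¹ * gt * g) * U * gt * (g⁻¹ * gt * g) * (U * U) := by group
    _ = U⁻¹ * U⁻¹ * (U * gt * (g⁻¹ * gt * g)) ^ 2 * (U * U) := by rw [hU', pow_two]; group
    _ = 1 := by rw [h2]; group

theorem triple_conj {X : Type} [Group X] (f : P →* X) (t : X) (a : P) :
    conjT f t (a * (py * py)) * conjT f t (a * py) * conjT f t a = (f py * conjT f t a) ^ 3 := by
  have h := congrArg f y_cube
  rw [map_pow, map_one] at h
  have e : (f py)⁻¹ = f py * f py := inv_eq_of_mul_eq_one_right (by rw [← h, pow_three])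
  have e2 : (f py)⁻¹ * (f py)⁻¹ = f py := by rw [← mul_inv_rev, ← e, inv_inv]
  have e3 : conjT f t (a * (py * py)) * conjT f t (a * py) * conjT f t a =
      ((f py)⁻¹ * (f py)⁻¹) * (conjT f t a * f py * conjT f t a * f py * conjT f t a) := by
    simp only [conjT, map_mul]; group
  rw [e3, e2, pow_three]
  simp only [mul_assoc]

/-- The values of the three letters. -/
def letVal {X : Type} [Group X] (f : P →* X) (t : X) : Spor.J4.Gen → X
  | .x => f px
  | .y => f py
  | .t => t

theorem lift_exists {X : Type} [Group X] [Finite X] (σ : X →* Spor.J4) (hs : Function.Surjective σ)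
    (hc : σ.ker ≤ Subgroup.center X) :
    ∃ (f : P →* X) (t : X), σ.comp f = jHom ∧ σ t = gt ∧ t * t = 1 ∧ t * f px = f px * t ∧
      t * f wP = f wP * t ∧ (f py * conjT f t (wval im w1)) ^ 3 = 1 ∧
      conjT f t 1 * conjT f t (wval im (wg ++ wu)) * conjT f t 1 * conjT f t (wval im wg) *
        f (wval im (wu ++ wu)) = 1 := by
  obtain ⟨f, hf⟩ := exists_lift_P σ hs hc jHom
  have hfσ : ∀ a, σ (f a) = jHom a := fun a => DFunLike.congr_fun hf a
  obtain ⟨t0, ht0⟩ := hs gt
  have hcen : ∀ {c : X}, σ c = 1 → ∀ g, g * c = c * g := fun {c} h g =>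
    Subgroup.mem_center_iff.1 (hc h) g
  -- the twist
  have htw : ∀ s : P, gt * jHom s = jHom s * gt → Tw f t0 s ((f s * t0)⁻¹ * (t0 * f s)) := fun s h => by
    refine ⟨hcen ?_, (mul_inv_cancel_left _ _).symm⟩
    rw [map_mul, map_inv, map_mul, map_mul, hfσ, ht0, h, inv_mul_cancel]
  have hx := htw px (by rw [jHom_px, comm_x])
  have hw := htw wP comm_w
  obtain ⟨hχ2, heq⟩ := Tw.gens hx hw
  rw [heq] at hw
  generalize (f px * t0)⁻¹ * (t0 * f px) = χ at hx hw hχ2
  obtain ⟨-, -, hst⟩ := trio_spec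
  have tw0 := tw_of_rule (f := f) (t := t0) hx.1 hχ2 ⟨(0x201, true), by simp [trio6], blk_gens.1, hx.2⟩
    ⟨(0x012, true), by simp [trio6], blk_gens.2, hw.2⟩ hst
  -- the scaling
  have hc2 : ∀ g, g * (t0 * t0) = t0 * t0 * g := hcen (by rw [map_mul, ht0, t_sq])
  have hσA : ∀ a, σ (conjT f t0 a) = (jHom a)⁻¹ * gt * jHom a := fun a => by
    simp only [conjT, map_mul, map_inv, hfσ, ht0]
  obtain ⟨z1, hz1⟩ : ∃ z, (f py * conjT f t0 (wval im w1)) ^ 3 = z := ⟨_, rfl⟩
  have hz1c : ∀ g, g * z1 = z1 * g := hcen (by rw [← hz1, map_pow, map_mul, hfσ, hσA, jHom_py, rel_one])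
  have haw : wval im (aWord 0) = wval im w1 ∧ wval im (aWord 1) = wval im w1 * py ∧
      wval im (aWord 2) = wval im w1 * (py * py) := by
    simp [aWord, w1, wval, im, List.replicate, mul_assoc]
  have hsq := triple_sq tw0 hc2 hz1c (by rw [haw.1, haw.2.1, haw.2.2, triple_conj, hz1])
  obtain ⟨c, hc0⟩ : ∃ c, t0 * t0 = c := ⟨_, rfl⟩
  rw [hc0] at hc2 hsq
  obtain ⟨a, ha⟩ : ∃ a, c * z1⁻¹ = a := ⟨_, rfl⟩
  have hac : ∀ g, g * a = a * g := fun g => by
    rw [← ha]; exact (Commute.mul_right (hc2 g) (Commute.inv_right (hz1c g))).eq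
  have hσa : σ a = 1 := by
    rw [← ha, map_mul, map_inv, ← hc0, map_mul, ht0, t_sq, ← hz1, map_pow, map_mul, hfσ, hσA, jHom_py, rel_one]
    simp
  have hcz : Commute c z1 := hz1c c
  have ha2 : a * a * c = 1 := by
    calc a * a * c = c * c * c * (z1⁻¹ * z1⁻¹) := by
          rw [← ha]
          have hcz' : Commute z1⁻¹ c := hcz.symm.inv_left
          simp only [mul_assoc, hcz'.eq, hcz'.left_comm]
      _ = 1 := by rw [← hsq]; group
  have ha3 : a * a * a * z1 = 1 := by
    have : a * a = c⁻¹ := eq_inv_of_mul_eq_one_left ha2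
    rw [this, ← ha]; group
  obtain ⟨t, ht⟩ : ∃ t, a * t0 = t := ⟨_, rfl⟩
  have hσt : σ t = gt := by rw [← ht, map_mul, hσa, ht0, one_mul]
  have htt : t * t = 1 := by
    rw [← ht, mul_assoc, ← mul_assoc t0, hac t0, mul_assoc a t0, hc0, ← mul_assoc, ha2]
  have hA : ∀ b, conjT f t b = a * conjT f t0 b := fun b => by
    simp only [conjT, ← ht, ← mul_assoc]
    rw [hac (f b)⁻¹]
  have hR1 : (f py * conjT f t (wval im w1)) ^ 3 = 1 := by
    rw [hA, ← mul_assoc, hac, mul_assoc, (show Commute a _ from (hac _).symm).mul_pow, hz1, pow_three,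
      ← mul_assoc a a a, ha3]
  have tw : ∀ (s : P) (e : ℕ × Bool), e ∈ trio6 → Blk colT e.1 s →
      t * f s = f s * t * (bif e.2 then χ else 1) := fun s e he hb => by
    rw [← ht, mul_assoc, tw0 s e he hb, ← mul_assoc (f s) a t0, hac (f s)]
    simp only [mul_assoc]
  have hσC : ∀ b, σ (conjT f t b) = (jHom b)⁻¹ * gt * jHom b := fun b => by
    simp only [conjT, map_mul, map_inv, hfσ, hσt]
  obtain ⟨z, hz⟩ : ∃ z, conjT f t 1 * conjT f t (wval im (wg ++ wu)) * conjT f t 1 * conjT f t (wval im wg) *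
        f (wval im (wu ++ wu)) = z := ⟨_, rfl⟩
  have hzσ : σ z = 1 := by
    simp only [← hz, map_mul σ, hσC, hfσ, map_one jHom, inv_one, one_mul, mul_one]
    exact rel_root
  let S : Sys X :=
    { f := f, t := t, z := z, χ := χ, z_comm := hcen hzσ, χ_comm := hx.1, χ_sq := hχ2, tt := htt, tw := tw
      K := f.range, v := fun n => (valsOf f t bDefs).getD n 1 }
  obtain ⟨hM⟩ := models_lift S rfl (fun b => ⟨b, rfl⟩) hR1 hz
  have hχσ : σ χ = 1 := by
    have h := congrArg σ hx.2
    simp only [map_mul, hfσ, ht0, jHom_px, comm_x] at h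
    exact (mul_eq_left.1 h.symm)
  obtain ⟨e1, e2⟩ := z_chi_one S hM (by
    rintro c' ⟨p, rfl⟩ - ⟨b, x, hp⟩
    have h : σ (S.Z b x) = 1 := by
      cases x <;> simp [Sys.Z, S, hzσ, hχσ]
    rw [← hp, hfσ, ← map_one jHom] at h
    rw [jHom_injective h, map_one])
  have e2' : χ = 1 := e2
  refine ⟨f, t, hf, hσt, htt, ?_, ?_, hR1, hz.trans e1⟩
  · simpa [e2'] using tw px (0x201, true) (by simp [trio6]) blk_gens.1
  · simpa [e2'] using tw wP (0x012, true) (by simp [trio6]) blk_gens.2

theorem rels_of_lift {X : Type} [Group X] {f : P →* X} {t : X} (htt : t * t = 1) (hx : t * f px = f px * t)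
    (hw : t * f wP = f wP * t) (h1 : (f py * conjT f t (wval im w1)) ^ 3 = 1)
    (h2 : conjT f t 1 * conjT f t (wval im (wg ++ wu)) * conjT f t 1 * conjT f t (wval im wg) *
        f (wval im (wu ++ wu)) = 1) :
    ∀ r ∈ jRels, FreeGroup.lift (letVal f t) r = 1 := by
  obtain ⟨-, -, hst⟩ := trio_spec
  have tw := tw_of_rule (f := f) (t := t) (χ := 1) (fun g => by simp) (by simp)
    ⟨(0x201, true), by simp [trio6], blk_gens.1, by simpa using hx⟩
    ⟨(0x012, true), by simp [trio6], blk_gens.2, by simpa using hw⟩ hst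
  have hU : t * f (wval im wu) = f (wval im wu) * t := by
    rcases blk_wu with h | h | h
    · simpa using tw _ (0x201, true) (by simp [trio6]) h
    · simpa using tw _ (0x012, true) (by simp [trio6]) h
    · simpa using tw _ (0x120, true) (by simp [trio6]) h
  have hP : ∀ r ∈ relExprs (f px) (f py), r = 1 := fun r hr => by
    rw [← map_relExprs, List.mem_map] at hr
    obtain ⟨q, hq, rfl⟩ := hr
    rw [relExprs_one q hq, map_one]
  have h12 : (f (wval im wu) * t * ((f (wval im wg))⁻¹ * t * f (wval im wg))) ^ 2 = 1 := by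
    simp only [conjT, wval_append, map_mul f, map_one f, inv_one, one_mul, mul_one, mul_inv_rev] at h2
    generalize f (wval im wu) = U at hU h2 ⊢
    generalize f (wval im wg) = g at h2 ⊢
    have hU' : t * U⁻¹ = U⁻¹ * t := by
      calc t * U⁻¹ = U⁻¹ * (U * t) * U⁻¹ := by group
        _ = U⁻¹ * t := by rw [← hU]; group
    calc (U * t * (g⁻¹ * t * g)) ^ 2
        = U * U * ((U⁻¹ * t) * (g⁻¹ * t * g) * U * t * (g⁻¹ * t * g) * (U * U)) * (U * U)⁻¹ := by
          rw [pow_two]; group
      _ = U * U * (t * (U⁻¹ * g⁻¹ * t * (g * U)) * t * (g⁻¹ * t * g) * (U * U)) * (U * U)⁻¹ := by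
          rw [← hU']; group
      _ = 1 := by rw [h2]; group
  rintro r (⟨a, ha, -⟩ | hr)
  · simp [Spor.J4.edges, Spor.coxNodes] at ha
  simp only [relExprs, List.mem_cons, List.not_mem_nil, or_false, forall_eq_or_imp, forall_eq] at hP
  obtain ⟨p1, p2, p3, p4, p5, p6, p7⟩ := hP
  have hw' : t * wExpr (f px) (f py) = wExpr (f px) (f py) * t := by rw [← map_wExpr]; exact hw
  have hcomm : ∀ u : X, t * u = u * t → t⁻¹ * u⁻¹ * t * u = 1 := fun u h => by
    rw [mul_assoc, h]; group
  simp only [Spor.J4.extra, Set.mem_setOf_eq, List.mem_cons, List.not_mem_nil, or_false] at hr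
  rcases hr with rfl | rfl | rfl | rfl | rfl | rfl | rfl | rfl | rfl | rfl | rfl | rfl <;>
    simp only [map_pow, map_mul, map_inv, FreeGroup.lift_apply_of, letVal]
  · exact p1
  · exact p2
  · exact p3
  · exact p4
  · exact p5
  · exact p6
  · exact p7
  · rw [pow_two, htt]
  · exact hcomm _ hw'
  · exact hcomm _ hx
  · simpa [conjT, wval, w1, im, mul_assoc] using h1
  · simpa [wval, wu, wg, im, pow_succ, mul_assoc, List.replicate] using h12

theorem multiplier_J4 : HasCyclicSchurMultiplier Spor.J4 1 := by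
  haveI := finite_J4
  refine Schur.hasCyclicSchurMultiplier_one_of fun X _ _ σ hσ => ?_
  obtain ⟨f, t, hf, ht, htt, hx, hw, h1, h2⟩ := lift_exists σ hσ.1 hσ.2.1
  let τ : Spor.J4 →* X := PresentedGroup.toGroup (rels_of_lift htt hx hw h1 h2)
  refine StLift.ker_eq_bot_of_section hσ (MonoidHom.id _) Function.surjective_id τ ?_ Function.injective_id
  refine PresentedGroup.ext fun b => ?_
  show σ (τ (PresentedGroup.of b)) = _
  rw [PresentedGroup.toGroup.of]
  cases b
  · exact (DFunLike.congr_fun hf px).trans jHom_px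
  · exact (DFunLike.congr_fun hf py).trans jHom_py
  · exact ht

end Cfsg.Lib.J4Cert
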