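import Cfsg.Agent.J4Cert.Cover
import Cfsg.Agent.J4Cert.Data.trioPart
import Cfsg.Agent.J4Cert.Data.trioStab

/-!
The stabiliser of the trio is generated by two elements and has 3795 cosets.
-/

set_option autoImplicit false
set_option maxRecDepth 8000

namespace Cfsg.Lib.J4Cert

open Cfsg.Lib.J4Pres Cfsg.Lib.CosetTable

/-- The trios. -/
def trioQ : Part where
  c := trioCol
  m := 3
  R := 3795
  gens := [let8 0, let8 1, let8 2]
  reps := trioReps
  par := trioPar'
  srt := trioSrt

/-- The tables match the two generators. -/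
def trioTabsOK : Bool :=
  agree (trioTabs.getD 0 (0, 0)) (let8 0) && agree (trioTabs.getD 2 (0, 0)) (wp wWord) &&
    trioTabs.getD 1 (0, 0) == PermCert.pinv (trioTabs.getD 0 (0, 0)) &&
    trioTabs.getD 3 (0, 0) == PermCert.pinv (trioTabs.getD 2 (0, 0)) && Nat.beq trioTabs.length 4

/-- Both generators preserve the blocks, with their maps of colours. -/
def trioGensOK : Bool :=
  Nat.beq (rel colT (let8 0) idp) (graph 0x201 3) && Nat.beq (rel colT (wp wWord) idp) (graph 0x012 3)

attribute [local irreducible] pm rel idp ap cl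

theorem trioQ_reps : trioQ.repsFrom 0 3795 = true := by decide +kernel

theorem trioQ_incr : trioQ.incr 0 trioSrt = true := by decide +kernel

theorem trio_small : trioQ.c = colT ∧ trioSrt.length = 3795 ∧ trioTabsOK = true ∧
    CosetCert.chainOK trioTabs 24 trioTabs.length trioChain = true ∧
    CosetCert.chainSize trioChain = 64512 := by
  refine ⟨?_, ?_, ?_, ?_, ?_⟩ <;> decide +kernel

theorem trioGens_ok : trioGensOK = true := by decide +kernel

theorem wval_wWord : wval im wWord = wP := by
  simp [wWord, wval, im, wP, wExpr, pow_succ, mul_assoc]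

theorem blk_of_graph {g π : ℕ} {a : P} (ha : El g a) (h : Nat.beq (rel colT g idp) (graph π 3) = true) :
    Blk colT π a := by
  have := Blk.of_rel ha El.one (Nat.eq_of_beq_eq_true h)
  rwa [inv_one, mul_one] at this

/-- The maps of colours of the two generators. -/
theorem blk_gens : Blk colT 0x201 px ∧ Blk colT 0x012 wP := by
  have h := trioGens_ok
  simp only [trioGensOK, Bool.and_eq_true] at h
  exact ⟨blk_of_graph base_gen.1 h.1, wval_wWord ▸ blk_of_graph (wp_el wWord) h.2⟩

theorem trio_spec : ∃ rep : ℕ → P, trioQ.Spec rep (stab colT) ∧ stab colT = Subgroup.closure {px, wP} := by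
  obtain ⟨hc, hlen, ht, hch, hsz⟩ := trio_small
  simp only [trioTabsOK, Bool.and_eq_true, beq_iff_eq] at ht
  obtain ⟨⟨⟨⟨t0, t2⟩, t1⟩, t3⟩, t4⟩ := ht
  obtain ⟨v0, e0⟩ := El.of_agree t0 base_gen.1
  obtain ⟨v2, e2⟩ := El.of_agree t2 (wval_wWord ▸ wp_el wWord)
  let G : Subgroup P := Subgroup.closure {px, wP}
  have hG : G ≤ stab trioQ.c := by
    rw [hc]
    refine (Subgroup.closure_le _).2 ?_
    rintro g (rfl | rfl)
    · exact Stb.of_blk blk_gens.1
    · exact Stb.of_blk blk_gens.2
  have hN : 64512 ≤ Nat.card G := by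
    haveI := finite_P
    let imL : ℕ → P := fun l => [px, px⁻¹, wP, wP⁻¹].getD l 1
    have hm : ∀ l, imL l ∈ G := fun l => by
      have h1 : px ∈ G := Subgroup.subset_closure (Or.inl rfl)
      have h2 : wP ∈ G := Subgroup.subset_closure (Or.inr rfl)
      match l with
      | 0 => exact h1
      | 1 => exact inv_mem h1
      | 2 => exact h2
      | 3 => exact inv_mem h2
      | n + 4 => exact one_mem G
    rw [← hsz]
    refine CosetCert.chain_bound imL psi trioTabs (fun l hl => ?_) trioChain G hch inferInstance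
      fun K _ w _ => list_prod_mem fun z hz => ?_
    · rw [Nat.eq_of_beq_eq_true t4] at hl
      interval_cases l
      · exact ⟨v0, e0⟩
      · exact ⟨t1 ▸ PermCert.valid_pinv v0, by
          show psi px⁻¹ = _
          rw [t1, map_inv, e0, PermCert.perm_pinv v0]⟩
      · exact ⟨v2, e2⟩
      · exact ⟨t3 ▸ PermCert.valid_pinv v2, by
          show psi wP⁻¹ = _
          rw [t3, map_inv, e2, PermCert.perm_pinv v2]⟩
    · obtain ⟨l, -, rfl⟩ := List.mem_map.1 hz
      exact hm l
  obtain ⟨rep, h⟩ := trioQ.spec (fun g hg => by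
      simp only [trioQ, List.mem_cons, List.not_mem_nil, or_false] at hg
      rcases hg with rfl | rfl | rfl <;> exact ⟨_, let8_el _⟩)
    (by rw [hc]; exact trio6_facts.2.2.1) trioQ_reps trioQ_incr hlen hG hN rfl
  have he : stab colT = G := hc ▸ h.eq
  exact ⟨rep, he ▸ h, he⟩

end Cfsg.Lib.J4Cert
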