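import Cfsg.Agent.J4Cert.Simple
import Cfsg.Agent.J4Cert.Trio

/-!
The cosets fixed by the stabiliser of the trio.
-/

set_option autoImplicit false
set_option maxRecDepth 8000

namespace Cfsg.Lib.J4Cert

open Cfsg Cfsg.Lib.J4Pres Cfsg.Lib.CosetTable

/-- Only the first representative normalises the stabiliser. -/
def normOK : Bool :=
  (List.range 3795).all fun k =>
    Nat.beq k 0 ||
      !Nat.beq (key trioCol 3 (pm (trioReps.get k) (let8 0))) (key trioCol 3 (trioReps.get k)) ||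
      !Nat.beq (key trioCol 3 (pm (trioReps.get k) (wp wWord))) (key trioCol 3 (trioReps.get k))

attribute [local irreducible] pm rel idp ap cl restN kLiveN kOrd stab colT

theorem norm_ok : normOK = true := by decide +kernel

theorem kSize_facts : kSize 1 = 3795 ∧ (∀ n ∈ restN, kSize n ∣ 3795 → n = 1) ∧ (1 : ℕ) ∈ kLiveN := by
  decide +kernel

theorem kDefs_one : kDefs[0]? = some (0, []) := by decide +kernel

theorem self_normal {a : P} (hx : a * px * a⁻¹ ∈ stab colT) (hw : a * wP * a⁻¹ ∈ stab colT) : a ∈ stab colT := by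
  obtain ⟨rep, hQ, hst⟩ := trio_spec
  obtain ⟨k, hk, hka⟩ := hQ.total a
  rw [← show stab trioQ.c = stab colT from hQ.eq] at hka
  have hc : stab trioQ.c = stab colT := hQ.eq
  have hk0 : k = 0 := by
    by_contra hne
    have h := List.all_eq_true.1 norm_ok k (List.mem_range.2 hk)
    simp only [Bool.or_eq_true, Bool.not_eq_true'] at h
    have conj : ∀ g : P, a * g * a⁻¹ ∈ stab colT → rep k * g * (rep k)⁻¹ ∈ stab trioQ.c := by
      intro g hg
      rw [hc]
      rw [hc] at hka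
      have := mul_mem (mul_mem (inv_mem hka) hg) hka
      simpa [mul_assoc] using this
    have hcol : colOK trioQ.c 3 = true := by
      rw [show trioQ.c = colT from trio_small.1]
      exact trio6_facts.2.2.1
    rcases h with (h | h) | h
    · exact hne (Nat.eq_of_beq_eq_true h)
    · exact Nat.ne_of_beq_eq_false h (key_congr hcol ((hQ.el k hk).mul base_gen.1) (hQ.el k hk) (conj px hx))
    · exact Nat.ne_of_beq_eq_false h
        (key_congr hcol ((hQ.el k hk).mul (wval_wWord ▸ wp_el wWord)) (hQ.el k hk) (conj wP hw))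
  subst hk0
  have h0 : rep 0 = 1 := by
    have := (trioQ.repsFrom_sound _ 0 trioQ_reps 0 le_rfl (by norm_num))
    rcases this with ⟨-, e⟩ | ⟨e, -, -⟩
    · exact (hQ.el 0 hk).unique (e ▸ El.one)
    · omega
  rw [h0, inv_one, mul_one, hc] at hka
  exact hka

set_option maxHeartbeats 1000000 in
/-- The map from the orbits to the cosets is bijective. -/
theorem orbit_bij : ∃ G : ℕ → Subgroup P,
    (∀ n ∈ kLiveN, (G n).index = kSize n) ∧
    (∀ q : Spor.J4 ⧸ KJ, ∃ n ∈ kLiveN, ∃ a : P, orbMap (S := gSys KJ kDefs) n a = q) ∧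
    (∀ n ∈ kLiveN, ∀ a b : P,
      orbMap (S := gSys KJ kDefs) n a = orbMap (S := gSys KJ kDefs) n b → a⁻¹ * b ∈ G n) ∧
    ∀ n ∈ kLiveN, ∀ a b : P, a⁻¹ * b ∈ G n →
      orbMap (S := gSys KJ kDefs) n a = orbMap (S := gSys KJ kDefs) n b := by
  classical
  haveI := finite_J4
  haveI := finite_P
  obtain ⟨hv0, hcl, G, hG⟩ := k_cover
  let S := gSys KJ kDefs
  obtain ⟨hnd, hsub, hsup, h0⟩ := restN_ok
  have hmem : ∀ n : {n // n ∈ (0 :: restN).toFinset}, n.1 ∈ kLiveN := fun n => hsup _ (List.mem_toFinset.1 n.2)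
  let Φ : (Σ n : {n // n ∈ (0 :: restN).toFinset}, P ⧸ G n.1) → Spor.J4 ⧸ KJ := fun z =>
    Quotient.liftOn' z.2 (fun a => orbMap (S := S) z.1.1 a) fun a b hab => by
      rw [QuotientGroup.leftRel_apply] at hab
      exact orbMap_eq ((hG _ (hmem z.1)).2 _ hab)
  have hex : ∀ q : Spor.J4 ⧸ KJ, ∃ n ∈ kLiveN, ∃ a : P, orbMap (S := S) n a = q := fun q => by
    refine Quotient.inductionOn' q fun g => ?_
    have := closure_InO (S := S) kLive_facts.2.1 hv0 gt t_sq hcl g⁻¹
      (by rw [show S.f = jHom from rfl, closure_gt]; exact Subgroup.mem_top _)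
    exact exists_orbMap this
  have hsurj : Function.Surjective Φ := fun q => by
    obtain ⟨n, hn, a, ha⟩ := hex q
    exact ⟨⟨⟨n, List.mem_toFinset.2 (hsub n hn)⟩, (a : P ⧸ G n)⟩, ha⟩
  have hle : ∀ n : {n // n ∈ (0 :: restN).toFinset}, Nat.card (P ⧸ G n.1) ≤ kSize n.1 := fun n => by
    obtain ⟨h1, h2⟩ := (hG _ (hmem n)).1
    have h3 := Subgroup.card_mul_index (G n.1)
    rw [card_P] at h3
    show (G n.1).index ≤ _
    rw [kSize, Nat.le_div_iff_mul_le h1, ← h3, mul_comm]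
    exact Nat.mul_le_mul_right _ h2
  have hsum : ∑ n : {n // n ∈ (0 :: restN).toFinset}, kSize n.1 = 173067389 := by
    rw [Finset.sum_coe_sort, ← kOrd_eq.2, List.sum_toFinset _ hnd]
    exact ((List.perm_of_nodup_nodup_toFinset_eq hnd kLive_facts.1 (Finset.ext fun n => by
      simp only [List.mem_toFinset]; exact ⟨hsup n, hsub n⟩)).map kSize).sum_eq
  have hc := Nat.card_le_card_of_surjective Φ hsurj
  rw [Nat.card_sigma, show Nat.card (Spor.J4 ⧸ KJ) = 173067389 from index_KJ_eq] at hc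
  have heq : ∀ n : {n // n ∈ (0 :: restN).toFinset}, Nat.card (P ⧸ G n.1) = kSize n.1 := fun n =>
    ((Finset.sum_eq_sum_iff_of_le (f := fun n : {n // n ∈ (0 :: restN).toFinset} => Nat.card (P ⧸ G n.1))
      (g := fun n : {n // n ∈ (0 :: restN).toFinset} => kSize n.1)
      (fun i _ => hle i)).1 (le_antisymm (Finset.sum_le_sum fun i _ => hle i) (hsum ▸ hc))) n (Finset.mem_univ n)
  have hbij : Function.Bijective Φ := (Nat.bijective_iff_surjective_and_card Φ).2 ⟨hsurj, by
    rw [Nat.card_sigma, show Nat.card (Spor.J4 ⧸ KJ) = 173067389 from index_KJ_eq, ← hsum]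
    exact Finset.sum_congr rfl fun n _ => heq n⟩
  refine ⟨G, fun n hn => heq ⟨n, List.mem_toFinset.2 (hsub n hn)⟩, hex, fun n hn a b h => ?_,
    fun n hn a b h => orbMap_eq ((hG n hn).2 _ h)⟩
  have := hbij.1 (a₁ := ⟨⟨n, List.mem_toFinset.2 (hsub n hn)⟩, (a : P ⧸ G n)⟩)
    (a₂ := ⟨⟨n, List.mem_toFinset.2 (hsub n hn)⟩, (b : P ⧸ G n)⟩) h
  exact QuotientGroup.eq.1 (eq_of_heq (Sigma.mk.inj this).2)

theorem index_T : (stab colT).index ≤ 3795 := by
  haveI := finite_P
  obtain ⟨rep, hQ, -⟩ := trio_spec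
  refine (Nat.card_le_card_of_surjective (fun k : Fin 3795 => (((rep k)⁻¹ : P) : P ⧸ stab colT)) fun q => ?_).trans
    (le_of_eq (Nat.card_fin _))
  refine Quotient.inductionOn' q fun g => ?_
  obtain ⟨k, hk, hkg⟩ := hQ.total g⁻¹
  refine ⟨⟨k, hk⟩, QuotientGroup.eq.2 ?_⟩
  rw [inv_inv]
  have := inv_mem hkg
  simpa using this

/-- Outside the maximal subgroup only one coset is fixed by the stabiliser of the trio. -/
theorem fixed_coset {u : Spor.J4} (hu : u ∉ KJ) (hx : u * gx = gx * u) (hw : u * jHom wP = jHom wP * u) :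
    gt⁻¹ * u ∈ KJ := by
  haveI := finite_P
  obtain ⟨G, hidx, hex, hinj, -⟩ := orbit_bij
  obtain ⟨-, -, hst⟩ := trio_spec
  let S := gSys KJ kDefs
  have hv : S.v 0 = 1 := (valsOf_spec jHom gt kDefs [1]).1 0 (by simp)
  have h1mem := kSize_facts.2.2
  have hv1 : S.v 1 = gt := by
    have h : (valsOf jHom gt kDefs).getD (1 + 0) 1 = _ :=
      (valsOf_spec jHom gt kDefs [1]).2 0 _ kDefs_one (by simp)
    have h0 : (valsOf jHom gt kDefs).getD 0 1 = 1 := hv
    show (valsOf jHom gt kDefs).getD (1 + 0) 1 = gt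
    rw [h]
    show (valsOf jHom gt kDefs).getD 0 1 * _ = gt
    rw [h0, List.map_nil, List.prod_nil, map_one, inv_one, one_mul, one_mul, mul_one]
  have hcomm : ∀ (g : Spor.J4), g * gx = gx * g → g * jHom wP = jHom wP * g → ∀ s ∈ stab colT,
      g * jHom s = jHom s * g := by
    intro g h1 h2 s hs
    rw [hst] at hs
    have hc : Subgroup.closure {px, wP} ≤ (Subgroup.centralizer {g}).comap jHom := by
      rw [Subgroup.closure_le]
      rintro q (rfl | rfl) <;> simp [Subgroup.mem_centralizer_singleton_iff, jHom_px, h1, h2]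
    exact (Subgroup.mem_centralizer_singleton_iff.1 (hc hs)).symm
  have hfix : ∀ (g : Spor.J4) (n : ℕ) (a : P), n ∈ kLiveN → (∀ s ∈ stab colT, g * jHom s = jHom s * g) →
      orbMap (S := S) n a = (g : Spor.J4 ⧸ KJ) → ∀ s ∈ stab colT, a⁻¹ * s * a ∈ G n := by
    intro g n a hn hg ha s hs
    rw [mul_assoc]
    refine hinj n hn a (s * a) ?_
    show orbMap (S := S) n a = ((jHom (s * a) * (S.v n)⁻¹ : Spor.J4) : Spor.J4 ⧸ KJ)
    refine ha.trans (QuotientGroup.eq.2 ?_)
    have h : ((jHom a * (S.v n)⁻¹ : Spor.J4) : Spor.J4 ⧸ KJ) = (g : Spor.J4 ⧸ KJ) := ha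
    rw [QuotientGroup.eq] at h
    have hsK : jHom s ∈ KJ := HJ_le ⟨s, rfl⟩
    have h2 := KJ.mul_mem hsK (KJ.inv_mem h)
    have e : g⁻¹ * (jHom (s * a) * (S.v n)⁻¹) = jHom s * ((jHom a * (S.v n)⁻¹)⁻¹ * g)⁻¹ := by
      rw [map_mul, mul_inv_rev, inv_inv]
      calc g⁻¹ * (jHom s * jHom a * (S.v n)⁻¹) = g⁻¹ * (jHom s * g) * (g⁻¹ * (jHom a * (S.v n)⁻¹)) := by group
        _ = jHom s * (g⁻¹ * (jHom a * (S.v n)⁻¹)) := by rw [← hg s hs]; group
    rw [e]
    exact h2
  -- the orbit of the involution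
  have hT1 : ∀ s ∈ stab colT, s ∈ G 1 := fun s hs => by
    have h := hfix gt⁻¹ 1 1 h1mem (fun s hs => by
        rw [inv_eq_of_mul_eq_one_right t_sq]
        exact hcomm gt comm_x comm_w s hs) (by
      show ((jHom 1 * (S.v 1)⁻¹ : Spor.J4) : Spor.J4 ⧸ KJ) = _
      rw [map_one, one_mul, hv1]) s hs
    simpa using h
  have hT : stab colT = G 1 := by
    refine Subgroup.eq_of_le_of_card_ge hT1 ?_
    have e1 := Subgroup.card_mul_index (G 1)
    have e2 := Subgroup.card_mul_index (stab colT)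
    rw [hidx 1 h1mem, kSize_facts.1] at e1
    have := index_T
    nlinarith
  obtain ⟨n, hn, a, ha⟩ := hex (u : Spor.J4 ⧸ KJ)
  have hs := hfix u n a hn (hcomm u hx hw) ha
  rcases eq_or_ne n 0 with rfl | hn0
  · exfalso
    apply hu
    have h : ((jHom a * (S.v 0)⁻¹ : Spor.J4) : Spor.J4 ⧸ KJ) = (u : Spor.J4 ⧸ KJ) := ha
    rw [QuotientGroup.eq, hv, inv_one, mul_one] at h
    have := KJ.mul_mem (HJ_le ⟨a, rfl⟩) h
    rwa [mul_inv_cancel_left] at this
  have hn1 : n = 1 := by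
    have hr : n ∈ restN := by
      rcases List.mem_cons.1 (restN_ok.2.1 n hn) with h | h
      · exact absurd h hn0
      · exact h
    refine kSize_facts.2.1 n hr ?_
    have hle : (stab colT).map (MulAut.conj a⁻¹).toMonoidHom ≤ G n := by
      rintro _ ⟨s, hs', rfl⟩
      simpa using hs s hs'
    have hidxT : (stab colT).index = 3795 := by rw [hT, hidx 1 h1mem, kSize_facts.1]
    have := Subgroup.index_dvd_of_le hle
    rw [hidx n hn] at this
    have he : ((stab colT).map (MulAut.conj a⁻¹).toMonoidHom).index = (stab colT).index :=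
      Subgroup.index_map_of_bijective (MulAut.conj a⁻¹).bijective (stab colT)
    rw [he, hidxT] at this
    exact this
  subst hn1
  rw [← hT] at hs
  obtain ⟨rep, -, hgen⟩ := trio_spec
  have hmem : ∀ g ∈ ({px, wP} : Set P), g ∈ stab colT := fun g hg => hgen ▸ Subgroup.subset_closure hg
  have ha' : a⁻¹ ∈ stab colT := self_normal (by simpa using hs px (hmem px (Or.inl rfl)))
    (by simpa using hs wP (hmem wP (Or.inr rfl)))
  have h : ((jHom a * (S.v 1)⁻¹ : Spor.J4) : Spor.J4 ⧸ KJ) = (u : Spor.J4 ⧸ KJ) := ha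
  rw [QuotientGroup.eq, hv1] at h
  have hg := hcomm gt comm_x comm_w a (by simpa using inv_mem ha')
  rw [inv_eq_of_mul_eq_one_right t_sq, ← hg, mul_inv_rev, mul_assoc] at h
  have := KJ.mul_mem (HJ_le ⟨a, rfl⟩) h
  rwa [mul_inv_cancel_left] at this

end Cfsg.Lib.J4Cert
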