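import Cfsg.Agent.J4Cert.EData
import Cfsg.Agent.J4Cert.SylDef
import Cfsg.Agent.J4Cert.Data.rank

/-!
The finite checks for the automorphisms.
-/

set_option autoImplicit false
set_option maxRecDepth 8000
set_option Elab.async false

namespace Cfsg.Lib.J4Cert

open Cfsg.Lib.J4Rep (va idMat)

/-- Words fixing the first vector. -/
def stW : List (List ℕ) :=
  [[1], [0, 1, 0, 2, 0, 2, 0, 2, 0, 1, 0, 2, 0, 1, 0, 1, 0, 1, 0, 2, 0],
    [0, 1, 0, 2, 0, 2, 0, 2, 0, 2, 0, 1, 0, 1, 0, 1, 0, 1, 0, 2, 0]]

/-- The matrices of these words. -/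
def stM : List (List ℕ) := stW.map vword

/-- Only two vectors are fixed by the words. -/
def stOK : Bool :=
  stW.all (fun w => w.all fun l => Nat.blt l 3) && stM.all (fun M => Nat.beq (va 1 M) 1) &&
    (List.range 2048).all fun v => Nat.ble v 1 || stM.any fun M => !Nat.beq (va v M) v

/-- The steps between the basis vectors. -/
def parV : Bool :=
  ePar.zipIdx.all fun e => Nat.beq (va (2 ^ e.1.1) (eRows.getD e.1.2 [])) (2 ^ (e.2 + 1))

/-- Representatives of the cobounded values at the second letter. -/
def yWit : List ℕ :=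
  [0, 2, 4, 6, 16, 18, 20, 22, 32, 34, 36, 38, 48, 50, 52, 54, 512, 514, 516, 518, 528, 530, 532, 534, 544, 546,
    548, 550, 560, 562, 564, 566, 1024, 1026, 1028, 1030, 1040, 1042, 1044, 1046, 1056, 1058, 1060, 1062, 1072,
    1074, 1076, 1078, 1536, 1538, 1540, 1542, 1552, 1554, 1556, 1558, 1568, 1570, 1572, 1574, 1584, 1586, 1588, 1590]

/-- The vectors fixed by the second letter. -/
def yFix : List ℕ :=
  [0, 1, 14, 15, 114, 115, 124, 125, 162, 163, 172, 173, 208, 209, 222, 223, 260, 261, 266, 267, 374, 375, 376,
    377, 422, 423, 424, 425, 468, 469, 474, 475]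

/-- The values at the second letter are coboundaries. -/
def cobY : Bool :=
  let r := eRows.getD 2 []
  yWit.all (fun e => Nat.blt e 2048) &&
    (List.range 2048).all fun c =>
      !Nat.beq (c ^^^ va c r ^^^ va (va c r) r) 0 || yWit.any fun e => Nat.beq (e ^^^ va e r) c

/-- The values at the first letter have two classes. -/
def cobX : Bool :=
  let r := eRows.getD 0 []
  yFix.all (fun e => Nat.blt e 2048 && Nat.beq (va e (eRows.getD 2 [])) e) &&
    (List.range 2048).all fun c =>
      !Nat.beq (c ^^^ va c r) 0 || yFix.any fun e =>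
        let d := e ^^^ c ^^^ va e r
        Nat.beq d 0 || Nat.beq d 1088

/-- The word of the conjugator. -/
def hW : List ℕ := [3, 2, 3, 1, 0, 1]
/-- The word of its inverse. -/
def hWi : List ℕ := [2, 0, 2, 3, 1, 3]

/-- The product of the first generator and a conjugate. -/
def prM : List ℕ := mB J4Rep.matX (mB (mB (wordM hWi) (evM eBasis 14)) (wordM hW))

/-- The powers. -/
def powM : ℕ → List ℕ
  | 0 => idMat
  | n + 1 => mB prM (powM n)

/-- A matrix plus one. -/
def dmat (A : List ℕ) : List ℕ := List.zipWith (· ^^^ ·) A J4Rep.idMat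

/-- The first image is large. -/
def bigOK : Bool :=
  Nat.beq rkL.length 56 && Nat.beq rkU.length 56 && Nat.beq rkR.length 112 &&
    leq (rkU.map fun u => va u (dmat J4Rep.matX)) rkL && rkU.all (fun u => decide (u < 2 ^ 112)) &&
    leq (rkL.map fun l => va l rkR) ((List.range' 0 56).map fun i => 2 ^ i)

/-- The other image is small. -/
def smallOK : Bool :=
  let A := mB (evM eBasis 1088) J4Rep.matX
  Nat.beq A.length 112 && Nat.beq rkK.length 112 && Nat.beq rkL2.length 50 &&
    leq (rkK.map fun k => va k rkL2) (dmat A) && rkK.all fun k => decide (k < 2 ^ 50)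

theorem st_ok : stOK = true := by decide +kernel
theorem parV_ok : parV = true := by decide +kernel
theorem cobY_ok : cobY = true := by decide +kernel
theorem cobX_ok : cobX = true := by decide +kernel
theorem pow_ok : leq (powM 11) idMat = true := by decide +kernel
theorem big_ok : bigOK = true := by decide +kernel
theorem small_ok : smallOK = true := by decide +kernel

end Cfsg.Lib.J4Cert
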