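import Cfsg.Agent.J4Cert.ESub
import Cfsg.Agent.J4Cert.OutCheck
import Cfsg.Agent.J4Cert.Mask
import Cfsg.Agent.J4Cert.Linear

/-!
Two involutions of the presented group are not conjugate.
-/

set_option autoImplicit false
set_option maxRecDepth 8000

namespace Cfsg.Lib.J4Cert

open Cfsg Cfsg.Lib.J4Pres Cfsg.Lib.CosetTable

attribute [local irreducible] pm rel idp ap cl eBasis rkL rkU rkR rkK rkL2 mB

/-- The image of an element minus one. -/
def imgSet (g : Spor.J4) : Set ℕ := Set.range fun v : J4Rep.Vec => ((rhoG g).symm v).1 ^^^ v.1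

theorem imgSet_finite (g : Spor.J4) : (imgSet g).Finite :=
  (Set.finite_Iio (2 ^ 112)).subset (by
    rintro _ ⟨v, rfl⟩
    exact Nat.xor_lt_two_pow ((rhoG g).symm v).2 v.2)

theorem imgSet_conj (g z : Spor.J4) : (imgSet g).ncard ≤ (imgSet (z * g * z⁻¹)).ncard := by
  obtain ⟨A, hA⟩ := exists_mok z
  refine le_trans (Set.ncard_le_ncard ?_ ((imgSet_finite _).image fun u => J4Rep.va u A))
    (Set.ncard_image_le (imgSet_finite _))
  rintro _ ⟨v, rfl⟩
  refine ⟨_, ⟨(rhoG z⁻¹).symm v, rfl⟩, ?_⟩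
  have e : ∀ (a b : Spor.J4) (u : J4Rep.Vec), (rhoG (a * b)).symm u = (rhoG b).symm ((rhoG a).symm u) :=
    fun a b u => by rw [map_mul]; rfl
  show J4Rep.va (((rhoG (z * g * z⁻¹)).symm ((rhoG z⁻¹).symm v)).1 ^^^ ((rhoG z⁻¹).symm v).1) A =
    ((rhoG g).symm v).1 ^^^ v.1
  rw [J4Rep.va_xor, ← hA.2, ← hA.2, ← e, ← e, ← e, show z⁻¹ * (z * g * z⁻¹ * z) = g by group, inv_mul_cancel,
    map_one]
  rfl

theorem va_dmat {A : List ℕ} (hA : A.length = 112) {v : ℕ} (hv : v < 2 ^ 112) :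
    J4Rep.va v (dmat A) = J4Rep.va v A ^^^ v := by
  rw [dmat, va_add _ _ _ (by simp [J4Rep.idMat, hA]), J4Rep.va_idMat hv]

theorem va_pows_id {n v : ℕ} (hv : v < 2 ^ n) : J4Rep.va v ((List.range' 0 n).map fun i => 2 ^ i) = v := by
  refine Nat.eq_of_testBit_eq fun i => ?_
  rw [J4Rep.va_pows_testBit, Nat.sub_zero]
  by_cases hi : i < n
  · simp [hi]
  · rw [Nat.testBit_lt_two_pow (lt_of_lt_of_le hv (Nat.pow_le_pow_right (by norm_num) (not_lt.1 hi)))]
    simp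

theorem imgSet_big : 2 ^ 56 ≤ (imgSet gx).ncard := by
  have h := big_ok
  simp only [bigOK, Bool.and_eq_true, List.all_eq_true, decide_eq_true_eq] at h
  obtain ⟨⟨⟨⟨⟨-, -⟩, -⟩, hUD⟩, hU⟩, hLR⟩ := h
  have hx := mok_gens.1
  have hl : J4Rep.matX.length = 112 := by
    have := hx.1
    simp only [okMat, Bool.and_eq_true] at this
    exact Nat.eq_of_beq_eq_true this.1
  have hu : ∀ c, J4Rep.va c rkU < 2 ^ 112 := fun c =>
    J4Rep.va_lt _ c (List.all_eq_true.2 fun r hr => decide_eq_true (hU r hr))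
  have hmem : ∀ c, J4Rep.va c rkL ∈ imgSet gx := fun c => ⟨⟨_, hu c⟩, by
    show ((rhoG gx).symm ⟨_, hu c⟩).1 ^^^ J4Rep.va c rkU = _
    rw [hx.2, ← va_dmat hl (hu c), J4Rep.va_mmul, J4Rep.mmul, leq_eq hUD]⟩
  let F : Fin (2 ^ 56) → imgSet gx := fun c => ⟨J4Rep.va c rkL, hmem c⟩
  have hF : Function.Injective F := by
    intro a b e
    have h' := congrArg (fun u => J4Rep.va u rkR) (congrArg Subtype.val e)
    simp only [F, J4Rep.va_mmul, J4Rep.mmul, leq_eq hLR, va_pows_id a.2, va_pows_id b.2] at h'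
    exact Fin.ext h'
  haveI := (imgSet_finite gx).to_subtype
  have := Nat.card_le_card_of_injective F hF
  rwa [Nat.card_fin, Nat.card_coe_set_eq] at this

theorem imgSet_small (B : EBasis) : (imgSet (B.el 1088 * gx)).ncard ≤ 2 ^ 50 := by
  have h := small_ok
  simp only [smallOK, Bool.and_eq_true, List.all_eq_true, decide_eq_true_eq] at h
  obtain ⟨⟨⟨⟨hA, -⟩, -⟩, hK⟩, hlt⟩ := h
  have hM : MOK (B.el 1088 * gx) (mB (evM eBasis 1088) J4Rep.matX) := (evM_ok B.mok 1088).mul mok_gens.1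
  refine le_trans (Set.ncard_le_ncard ?_ ((Set.finite_Iio (2 ^ 50)).image fun c => J4Rep.va c rkL2))
    ((Set.ncard_image_le (Set.finite_Iio _)).trans (le_of_eq ?_))
  · rintro _ ⟨v, rfl⟩
    refine ⟨J4Rep.va v.1 rkK, J4Rep.va_lt _ _ (List.all_eq_true.2 fun r hr => decide_eq_true (hlt r hr)), ?_⟩
    show J4Rep.va (J4Rep.va v.1 rkK) rkL2 = ((rhoG (B.el 1088 * gx)).symm v).1 ^^^ v.1
    rw [J4Rep.va_mmul, J4Rep.mmul, leq_eq hK, va_dmat (Nat.eq_of_beq_eq_true hA) v.2, hM.2]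
  · rw [Set.ncard_eq_toFinset_card', Set.toFinset_Iio, Nat.card_Iio]

theorem not_conj (B : EBasis) (z : Spor.J4) : B.el 1088 * gx ≠ z * gx * z⁻¹ := fun h => by
  have h1 := imgSet_conj gx z
  rw [← h] at h1
  have := (imgSet_big.trans h1).trans (imgSet_small B)
  rw [Nat.pow_le_pow_iff_right (by norm_num)] at this
  omega

/-- The first generator is conjugate to an element of the elementary abelian group. -/
theorem exists_conj (B : EBasis) : ∃ c : Spor.J4, B.el 14 = c * gx * c⁻¹ := by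
  obtain ⟨h, hh⟩ : ∃ h, h = wval letG hW := ⟨_, rfl⟩
  have hi : wval letG hWi = h⁻¹ := by
    have hxi : gx⁻¹ = gx := by rw [← jHom_px, ← map_inv, px_inv]
    simp [hh, hWi, hW, wval, letG, inv_eq_of_mul_eq_one_right t_sq, mul_assoc, hxi]
  have hP : MOK (gx * (h⁻¹ * B.el 14 * h)) prM := by
    rw [← hi, hh]
    exact mok_gens.1.mul (((wordM_ok hWi).mul (evM_ok B.mok 14)).mul (wordM_ok hW))
  have hpow : ∀ n, MOK ((gx * (h⁻¹ * B.el 14 * h)) ^ n) (powM n) := by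
    intro n
    induction n with
    | zero => simpa [powM] using MOK.one
    | succ n ih => rw [pow_succ']; exact hP.mul ih
  have h11 : (gx * (h⁻¹ * B.el 14 * h)) ^ 11 = 1 :=
    rhoG_injective (((leq_eq pow_ok) ▸ hpow 11).rho_one.trans (map_one _).symm)
  have hb : (h⁻¹ * B.el 14 * h) * (h⁻¹ * B.el 14 * h) = 1 := by
    calc _ = h⁻¹ * (B.el 14 * B.el 14) * h := by group
      _ = 1 := by rw [B.el_sq]; group
  have ha : gx * gx = 1 := by
    have hi := congrArg jHom px_inv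
    rw [map_inv, jHom_px] at hi
    nth_rw 1 [← hi]
    exact inv_mul_cancel gx
  refine ⟨h * (gx * (h⁻¹ * B.el 14 * h)) ^ 5, ?_⟩
  generalize hbe : h⁻¹ * B.el 14 * h = b at h11 hb ⊢
  have key : ∀ n : ℕ, gx * ((gx * b) ^ n)⁻¹ = (gx * b) ^ n * gx := by
    intro n
    induction n with
    | zero => simp
    | succ n ih =>
      rw [pow_succ, mul_inv_rev, mul_inv_rev, inv_eq_of_mul_eq_one_right ha, inv_eq_of_mul_eq_one_right hb]
      calc gx * (b * gx * ((gx * b) ^ n)⁻¹) = gx * b * (gx * ((gx * b) ^ n)⁻¹) := by group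
        _ = gx * b * ((gx * b) ^ n * gx) := by rw [ih]
        _ = (gx * b) ^ n * (gx * b) * gx := by rw [← mul_assoc, ← pow_succ', pow_succ]
  have e : b = (gx * b) ^ 5 * gx * ((gx * b) ^ 5)⁻¹ := by
    have h10 : (gx * b) ^ 10 = (gx * b)⁻¹ := eq_inv_of_mul_eq_one_left (by rw [← pow_succ]; exact h11)
    rw [mul_assoc, key 5, ← mul_assoc, ← pow_add, h10, mul_inv_rev, inv_eq_of_mul_eq_one_right ha,
      inv_eq_of_mul_eq_one_right hb, mul_assoc, ha, mul_one]
  calc B.el 14 = h * b * h⁻¹ := by rw [← hbe]; group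
    _ = h * ((gx * b) ^ 5 * gx * ((gx * b) ^ 5)⁻¹) * h⁻¹ := by rw [← e]
    _ = _ := by group

end Cfsg.Lib.J4Cert
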