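import Cfsg.Agent.J4Cert.SylE
import Cfsg.Agent.J4Cert.OutRank
import Cfsg.Agent.J4Cert.OutCent
import Cfsg.Agent.S2064
import Mathlib.GroupTheory.Sylow

/-!
Every automorphism of the presented group is inner.
-/

set_option autoImplicit false
set_option maxRecDepth 8000

namespace Cfsg.Lib.J4Cert

open Cfsg Cfsg.Lib.J4Pres Cfsg.Lib.CosetTable

attribute [local irreducible] pm rel idp ap cl eBasis sylEls invE

variable (B : EBasis)

/-- The Sylow subgroup. -/
noncomputable def EBasis.syl : Subgroup Spor.J4 where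
  carrier := {g | ∃ e ∈ B.E, ∃ a ∈ sylU B, g = e * jHom a}
  one_mem' := ⟨1, B.E.one_mem, 1, (sylU B).one_mem, by simp⟩
  mul_mem' := by
    rintro _ _ ⟨e, he, a, ha, rfl⟩ ⟨e', he', b, hb, rfl⟩
    refine ⟨e * (jHom a * e' * (jHom a)⁻¹), B.E.mul_mem he ?_, a * b, mul_mem ha hb, by rw [map_mul]; group⟩
    have := B.E_conj a⁻¹ he'
    rwa [map_inv, inv_inv] at this
  inv_mem' := by
    rintro _ ⟨e, he, a, ha, rfl⟩
    refine ⟨(jHom a)⁻¹ * e⁻¹ * jHom a, B.E_conj a (B.E.inv_mem he), a⁻¹, inv_mem ha, by rw [map_inv]; group⟩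

theorem EBasis.syl_facts : IsPGroup 2 B.syl ∧ ¬ 2 ∣ B.syl.index := by
  haveI := finite_J4
  haveI := finite_P
  have hU := card_sylU B
  let F : B.E × sylU B → B.syl := fun z => ⟨z.1 * jHom z.2, z.1, z.1.2, z.2, z.2.2, rfl⟩
  have hF : Function.Bijective F := by
    refine ⟨?_, ?_⟩
    · rintro ⟨e, a⟩ ⟨e', b⟩ h
      obtain ⟨h1, h2⟩ := B.dec_unique e.2 e'.2 (congrArg Subtype.val h)
      exact Prod.ext (Subtype.ext h1) (Subtype.ext h2)
    · rintro ⟨g, e, he, a, ha, rfl⟩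
      exact ⟨(⟨e, he⟩, ⟨a, ha⟩), rfl⟩
  have hc := Nat.card_eq_of_bijective F hF
  rw [Nat.card_prod, B.card_E] at hc
  have hU' : Nat.card (sylU B) ≤ 1024 := by
    classical
    choose g hg using fun a : sylU B => a.2
    refine (Nat.card_le_card_of_injective (fun a => (⟨g a, (hg a).1⟩ : Fin 1024)) fun a b h => ?_).trans
      (le_of_eq (Nat.card_fin _))
    have h' : g a = g b := congrArg Fin.val h
    exact Subtype.ext ((hg a).2.unique (h' ▸ (hg b).2))
  have hS : Nat.card B.syl = 2 ^ 21 := by rw [← hc, le_antisymm hU' hU]; norm_num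
  refine ⟨IsPGroup.of_card hS, ?_⟩
  have := Subgroup.card_mul_index B.syl
  rw [hS, card_J4.1] at this
  omega

theorem normalizer_E : Subgroup.normalizer (B.E : Set Spor.J4) = KJ := by
  haveI := finite_J4
  have hle : KJ ≤ Subgroup.normalizer (B.E : Set Spor.J4) := fun k hk => by
    obtain ⟨e, he, a, rfl⟩ := B.dec hk
    refine mul_mem (Subgroup.le_normalizer he) ?_
    rw [Subgroup.mem_normalizer_iff]
    intro x
    constructor
    · intro hx
      have := B.E_conj a⁻¹ hx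
      rwa [map_inv, inv_inv] at this
    · intro hx
      have := B.E_conj a hx
      simpa [mul_assoc] using this
  rcases maximal_KJ hle with h | h
  · exact h
  · exfalso
    haveI := simple_J4
    haveI : B.E.Normal := Subgroup.normalizer_eq_top_iff.1 h
    have hc := B.card_E
    rcases (‹B.E.Normal›).eq_bot_or_eq_top with h' | h' <;> rw [h'] at hc
    · simp at hc
    · rw [Subgroup.card_top, card_J4.1] at hc
      omega

/-- Inner automorphisms. -/
abbrev cj (g : Spor.J4) : MulAut Spor.J4 := MulAut.conj g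

theorem norm_auto (φ : MulAut Spor.J4) :
    ∃ g, (∀ e ∈ B.E, cj g (φ e) ∈ B.E) ∧ ∀ k ∈ KJ, cj g (φ k) ∈ KJ := by
  haveI := finite_J4
  haveI : Fact (Nat.Prime 2) := ⟨Nat.prime_two⟩
  obtain ⟨hp, hi⟩ := B.syl_facts
  let S : Sylow 2 Spor.J4 := hp.toSylow hi
  have hA : IsPGroup 2 (B.E.map φ.toMonoidHom) := by
    refine IsPGroup.of_card (n := 11) ?_
    rw [Nat.card_congr (B.E.equivMapOfInjective φ.toMonoidHom φ.injective).toEquiv.symm, B.card_E]
    norm_num
  obtain ⟨T, hT⟩ := hA.exists_le_sylow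
  obtain ⟨g, hg⟩ := MulAction.exists_smul_eq Spor.J4 T S
  have key : ∀ e ∈ B.E, cj g (φ e) ∈ B.syl := fun e he => by
    have h1 : φ e ∈ (T : Subgroup Spor.J4) := hT ⟨e, he, rfl⟩
    have h2 : cj g (φ e) ∈ ((g • T : Sylow 2 Spor.J4) : Subgroup Spor.J4) := by
      rw [Sylow.coe_subgroup_smul]
      exact Subgroup.smul_mem_pointwise_smul (φ e) (MulAut.conj g) _ h1
    rw [hg] at h2
    exact h2
  let ψ : MulAut Spor.J4 := φ.trans (cj g)
  have hcard : Nat.card (B.E.map ψ.toMonoidHom) = 2048 := by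
    rw [Nat.card_congr (B.E.equivMapOfInjective ψ.toMonoidHom ψ.injective).toEquiv.symm, B.card_E]
  have hEq : B.E.map ψ.toMonoidHom = B.E := by
    refine unique_E B _ ?_ ?_ ?_ hcard
    · rintro _ ⟨e, he, rfl⟩
      obtain ⟨e', he', a, ha, h⟩ := key e he
      exact ⟨e', he', a, ha, h⟩
    · rintro _ ⟨e, he, rfl⟩ _ ⟨e', he', rfl⟩
      obtain ⟨v, -, rfl⟩ := B.mem_E.1 he
      obtain ⟨w, -, rfl⟩ := B.mem_E.1 he'
      rw [← map_mul, ← map_mul, B.el_comm]
    · rintro _ ⟨e, he, rfl⟩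
      obtain ⟨v, -, rfl⟩ := B.mem_E.1 he
      rw [← map_mul, B.el_sq, map_one]
  have hmem : ∀ e ∈ B.E, ψ e ∈ B.E := fun e he => by
    rw [← hEq]
    exact ⟨e, he, rfl⟩
  refine ⟨g, hmem, fun k hk => ?_⟩
  rw [← normalizer_E B] at hk ⊢
  rw [Subgroup.mem_normalizer_iff] at hk ⊢
  intro x
  have hx : ∀ y, ψ y ∈ B.E ↔ y ∈ B.E := fun y => by
    constructor
    · intro h
      rw [← hEq] at h
      obtain ⟨z, hz, hzy⟩ := h
      rwa [ψ.injective hzy] at hz
    · exact hmem y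
  obtain ⟨y, rfl⟩ := ψ.surjective x
  show ψ y ∈ B.E ↔ ψ k * ψ y * (ψ k)⁻¹ ∈ B.E
  rw [← map_inv, ← map_mul, ← map_mul, hx, hx]
  exact hk y

theorem out_P (α : MulAut P) : ∃ a : P, ∀ s, α s = a * s * a⁻¹ := by
  have h := (Nat.card_eq_one_iff_unique.1 Cfsg.Agent.S2064.result).1
  let β : MulAut M24 := (equivM24.symm.trans α).trans equivM24
  obtain ⟨m, hm⟩ : β ∈ Inn M24 := by
    have : ((β : MulAut M24) : Cfsg.Out M24) = ((1 : MulAut M24) : Cfsg.Out M24) := h.elim _ _
    rw [QuotientGroup.eq, mul_one] at this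
    exact inv_mem_iff.1 this
  refine ⟨equivM24.symm m, fun s => equivM24.injective ?_⟩
  have := congrArg (fun e : MulAut M24 => e (equivM24 s)) hm
  simp only [β, MulAut.conj_apply, MulEquiv.trans_apply, MulEquiv.symm_apply_apply] at this
  rw [map_mul, map_mul, map_inv, MulEquiv.apply_symm_apply]
  exact this.symm

theorem norm_quot (φ : MulAut Spor.J4) :
    ∃ g, (∀ e ∈ B.E, cj g (φ e) ∈ B.E) ∧ ∀ s : P, ∃ e ∈ B.E, cj g (φ (jHom s)) = e * jHom s := by
  haveI := finite_P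
  obtain ⟨g, hE, hK⟩ := norm_auto B φ
  let ψ : MulAut Spor.J4 := φ.trans (cj g)
  have hdec : ∀ s : P, ∃ e ∈ B.E, ∃ a : P, ψ (jHom s) = e * jHom a := fun s =>
    B.dec (hK _ (HJ_le ⟨s, rfl⟩))
  choose c hc f hf using hdec
  have hmul : ∀ s s', f (s * s') = f s * f s' := fun s s' => by
    have h1 : jHom (f s) * c s' * (jHom (f s))⁻¹ ∈ B.E := by
      have := B.E_conj (f s)⁻¹ (hc s')
      rwa [map_inv, inv_inv] at this
    have h3 : c (s * s') * jHom (f (s * s')) = c s * (jHom (f s) * c s' * (jHom (f s))⁻¹) * jHom (f s * f s') := by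
      rw [← hf, map_mul, map_mul, hf, hf, map_mul]
      group
    exact (B.dec_unique (hc _) (B.E.mul_mem (hc s) h1) h3).2
  let F : P →* P := MonoidHom.mk' f hmul
  have hinj : Function.Injective F := by
    rw [← MonoidHom.ker_eq_bot_iff, Subgroup.eq_bot_iff_forall]
    intro s hs
    have hs' : f s = 1 := hs
    have h := hf s
    rw [hs', map_one, mul_one] at h
    have he : jHom s ∈ B.E := by
      have himg : B.E.map ψ.toMonoidHom = B.E := by
        haveI := finite_J4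
        refine Subgroup.eq_of_le_of_card_ge (by rintro _ ⟨e, he, rfl⟩; exact hE e he) ?_
        rw [Nat.card_congr (B.E.equivMapOfInjective ψ.toMonoidHom ψ.injective).toEquiv.symm]
      have : ψ (jHom s) ∈ B.E.map ψ.toMonoidHom := by rw [himg, h]; exact hc s
      obtain ⟨e, he, hes⟩ := this
      rwa [ψ.injective hes] at he
    exact B.E_inter he
  obtain ⟨a, ha⟩ := out_P (MulEquiv.ofBijective F (Finite.injective_iff_bijective.1 hinj))
  refine ⟨(jHom a)⁻¹ * g, fun e he => ?_, fun s => ?_⟩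
  · show ((jHom a)⁻¹ * g) * φ e * ((jHom a)⁻¹ * g)⁻¹ ∈ B.E
    have := B.E_conj a (hE e he)
    simpa [cj, mul_assoc] using this
  · refine ⟨(jHom a)⁻¹ * c s * jHom a, B.E_conj a (hc s), ?_⟩
    have h : g * φ (jHom s) * g⁻¹ = c s * jHom (f s) := hf s
    have hs : f s = a * s * a⁻¹ := ha s
    show ((jHom a)⁻¹ * g) * φ (jHom s) * ((jHom a)⁻¹ * g)⁻¹ = _
    calc _ = (jHom a)⁻¹ * (g * φ (jHom s) * g⁻¹) * jHom a := by group
      _ = _ := by rw [h, hs, map_mul, map_mul, map_inv]; group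

/-- An automorphism fixing the elementary abelian group that moves the letters only inside it. -/
def Fix0 (ψ : MulAut Spor.J4) : Prop :=
  (∀ v, ψ (B.el v) = B.el v) ∧ (∃ c < 2048, ψ gx = B.el c * gx) ∧ ∃ c < 2048, ψ gy = B.el c * gy

theorem fix_E (ψ : MulAut Spor.J4) (hE : ∀ e ∈ B.E, ψ e ∈ B.E)
    (hs : ∀ s : P, ∃ e ∈ B.E, ψ (jHom s) = e * jHom s) : Fix0 B ψ := by
  have hlet : ∀ {w : List ℕ}, w.all (fun l => Nat.blt l 3) = true → Acts B (wval im w) (vword w) :=
    fun h => Acts.word B _ h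
  have hequi : ∀ {a : P} {M : List ℕ}, Acts B a M → ∀ v < 2048, ∀ w < 2048, ψ (B.el v) = B.el w →
      ψ (B.el (J4Rep.va v M)) = B.el (J4Rep.va w M) := by
    intro a M hM v hv w hw h
    obtain ⟨e, he, hea⟩ := hs a
    obtain ⟨u, -, rfl⟩ := B.mem_E.1 he
    rw [← hM.2 v hv, ← hM.2 w hw, map_mul, map_mul, map_inv, hea, h, mul_inv_rev, B.el_inv]
    calc (jHom a)⁻¹ * B.el u * B.el w * (B.el u * jHom a) = (jHom a)⁻¹ * (B.el u * B.el w * B.el u) * jHom a := by
          group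
      _ = _ := by rw [B.el_comm u w, mul_assoc (B.el w), B.el_sq, mul_one]
  have h1 : ψ (B.el 1) = B.el 1 := by
    obtain ⟨w, hw, hwe⟩ := B.mem_E.1 (hE (B.el 1) (B.mem_E.2 ⟨1, by norm_num, rfl⟩))
    have h := st_ok
    simp only [stOK, Bool.and_eq_true, List.all_eq_true, List.mem_range, Bool.or_eq_true, List.any_eq_true,
      Bool.not_eq_true'] at h
    obtain ⟨⟨hl, h1M⟩, hv⟩ := h
    rcases hv w hw with hle | ⟨M, hM, hne⟩
    · have := Nat.le_of_ble_eq_true hle
      rcases Nat.le_one_iff_eq_zero_or_eq_one.1 this with rfl | rfl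
      · exfalso
        rw [B.el_zero] at hwe
        have := B.el_inj (v := 1) (w := 0) (by norm_num) (by norm_num)
          (by rw [B.el_zero]; exact ψ.injective (hwe.symm.trans (map_one ψ).symm))
        omega
      · exact hwe.symm
    · exfalso
      obtain ⟨wd, hwd, rfl⟩ := List.mem_map.1 hM
      have hA : Acts B (wval im wd) (vword wd) := hlet (List.all_eq_true.2 (hl wd hwd))
      have := hequi hA 1 (by norm_num) w hw hwe.symm
      rw [Nat.eq_of_beq_eq_true (h1M _ hM), ← hwe] at this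
      exact Nat.ne_of_beq_eq_false hne (B.el_inj (va_lt11 hA.1 w) hw this.symm)
  have hpow : ∀ k < 11, ψ (B.el (2 ^ k)) = B.el (2 ^ k) := by
    intro k
    induction k using Nat.strong_induction_on with
    | _ k ih =>
      intro hk
      rcases k with _ | m
      · simpa using h1
      · have hp := parV_ok
        simp only [parV, List.all_eq_true] at hp
        have hlen := eBasis_shape.2.1
        have hm : m < ePar.length := by omega
        have hstep := Nat.eq_of_beq_eq_true (hp (ePar[m], m) (List.mem_iff_getElem.2 ⟨m, by simpa using hm, by simp⟩))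
        obtain ⟨hq, hl⟩ : ePar[m].1 ≤ m ∧ ePar[m].2 < 3 :=
          (by decide +kernel : ∀ e ∈ ePar.zipIdx, e.1.1 ≤ e.2 ∧ e.1.2 < 3) (ePar[m], m)
            (List.mem_iff_getElem.2 ⟨m, by simpa using hm, by simp⟩)
        have hA := hlet (w := [ePar[m].2]) (by simp only [List.all_cons, List.all_nil, Bool.and_true, Nat.blt_eq]; exact hl)
        have hlt : (2 : ℕ) ^ ePar[m].1 < 2048 :=
          lt_of_lt_of_le (Nat.pow_lt_pow_right (by norm_num) (by omega : ePar[m].1 < 11)) (by norm_num)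
        have := hequi hA _ hlt _ hlt (ih _ (by omega) (by omega))
        have e : J4Rep.va (2 ^ ePar[m].1) (vword [ePar[m].2]) = 2 ^ (m + 1) := by
          rw [show vword [ePar[m].2] = J4Rep.mmul (eRows.getD ePar[m].2 []) id11 from rfl, ← J4Rep.va_mmul, hstep]
          exact va_pows_id (Nat.pow_lt_pow_right (by norm_num) hk)
        rwa [e] at this
  have hall : ∀ L : List ℕ, (∀ r ∈ L, ψ (B.el r) = B.el r) → ∀ v, ψ (B.el (J4Rep.va v L)) = B.el (J4Rep.va v L) := by
    intro L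
    induction L with
    | nil => intro _ v; simp [J4Rep.va, B.el_zero]
    | cons r L ih =>
      intro h v
      simp only [List.forall_mem_cons] at h
      rw [J4Rep.va, B.el_xor, map_mul, ih h.2]
      split_ifs
      · rw [h.1]
      · rw [B.el_zero, map_one]
  refine ⟨fun v => ?_, ?_, ?_⟩
  · have hmem : B.el v ∈ B.E := by
      show rhoG _ ∈ B.sub
      rw [B.rho_el]
      refine ⟨v % 2 ^ 11, Nat.mod_lt _ (by norm_num), ?_⟩
      have hlen : B.img.length = 11 := by simp [EBasis.img, B.len]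
      have key : ∀ (l : List (Equiv.Perm J4Rep.Vec)) (u : ℕ), ev l (u % 2 ^ l.length) = ev l u := by
        intro l
        induction l with
        | nil => intro u; rfl
        | cons g l ih =>
          intro u
          rw [ev, ev, List.length_cons, pow_succ', Nat.mod_mul_right_div_self, ih, Nat.mod_mul_right_mod]
      have := key B.img v
      rwa [hlen] at this
    obtain ⟨w, hw, hwv⟩ := B.mem_E.1 hmem
    rw [← hwv, ← va_pows_id (n := 11) hw]
    refine hall _ (fun r hr => ?_) w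
    obtain ⟨i, hi, rfl⟩ := List.mem_map.1 hr
    simp only [List.mem_range'_1] at hi
    exact hpow i (by omega)
  · obtain ⟨e, he, h⟩ := hs px
    obtain ⟨c, hc, rfl⟩ := B.mem_E.1 he
    exact ⟨c, hc, by rwa [jHom_px] at h⟩
  · obtain ⟨e, he, h⟩ := hs py
    obtain ⟨c, hc, rfl⟩ := B.mem_E.1 he
    exact ⟨c, hc, by rwa [jHom_py] at h⟩

theorem gy_el (v : ℕ) : gy * B.el v = B.el (J4Rep.va v (eRows.getD 2 [])) * gy := by
  rw [← B.el_conj (by norm_num : 2 < 3), show letG 2 = gy⁻¹ from rfl, inv_inv, inv_mul_cancel_right]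

theorem gx_el (v : ℕ) : gx * B.el v = B.el (J4Rep.va v (eRows.getD 0 [])) * gx := by
  have hx : gx⁻¹ = gx := by rw [← jHom_px, ← map_inv, px_inv]
  have hx2 : gx * gx = 1 := by nth_rw 1 [← hx]; exact inv_mul_cancel gx
  rw [← B.el_conj (by norm_num : 0 < 3), show letG 0 = gx from rfl, hx, mul_assoc, hx2, mul_one]

theorem rows_lt {l : ℕ} (hl : l < 3) : ∀ r ∈ eRows.getD l [], r < 2 ^ 11 :=
  (by decide +kernel : ∀ l < 3, ∀ r ∈ eRows.getD l [], r < 2 ^ 11) l hl

theorem adjust (ψ : MulAut Spor.J4) (h : Fix0 B ψ) :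
    ∃ g, ∀ v, cj g (ψ (B.el v)) = B.el v ∧ cj g (ψ gy) = gy ∧
      (cj g (ψ gx) = gx ∨ cj g (ψ gx) = B.el 1088 * gx) := by
  obtain ⟨hE, ⟨cx, hcx, hX⟩, cy, hcy, hY⟩ := h
  have lt2 : ∀ v, J4Rep.va v (eRows.getD 2 []) < 2048 := va_lt11 (rows_lt (by norm_num))
  have lt0 : ∀ v, J4Rep.va v (eRows.getD 0 []) < 2048 := va_lt11 (rows_lt (by norm_num))
  have y3 : gy * gy * gy = 1 := by
    have := congrArg jHom y_cube
    rwa [map_pow, map_one, jHom_py, pow_three, ← mul_assoc] at this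
  have hx2 : gx * gx = 1 := by
    have := congrArg jHom px_inv
    rw [map_inv, jHom_px] at this
    nth_rw 1 [← this]
    exact inv_mul_cancel gx
  have ny : cy ^^^ J4Rep.va cy (eRows.getD 2 []) ^^^ J4Rep.va (J4Rep.va cy (eRows.getD 2 [])) (eRows.getD 2 []) = 0 := by
    refine B.el_inj (Nat.xor_lt_two_pow (n := 11) (Nat.xor_lt_two_pow hcy (lt2 _)) (lt2 _)) (by norm_num) ?_
    have h3 := congrArg ψ y3
    rw [map_mul, map_mul, hY, map_one] at h3
    rw [B.el_zero, B.el_xor, B.el_xor]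
    calc B.el cy * B.el (J4Rep.va cy (eRows.getD 2 [])) * B.el (J4Rep.va (J4Rep.va cy (eRows.getD 2 [])) (eRows.getD 2 []))
        = B.el cy * B.el (J4Rep.va cy (eRows.getD 2 [])) *
            B.el (J4Rep.va (J4Rep.va cy (eRows.getD 2 [])) (eRows.getD 2 [])) * (gy * gy * gy) := by
          rw [y3, mul_one]
      _ = B.el cy * gy * (B.el cy * gy) * (B.el cy * gy) := by
          rw [show B.el cy * gy * (B.el cy * gy) * (B.el cy * gy) =
            B.el cy * (gy * B.el cy) * (gy * B.el cy) * gy by group, gy_el B cy]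
          simp only [mul_assoc]
          rw [← mul_assoc gy (B.el (J4Rep.va cy _)), gy_el B (J4Rep.va cy _)]
          simp only [mul_assoc]
      _ = 1 := h3
  have hcob := cobY_ok
  simp only [cobY, Bool.and_eq_true, List.all_eq_true, List.mem_range, Bool.or_eq_true, Bool.not_eq_true',
    List.any_eq_true] at hcob
  obtain ⟨e, hew, he⟩ : ∃ e ∈ yWit, Nat.beq (e ^^^ J4Rep.va e (eRows.getD 2 [])) cy = true := by
    rcases hcob.2 cy hcy with h | h
    · exact absurd ny (Nat.ne_of_beq_eq_false h)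
    · exact h
  have he' := Nat.eq_of_beq_eq_true he
  have hshift : ∀ (d c : ℕ) (x : Spor.J4) (r : List ℕ), x * B.el d = B.el (J4Rep.va d r) * x →
      B.el d * (B.el c * x) * (B.el d)⁻¹ = B.el (d ^^^ c ^^^ J4Rep.va d r) * x := by
    intro d c x r hr
    rw [B.el_inv, B.el_xor, B.el_xor]
    simp only [mul_assoc]
    rw [hr]
  have hy1 : cj (B.el e) (ψ gy) = gy := by
    show B.el e * ψ gy * (B.el e)⁻¹ = gy
    rw [hY, hshift e cy gy _ (gy_el B e), ← he']
    rw [show e ^^^ (e ^^^ J4Rep.va e (eRows.getD 2 [])) ^^^ J4Rep.va e (eRows.getD 2 []) = 0 by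
      rw [← Nat.xor_assoc, Nat.xor_self, Nat.zero_xor, Nat.xor_self], B.el_zero, one_mul]
  obtain ⟨d, hd, hX1⟩ : ∃ d < 2048, cj (B.el e) (ψ gx) = B.el d * gx := by
    refine ⟨e ^^^ cx ^^^ J4Rep.va e (eRows.getD 0 []), Nat.xor_lt_two_pow (n := 11)
      (Nat.xor_lt_two_pow ?_ hcx) (lt0 _), ?_⟩
    · exact Nat.le_of_ble_eq_true (hcob.1 e hew)
    · show B.el e * ψ gx * (B.el e)⁻¹ = _
      rw [hX, hshift e cx gx _ (gx_el B e)]
  have hE1 : ∀ v, cj (B.el e) (ψ (B.el v)) = B.el v := fun v => by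
    show B.el e * ψ (B.el v) * (B.el e)⁻¹ = B.el v
    rw [hE, B.el_comm e v, mul_inv_cancel_right]
  have nx : d ^^^ J4Rep.va d (eRows.getD 0 []) = 0 := by
    refine B.el_inj (Nat.xor_lt_two_pow (n := 11) hd (lt0 _)) (by norm_num) ?_
    have h2 := congrArg (fun u => cj (B.el e) (ψ u)) hx2
    simp only [map_mul, map_one, hX1] at h2
    rw [B.el_zero, B.el_xor, ← h2]
    calc B.el d * B.el (J4Rep.va d (eRows.getD 0 [])) = B.el d * (B.el (J4Rep.va d (eRows.getD 0 [])) * gx) * gx := by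
          rw [mul_assoc, mul_assoc, hx2, mul_one]
      _ = _ := by rw [← gx_el B d]; simp only [mul_assoc]
  have hcobx := cobX_ok
  simp only [cobX, Bool.and_eq_true, List.all_eq_true, List.mem_range, Bool.or_eq_true, Bool.not_eq_true',
    List.any_eq_true] at hcobx
  obtain ⟨f, hf, hfd⟩ : ∃ f ∈ yFix, Nat.beq (f ^^^ d ^^^ J4Rep.va f (eRows.getD 0 [])) 0 = true ∨
      Nat.beq (f ^^^ d ^^^ J4Rep.va f (eRows.getD 0 [])) 1088 = true := by
    rcases hcobx.2 d hd with h | h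
    · exact absurd nx (Nat.ne_of_beq_eq_false h)
    · exact h
  have hfy := Nat.eq_of_beq_eq_true (hcobx.1 f hf).2
  refine ⟨B.el f * B.el e, fun v => ?_⟩
  have hcc : ∀ u, cj (B.el f * B.el e) u = B.el f * cj (B.el e) u * (B.el f)⁻¹ := fun u => by
    simp [cj, mul_assoc]
  refine ⟨?_, ?_, ?_⟩
  · rw [hcc, hE1, B.el_comm f v, mul_inv_cancel_right]
  · rw [hcc, hy1, B.el_inv, mul_assoc, gy_el, hfy, ← mul_assoc, B.el_sq, one_mul]
  · rw [hcc, hX1, hshift f d gx _ (gx_el B f)]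
    rcases hfd with h | h
    · left; rw [Nat.eq_of_beq_eq_true h, B.el_zero, one_mul]
    · right; rw [Nat.eq_of_beq_eq_true h]

theorem wP_fix : ∀ v < 2048, J4Rep.va v (eRows.getD 0 []) = v → J4Rep.va v (vword wWord) = v → v = 0 := by
  decide +kernel

theorem fixes_gt (ψ : MulAut Spor.J4) (hE : ∀ v, ψ (B.el v) = B.el v) (hP : ∀ s, ψ (jHom s) = jHom s) :
    ψ gt = gt := by
  haveI := finite_J4
  have hK : ∀ k ∈ KJ, ψ k = k := fun k hk => by
    obtain ⟨e, he, a, rfl⟩ := B.dec hk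
    obtain ⟨v, -, rfl⟩ := B.mem_E.1 he
    rw [map_mul, hE, hP]
  have hu : ψ gt ∉ KJ := fun h => by
    have hgt : gt ∈ KJ := by
      have := ψ.injective (hK _ h)
      rwa [← this]
    have htop : KJ = ⊤ := by
      rw [eq_top_iff, ← closure_gt, Subgroup.closure_le]
      rintro x (⟨a, rfl⟩ | rfl)
      · exact HJ_le ⟨a, rfl⟩
      · exact hgt
    have := index_KJ_eq
    rw [htop, Subgroup.index_top] at this
    omega
  have hx : ψ gt * gx = gx * ψ gt := by
    have := congrArg ψ comm_x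
    rw [← jHom_px] at this ⊢
    rwa [map_mul, map_mul, hP] at this
  have hw : ψ gt * jHom wP = jHom wP * ψ gt := by
    have := congrArg ψ comm_w
    rwa [map_mul, map_mul, hP] at this
  have hk := fixed_coset hu hx hw
  have cgt : ∀ q : Spor.J4, gt * q = q * gt → ψ gt * q = q * ψ gt → gt⁻¹ * ψ gt * q = q * (gt⁻¹ * ψ gt) := by
    intro q h1 h2
    calc gt⁻¹ * ψ gt * q = gt⁻¹ * (q * gt) * (gt⁻¹ * ψ gt) := by rw [mul_assoc, h2]; group
      _ = _ := by rw [← h1]; group
  have kx := cgt gx comm_x hx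
  have kw := cgt (jHom wP) comm_w hw
  generalize hk' : gt⁻¹ * ψ gt = k at hk kx kw
  obtain ⟨e, he, b, rfl⟩ := B.dec hk
  obtain ⟨v, hv, rfl⟩ := B.mem_E.1 he
  have hb : ∀ (q : P) (r : List ℕ), Acts B q r → B.el v * jHom b * jHom q = jHom q * (B.el v * jHom b) →
      b * q = q * b ∧ J4Rep.va v r = v := by
    intro q r hr h
    have he2 : jHom q * B.el v * (jHom q)⁻¹ ∈ B.E := by
      have := B.E_conj q⁻¹ (B.mem_E.2 ⟨v, hv, rfl⟩)
      rwa [map_inv, inv_inv] at this
    obtain ⟨e1, e2⟩ := B.dec_unique (b := q * b) (e := B.el v) (a := b * q) (B.mem_E.2 ⟨v, hv, rfl⟩) he2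
      (by rw [map_mul, map_mul, ← mul_assoc, h]; group)
    refine ⟨e2, (B.el_inj (va_lt11 hr.1 v) hv ?_)⟩
    rw [← hr.2 v hv]
    nth_rw 1 [e1]
    group
  have hax : Acts B px (eRows.getD 0 []) := by
    refine ⟨rows_lt (by norm_num), fun u _ => ?_⟩
    rw [jHom_px]
    exact B.el_conj (by norm_num : 0 < 3) u
  have haw : Acts B wP (vword wWord) := wval_wWord ▸ Acts.word B wWord (by decide)
  obtain ⟨bx, vx⟩ := hb px _ hax (by rw [jHom_px]; exact kx)
  obtain ⟨bw, vw⟩ := hb wP _ haw kw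
  rw [centralizer_trivial bx bw, wP_fix v hv vx vw, B.el_zero, map_one, mul_one, inv_mul_eq_one] at hk'
  exact hk'.symm

theorem out_J4 : Nat.card (Cfsg.Out Spor.J4) = 1 := by
  haveI := finite_J4
  obtain ⟨B⟩ := exists_basis
  suffices h : Inn Spor.J4 = ⊤ by
    show (Inn Spor.J4).index = 1
    rw [h, Subgroup.index_top]
  rw [eq_top_iff]
  intro φ _
  obtain ⟨g, hE, hs⟩ := norm_quot B φ
  obtain ⟨f, hf⟩ := adjust B (φ.trans (cj g)) (fix_E B _ hE hs)
  obtain ⟨ψ, hψ⟩ : ∃ ψ : MulAut Spor.J4, ψ = φ.trans (cj (f * g)) := ⟨_, rfl⟩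
  have hψ' : ∀ u, ψ u = cj f (cj g (φ u)) := fun u => by simp [hψ, cj, mul_assoc]
  have hy : ψ gy = gy := by rw [hψ']; exact (hf 0).2.1
  have hEv : ∀ v, ψ (B.el v) = B.el v := fun v => by rw [hψ']; exact (hf v).1
  have hx : ψ gx = gx := by
    rcases (hf 0).2.2 with h | h
    · rw [hψ']; exact h
    · exfalso
      obtain ⟨c, hc⟩ := exists_conj B
      have h14 := congrArg ψ hc
      rw [hEv, map_mul, map_mul, map_inv, hψ' gx] at h14
      rw [show cj f (cj g (φ gx)) = B.el 1088 * gx from h, hc] at h14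
      refine not_conj B ((ψ c)⁻¹ * c) ?_
      calc B.el 1088 * gx = (ψ c)⁻¹ * (ψ c * (B.el 1088 * gx) * (ψ c)⁻¹) * ψ c := by group
        _ = _ := by rw [← h14]; group
  have hP : ∀ s, ψ (jHom s) = jHom s := by
    have e : ψ.toMonoidHom.comp jHom = jHom := PresentedGroup.ext fun b => by
      cases b
      · show ψ (jHom py) = jHom py
        rw [jHom_py]; exact hy
      · show ψ (jHom px) = jHom px
        rw [jHom_px]; exact hx
    exact fun s => DFunLike.congr_fun e s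
  have ht := fixes_gt B ψ hEv hP
  have hid : ψ.toMonoidHom = MonoidHom.id _ := PresentedGroup.ext fun b => by
    cases b
    · exact hx
    · exact hy
    · exact ht
  refine ⟨(f * g)⁻¹, MulEquiv.ext fun u => ?_⟩
  have hu : ψ u = u := DFunLike.congr_fun hid u
  rw [hψ] at hu
  have hu' : f * g * φ u * (f * g)⁻¹ = u := hu
  show (f * g)⁻¹ * u * (f * g)⁻¹⁻¹ = φ u
  nth_rw 1 [← hu']
  group

end Cfsg.Lib.J4Cert
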