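import Cfsg.Agent.J4Pres.Main

/-!
Packed permutations of 24 points for elements of the group presented on two letters, and the relation of two
colourings.
-/

set_option autoImplicit false
set_option maxRecDepth 4000

namespace Cfsg.Lib.J4Cert

open Cfsg.Lib.J4Pres

/-- The image of a point under a packed permutation. -/
def ap (p i : ℕ) : ℕ := Nat.land (Nat.shiftRight p (Nat.mul 8 i)) 255

/-- The identity. -/
def idp : ℕ := 0x17161514131211100f0e0d0c0b0a09080706050403020100

/-- The product, the right factor first. -/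
def pm (a b : ℕ) : ℕ :=
  Nat.add (ap a (ap b 0))
    (Nat.shiftLeft (Nat.add (ap a (ap b 1))
    (Nat.shiftLeft (Nat.add (ap a (ap b 2))
    (Nat.shiftLeft (Nat.add (ap a (ap b 3))
    (Nat.shiftLeft (Nat.add (ap a (ap b 4))
    (Nat.shiftLeft (Nat.add (ap a (ap b 5))
    (Nat.shiftLeft (Nat.add (ap a (ap b 6))
    (Nat.shiftLeft (Nat.add (ap a (ap b 7))
    (Nat.shiftLeft (Nat.add (ap a (ap b 8))
    (Nat.shiftLeft (Nat.add (ap a (ap b 9))
    (Nat.shiftLeft (Nat.add (ap a (ap b 10))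
    (Nat.shiftLeft (Nat.add (ap a (ap b 11))
    (Nat.shiftLeft (Nat.add (ap a (ap b 12))
    (Nat.shiftLeft (Nat.add (ap a (ap b 13))
    (Nat.shiftLeft (Nat.add (ap a (ap b 14))
    (Nat.shiftLeft (Nat.add (ap a (ap b 15))
    (Nat.shiftLeft (Nat.add (ap a (ap b 16))
    (Nat.shiftLeft (Nat.add (ap a (ap b 17))
    (Nat.shiftLeft (Nat.add (ap a (ap b 18))
    (Nat.shiftLeft (Nat.add (ap a (ap b 19))
    (Nat.shiftLeft (Nat.add (ap a (ap b 20))
    (Nat.shiftLeft (Nat.add (ap a (ap b 21))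
    (Nat.shiftLeft (Nat.add (ap a (ap b 22))
    (Nat.shiftLeft (ap a (ap b 23)) 8)) 8)) 8)) 8)) 8)) 8)) 8)) 8)) 8)) 8)) 8)) 8)) 8)) 8)) 8)) 8)) 8)) 8)) 8)) 8)) 8)) 8)) 8)

/-- The colour of a point. -/
def cl (c i : ℕ) : ℕ := Nat.land (Nat.shiftRight c (Nat.mul 4 i)) 15

/-- The bit of a pair of colours. -/
def bit (c x y : ℕ) : ℕ := Nat.shiftLeft 1 (Nat.add (Nat.mul 16 (cl c x)) (cl c y))

/-- The pairs of colours met by two colourings. -/
def rel (c u v : ℕ) : ℕ :=
  Nat.lor (bit c (ap v 0) (ap u 0))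
    (Nat.lor (bit c (ap v 1) (ap u 1))
    (Nat.lor (bit c (ap v 2) (ap u 2))
    (Nat.lor (bit c (ap v 3) (ap u 3))
    (Nat.lor (bit c (ap v 4) (ap u 4))
    (Nat.lor (bit c (ap v 5) (ap u 5))
    (Nat.lor (bit c (ap v 6) (ap u 6))
    (Nat.lor (bit c (ap v 7) (ap u 7))
    (Nat.lor (bit c (ap v 8) (ap u 8))
    (Nat.lor (bit c (ap v 9) (ap u 9))
    (Nat.lor (bit c (ap v 10) (ap u 10))
    (Nat.lor (bit c (ap v 11) (ap u 11))
    (Nat.lor (bit c (ap v 12) (ap u 12))
    (Nat.lor (bit c (ap v 13) (ap u 13))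
    (Nat.lor (bit c (ap v 14) (ap u 14))
    (Nat.lor (bit c (ap v 15) (ap u 15))
    (Nat.lor (bit c (ap v 16) (ap u 16))
    (Nat.lor (bit c (ap v 17) (ap u 17))
    (Nat.lor (bit c (ap v 18) (ap u 18))
    (Nat.lor (bit c (ap v 19) (ap u 19))
    (Nat.lor (bit c (ap v 20) (ap u 20))
    (Nat.lor (bit c (ap v 21) (ap u 21))
    (Nat.lor (bit c (ap v 22) (ap u 22))
    (bit c (ap v 23) (ap u 23))))))))))))))))))))))))

/-- The graph of a map of colours. -/
def graph : ℕ → ℕ → ℕ
  | _, 0 => 0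
  | π, m + 1 => graph π m ||| 2 ^ (16 * m + cl π m)

/-- The bytes of a list, packed. -/
def hor : List ℕ → ℕ
  | [] => 0
  | a :: l => Nat.add a (Nat.shiftLeft (hor l) 8)

/-- The union of a list of masks. -/
def lorL : List ℕ → ℕ
  | [] => 0
  | [a] => a
  | a :: b :: l => Nat.lor a (lorL (b :: l))

theorem ap_eq (p i : ℕ) : ap p i = p / 256 ^ i % 256 := by
  show (p >>> (8 * i)) &&& (2 ^ 8 - 1) = _
  rw [Nat.and_two_pow_sub_one_eq_mod, Nat.shiftRight_eq_div_pow, pow_mul]
  norm_num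

theorem ap_lt (p i : ℕ) : ap p i < 256 := by
  rw [ap_eq]
  exact Nat.mod_lt _ (by norm_num)

theorem ap_hor : ∀ (l : List ℕ), (∀ x ∈ l, x < 256) → ∀ i, ap (hor l) i = l.getD i 0
  | [], _, i => by simp [hor, ap_eq]
  | a :: l, h, i => by
    have ha := h a List.mem_cons_self
    have e : hor (a :: l) = a + 256 * hor l := by
      show a + hor l <<< 8 = _
      rw [Nat.shiftLeft_eq]
      ring
    cases i with
    | zero => rw [ap_eq, e, pow_zero, Nat.div_one, Nat.add_mul_mod_self_left, Nat.mod_eq_of_lt ha]; rfl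
    | succ i =>
      rw [List.getD_cons_succ, ← ap_hor l (fun x hx => h x (List.mem_cons_of_mem a hx)) i, ap_eq, ap_eq, e,
        pow_succ', ← Nat.div_div_eq_div_mul, Nat.add_mul_div_left _ _ (by norm_num), Nat.div_eq_of_lt ha, zero_add]

theorem pm_eq (a b : ℕ) : pm a b = hor ((List.range 24).map fun i => ap a (ap b i)) := rfl

theorem ap_pm (a b : ℕ) {i : ℕ} (hi : i < 24) : ap (pm a b) i = ap a (ap b i) := by
  rw [pm_eq, ap_hor _ (fun x hx => by
    obtain ⟨j, -, rfl⟩ := List.mem_map.1 hx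
    exact ap_lt _ _)]
  simp [hi]

theorem rel_eq (c u v : ℕ) : rel c u v = lorL ((List.range 24).map fun i => bit c (ap v i) (ap u i)) := rfl

theorem testBit_lorL : ∀ (l : List ℕ) (x : ℕ), x ∈ l → ∀ k, x.testBit k = true → (lorL l).testBit k = true
  | [a], x, hx, k, hk => by
    rw [List.mem_singleton.1 hx] at hk
    exact hk
  | a :: b :: l, x, hx, k, hk => by
    show (a ||| lorL (b :: l)).testBit k = true
    rw [Nat.testBit_or, Bool.or_eq_true]
    rcases List.mem_cons.1 hx with rfl | hx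
    · exact Or.inl hk
    · exact Or.inr (testBit_lorL (b :: l) x hx k hk)

theorem cl_lt (c i : ℕ) : cl c i < 16 := by
  show (c >>> (4 * i)) &&& 15 < 16
  exact Nat.lt_succ_of_le Nat.and_le_right

theorem testBit_graph (π : ℕ) : ∀ (m a b : ℕ), b < 16 → (graph π m).testBit (16 * a + b) = true →
    a < m ∧ b = cl π a
  | 0, a, b, _, h => by simp [graph] at h
  | m + 1, a, b, hb, h => by
    rw [graph, Nat.testBit_or, Bool.or_eq_true, Nat.testBit_two_pow, decide_eq_true_eq] at h
    rcases h with h | h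
    · obtain ⟨h1, h2⟩ := testBit_graph π m a b hb h
      exact ⟨Nat.lt_succ_of_lt h1, h2⟩
    · have := cl_lt π m
      obtain rfl : a = m := by omega
      exact ⟨Nat.lt_succ_self a, by omega⟩

theorem rel_sound {c u v π m : ℕ} (h : rel c u v = graph π m) {i : ℕ} (hi : i < 24) :
    cl c (ap u i) = cl π (cl c (ap v i)) ∧ cl c (ap v i) < m := by
  have h1 := testBit_lorL _ (bit c (ap v i) (ap u i)) (List.mem_map (f := fun i => bit c (ap v i) (ap u i)).2 ⟨i, List.mem_range.2 hi, rfl⟩)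
    (16 * cl c (ap v i) + cl c (ap u i))
    (by
      show (1 <<< (16 * cl c (ap v i) + cl c (ap u i))).testBit _ = true
      rw [Nat.one_shiftLeft, Nat.testBit_two_pow, decide_eq_true_eq])
  rw [← rel_eq, h] at h1
  exact (testBit_graph π m _ _ (cl_lt _ _) h1).symm

theorem app_inv (g : Equiv.Perm (Fin 24)) (i : Fin 24) : g (g⁻¹ i) = i := Equiv.apply_symm_apply g i

/-- A packed permutation stands for an element. -/
def El (p : ℕ) (a : P) : Prop := ∀ i : Fin 24, ap p i = psi a i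

theorem psi_injective : Function.Injective psi := by
  intro a b h
  refine toM24_injective (Subtype.ext ?_)
  show Cfsg.Lib.Golay.permHom (psi a) = Cfsg.Lib.Golay.permHom (psi b)
  rw [h]

theorem El.unique {p : ℕ} {a b : P} (ha : El p a) (hb : El p b) : a = b :=
  psi_injective (Equiv.ext fun i => Fin.ext ((ha i).symm.trans (hb i)))

theorem El.one : El idp 1 := by
  intro i
  rw [map_one, Equiv.Perm.one_apply]
  exact (by decide +kernel : ∀ i : Fin 24, ap idp i = i.val) i

theorem El.mul {p q : ℕ} {a b : P} (ha : El p a) (hb : El q b) : El (pm p q) (a * b) := fun i => by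
  rw [ap_pm _ _ i.2, hb i, ha, map_mul, Equiv.Perm.mul_apply]

theorem El.inv {p q : ℕ} {a : P} (ha : El p a) (h : pm q p = idp) : El q a⁻¹ := fun i => by
  have e1 := ap_pm q p ((psi a)⁻¹ i).2
  rw [h, ha, app_inv, El.one, map_one, Equiv.Perm.one_apply] at e1
  rw [map_inv]
  exact e1.symm

theorem El.right {p q r : ℕ} {a b : P} (hb : El q b) (hr : El r a) (h : pm p q = r) : El p (a * b⁻¹) := fun i => by
  have e1 := ap_pm p q ((psi b)⁻¹ i).2
  rw [h, hr, hb, app_inv] at e1
  rw [map_mul, map_inv, Equiv.Perm.mul_apply]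
  exact e1.symm

theorem El.ne_zero {p : ℕ} {a : P} (ha : El p a) : p ≠ 0 := by
  rintro rfl
  have h0 := ha 0
  have h1 := ha 1
  have e : (psi a 0 : ℕ) = psi a 1 := h0.symm.trans (by rw [ap_eq, ← h1, ap_eq]; simp)
  exact absurd ((psi a).injective (Fin.ext e)) (by decide)

/-- An element maps the classes of a colouring by a map of colours. -/
def Blk (c π : ℕ) (s : P) : Prop := ∀ i : Fin 24, cl c (psi s i) = cl π (cl c i)

theorem Blk.of_rel {c π m u v : ℕ} {a b : P} (hu : El u a) (hv : El v b) (h : rel c u v = graph π m) :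
    Blk c π (a * b⁻¹) := fun i => by
  have e := (rel_sound h ((psi b)⁻¹ i).2).1
  rw [hu, hv, app_inv] at e
  rw [map_mul, map_inv, Equiv.Perm.mul_apply]
  exact e

end Cfsg.Lib.J4Cert
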