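import Cfsg.Agent.J4Cert.RankSevenCheck
import Cfsg.Agent.J4Cert.CentBound
import Cfsg.Agent.J4Cert.Outer

/-!
The seven orbits of the large subgroup on its cosets.
-/

set_option autoImplicit false
set_option maxRecDepth 8000

namespace Cfsg.Lib.J4Cert

open Cfsg Cfsg.Lib.J4Pres Cfsg.Lib.CosetTable

attribute [local irreducible] pm rel idp ap cl eBasis cVM cVMi kLiveN kOrd kDefs mB kFixV kVec eFix

theorem kFixV_lt : kFixV < 2 ^ 112 := by
  have h := kFix_ok
  simp only [kFixOK, Bool.and_eq_true, decide_eq_true_eq] at h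
  exact h.1.1.1.1

/-- The subgroup fixing the vector is the large subgroup. -/
theorem mem_KJ_iff (g : Spor.J4) : g ∈ KJ ↔ imgV g ⟨kFixV, kFixV_lt⟩ = ⟨kFixV, kFixV_lt⟩ := by
  obtain ⟨q, hq⟩ : ∃ q : J4Rep.Vec, q = ⟨kFixV, kFixV_lt⟩ := ⟨_, rfl⟩
  rw [← hq]
  have h := kFix_ok
  simp only [kFixOK, Bool.and_eq_true, Bool.not_eq_true'] at h
  obtain ⟨⟨⟨⟨-, hX⟩, hY⟩, hE⟩, hT⟩ := h
  have key : ∀ {a : Spor.J4} {A : List ℕ}, MOK a A → Nat.beq (vt (tabs4 A) kFixV) kFixV = true → imgV a q = q :=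
    fun {a A} hA hb => Subtype.ext (by rw [hA.img, hq]; exact Nat.eq_of_beq_eq_true hb)
  let S : Subgroup Spor.J4 :=
    { carrier := {a | imgV a q = q}
      one_mem' := by show imgV 1 q = q; rw [imgV, map_one]; rfl
      mul_mem' := fun {a b} (ha : imgV a q = q) (hb : imgV b q = q) => by
        show imgV (a * b) q = q
        rw [imgV_mul, ha, hb]
      inv_mem' := fun {a} (ha : imgV a q = q) => by
        show imgV a⁻¹ q = q
        conv_lhs => rw [← ha, ← imgV_mul, mul_inv_cancel, imgV, map_one]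
        rfl }
  have hle : KJ ≤ S := by
    rw [KJ, Subgroup.closure_le]
    rintro x (⟨a, rfl⟩ | rfl)
    · have : jHom.range ≤ S := by
        rw [MonoidHom.range_eq_map, ← PresentedGroup.closure_range_of, MonoidHom.map_closure, Subgroup.closure_le]
        rintro _ ⟨_, ⟨b, rfl⟩, rfl⟩
        cases b
        · show imgV (jHom py) q = q
          rw [jHom_py]; exact key mok_gens.2.1 hY
        · show imgV (jHom px) q = q
          rw [jHom_px]; exact key mok_gens.1 hX
      exact this ⟨a, rfl⟩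
    · show imgV ge q = q
      refine key ?_ hE
      rw [← eWord_val, ← eWord_ok]
      exact wordM_ok eWord
  have hne : S ≠ ⊤ := fun h => by
    have hgt : imgV gt q = q := (h ▸ Subgroup.mem_top gt : gt ∈ S)
    have := congrArg Subtype.val hgt
    rw [mok_gens.2.2.2.img, hq] at this
    exact Nat.ne_of_beq_eq_false hT this
  rcases maximal_KJ hle with h | h
  · rw [← h]; rfl
  · exact absurd h hne

/-- A point of the orbit of a listed coset. -/
noncomputable def ptK (n : ℕ) (a : P) : Spor.J4 ⧸ KJ := orbMap (S := gSys KJ kDefs) n a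

theorem ptK_eq (n : ℕ) (a : P) : ptK n a = jHom a • ptK n 1 := by
  show ((jHom a * ((gSys KJ kDefs).v n)⁻¹ : Spor.J4) : Spor.J4 ⧸ KJ) =
    ((jHom a * (jHom 1 * ((gSys KJ kDefs).v n)⁻¹) : Spor.J4) : Spor.J4 ⧸ KJ)
  rw [map_one, one_mul]

theorem live_le {n : ℕ} (hn : n ∈ kLiveN) : n ≤ 34 := by
  have h := List.all_eq_true.1 bound77.2 n hn
  simp only [Bool.and_eq_true] at h
  exact Nat.le_of_ble_eq_true h.1.2

/-- The number of elements of the abelian group fixing a point. -/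
noncomputable def eStab (B : EBasis) (q : Spor.J4 ⧸ KJ) : ℕ := Nat.card {e : Spor.J4 // e ∈ B.E ∧ e • q = q}

theorem fix_iff (B : EBasis) (n w : ℕ) :
    B.el w • ptK n 1 = ptK n 1 ↔ (imgV (B.el w) (imgV ((gSys KJ kDefs).v n) ⟨kFixV, kFixV_lt⟩)) =
      imgV ((gSys KJ kDefs).v n) ⟨kFixV, kFixV_lt⟩ := by
  obtain ⟨q, hq⟩ : ∃ q : J4Rep.Vec, q = ⟨kFixV, kFixV_lt⟩ := ⟨_, rfl⟩
  obtain ⟨v, hv⟩ : ∃ v, v = (gSys KJ kDefs).v n := ⟨_, rfl⟩
  have e : ptK n 1 = ((v⁻¹ : Spor.J4) : Spor.J4 ⧸ KJ) := by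
    show ((jHom 1 * ((gSys KJ kDefs).v n)⁻¹ : Spor.J4) : Spor.J4 ⧸ KJ) = _
    rw [map_one, one_mul, hv]
  rw [← hq, ← hv, e]
  show ((B.el w * v⁻¹ : Spor.J4) : Spor.J4 ⧸ KJ) = _ ↔ _
  rw [QuotientGroup.eq, mul_inv_rev, inv_inv, B.el_inv, mem_KJ_iff, ← hq, imgV_mul, imgV_mul]
  constructor
  · intro h
    have := congrArg (imgV v) h
    rwa [← imgV_mul v⁻¹ v, inv_mul_cancel, imgV, map_one] at this
  · intro h
    rw [h, ← imgV_mul v v⁻¹, mul_inv_cancel, imgV, map_one]
    rfl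

theorem eStab_pt (B : EBasis) {n : ℕ} (hn : n ∈ kLiveN) : eLen n * eStab B (ptK n 1) = 2048 := by
  classical
  have hok : eFixOK kLiveN = true := by
    rw [eFixOK, ← List.take_append_drop 10 kLiveN, List.all_append]
    exact Bool.and_eq_true_iff.2 ⟨eFix_ok0, eFix_ok1⟩
  have h := List.all_eq_true.1 hok n hn
  simp only [Bool.and_eq_true, decide_eq_true_eq] at h
  obtain ⟨hlt, hlen⟩ := h
  have hu : (imgV ((gSys KJ kDefs).v n) ⟨kFixV, kFixV_lt⟩) = ⟨kVec n, hlt⟩ := Subtype.ext (by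
    rw [(v_ok n (live_le hn)).1.img]
    unfold kVec
    rfl)
  obtain ⟨u, hu'⟩ : ∃ u : J4Rep.Vec, u = ⟨kVec n, hlt⟩ := ⟨_, rfl⟩
  have hl : eBasis.length = 11 := eBasis_shape.1
  obtain ⟨h1, h2⟩ := imgsL_spec B.mok [kVec n]
  have hlist : imgsL eBasis [kVec n] = List.ofFn fun w : Fin 2048 => (imgV (B.el w.val) u).1 := by
    refine List.ext_getElem (by rw [h1, List.length_ofFn, hl]; rfl) fun w hw1 hw2 => ?_
    rw [List.length_ofFn] at hw2
    have := h2 0 (by simp) u (by rw [hu']; rfl) w (by rw [hl]; exact hw2)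
    rw [Nat.zero_add, List.length_singleton, one_mul, List.getElem?_eq_getElem hw1, Option.some.injEq] at this
    rw [this, List.getElem_ofFn]
    rfl
  have key : eStab B (ptK n 1) = eFix n := by
    let p : Fin 2048 → Prop := fun w => B.el w.val • ptK n 1 = ptK n 1
    let f : {w // p w} → {e : Spor.J4 // e ∈ B.E ∧ e • ptK n 1 = ptK n 1} :=
      fun w => ⟨B.el w.1.val, B.mem_E.2 ⟨w.1.val, w.1.2, rfl⟩, w.2⟩
    have hf : Function.Bijective f := by
      refine ⟨fun a b hab => Subtype.ext (Fin.ext (B.el_inj a.1.2 b.1.2 (congrArg Subtype.val hab))), ?_⟩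
      rintro ⟨e, he, hf⟩
      obtain ⟨w, hw, rfl⟩ := B.mem_E.1 he
      exact ⟨⟨⟨w, hw⟩, hf⟩, rfl⟩
    rw [eStab, ← Nat.card_eq_of_bijective f hf]
    unfold eFix
    rw [hlist, List.ofFn_eq_map, List.filter_map, List.length_map, Nat.card_eq_fintype_card, Fintype.card_subtype]
    rw [← List.toFinset_card_of_nodup ((List.nodup_finRange 2048).filter _)]
    congr 1
    ext w
    simp only [Finset.mem_filter, Finset.mem_univ, true_and, List.mem_toFinset, List.mem_filter, List.mem_finRange,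
      Function.comp_apply, Nat.beq_eq, p]
    rw [fix_iff B, hu, ← hu']
    constructor
    · intro e; rw [e, hu']
    · intro e; exact Subtype.ext (e.trans (by rw [hu']))
  rw [key]
  exact Nat.eq_of_beq_eq_true hlen

theorem eStab_smul (B : EBasis) {k : Spor.J4} (hk : k ∈ KJ) (q : Spor.J4 ⧸ KJ) :
    eStab B (k • q) = eStab B q := by
  rw [← normalizer_E B, Subgroup.mem_normalizer_iff] at hk
  let F : {e : Spor.J4 // e ∈ B.E ∧ e • q = q} → {e : Spor.J4 // e ∈ B.E ∧ e • k • q = k • q} := fun e =>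
    ⟨k * e.1 * k⁻¹, (hk e.1).1 e.2.1, by rw [mul_smul, mul_smul, inv_smul_smul, e.2.2]⟩
  refine (Nat.card_eq_of_bijective F ⟨fun e e' h => Subtype.ext ?_, fun e => ?_⟩).symm
  · exact mul_left_cancel (mul_right_cancel (congrArg Subtype.val h))
  · refine ⟨⟨k⁻¹ * e.1 * k, (hk _).2 ?_, by rw [mul_smul, mul_smul, e.2.2, inv_smul_smul]⟩, Subtype.ext ?_⟩
    · rw [show k * (k⁻¹ * e.1 * k) * k⁻¹ = e.1 by group]
      exact e.2.1
    · show k * (k⁻¹ * e.1 * k) * k⁻¹ = e.1
      group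

/-- The union of the orbits of some listed cosets. -/
def ptsOf (T : List ℕ) : Set (Spor.J4 ⧸ KJ) := {q | ∃ m ∈ T, ∃ a : P, ptK m a = q}

theorem ptsOf_card : (∀ q, ∃ m ∈ kLiveN, ∃ a : P, ptK m a = q) ∧
    (∀ m ∈ kLiveN, ∀ n ∈ kLiveN, ∀ a b : P, ptK m a = ptK n b → m = n) ∧
    ∀ T : List ℕ, T.Nodup → (∀ m ∈ T, m ∈ kLiveN) → (ptsOf T).ncard = (T.map kSize).sum := by
  classical
  haveI := finite_J4
  haveI := finite_P
  obtain ⟨G, hidx, hsurj, hinj, hcong⟩ := orbit_bij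
  have hR : ∀ m ∈ kLiveN, Nat.card (Set.range (ptK m)) = kSize m := by
    intro m hm
    let F : P ⧸ G m → Spor.J4 ⧸ KJ := fun z => Quotient.liftOn' z (ptK m) fun a b hab => by
      rw [QuotientGroup.leftRel_apply] at hab
      exact hcong m hm a b hab
    have hF : Function.Injective F := by
      intro z z'
      refine Quotient.inductionOn₂' z z' fun a b h => Quotient.sound' ?_
      rw [QuotientGroup.leftRel_apply]
      exact hinj m hm a b h
    have hr : Set.range F = Set.range (ptK m) := by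
      ext q
      constructor
      · rintro ⟨z, rfl⟩
        exact Quotient.inductionOn' z fun a => ⟨a, rfl⟩
      · rintro ⟨a, rfl⟩
        exact ⟨(a : P ⧸ G m), rfl⟩
    rw [← hr, Nat.card_range_of_injective hF, ← hidx m hm]
    rfl
  let F : (Σ m : {m // m ∈ kLiveN.toFinset}, Set.range (ptK m.1)) → Spor.J4 ⧸ KJ := fun z => z.2.1
  have hFs : Function.Surjective F := fun q => by
    obtain ⟨m, hm, a, rfl⟩ := hsurj q
    exact ⟨⟨⟨m, List.mem_toFinset.2 hm⟩, ⟨_, a, rfl⟩⟩, rfl⟩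
  have hFb : Function.Bijective F := (Nat.bijective_iff_surjective_and_card F).2 ⟨hFs, by
    rw [Nat.card_sigma, show Nat.card (Spor.J4 ⧸ KJ) = 173067389 from index_KJ_eq, ← kOrd_eq.2,
      ← List.sum_toFinset _ kLive_facts.1, ← Finset.sum_coe_sort kLiveN.toFinset]
    exact Finset.sum_congr rfl fun m _ => hR m.1 (List.mem_toFinset.1 m.2)⟩
  have hdis : ∀ m ∈ kLiveN, ∀ n ∈ kLiveN, ∀ a b : P, ptK m a = ptK n b → m = n := by
    intro m hm n hn a b h
    have := hFb.1 (a₁ := ⟨⟨m, List.mem_toFinset.2 hm⟩, ⟨_, a, rfl⟩⟩)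
      (a₂ := ⟨⟨n, List.mem_toFinset.2 hn⟩, ⟨_, b, rfl⟩⟩) h
    exact congrArg (fun z => z.1.1) this
  refine ⟨hsurj, hdis, fun T hT hTl => ?_⟩
  induction T with
  | nil => simp [ptsOf]
  | cons m T ih =>
    simp only [List.forall_mem_cons] at hTl
    have e : ptsOf (m :: T) = Set.range (ptK m) ∪ ptsOf T := by
      ext q; simp [ptsOf]
    rw [List.map_cons, List.sum_cons, e, Set.ncard_union_eq ?_ (Set.toFinite _) (Set.toFinite _),
      ← Nat.card_coe_set_eq, hR m hTl.1, ih (List.nodup_cons.1 hT).2 hTl.2]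
    rw [Set.disjoint_left]
    rintro _ ⟨a, rfl⟩ ⟨n, hn, b, h⟩
    have := hdis m hTl.1 n (hTl.2 n hn) a b h.symm
    exact (List.nodup_cons.1 hT).1 (this ▸ hn)

theorem orbit_class (B : EBasis) {n : ℕ} (hn : n ∈ kLiveN) :
    MulAction.orbit KJ (ptK n 1) = ptsOf (kLiveN.filter fun m => Nat.beq (sevenIx m) (sevenIx n)) := by
  classical
  haveI := finite_J4
  obtain ⟨hsurj, -, hcard⟩ := ptsOf_card
  let O := MulAction.orbit KJ (ptK n 1)
  have hPt : ∀ m (a : P), ptK m a ∈ O ↔ ptK m 1 ∈ O := fun m a => by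
    have e : ptK m a = (⟨jHom a, HJ_le ⟨a, rfl⟩⟩ : KJ) • ptK m 1 := ptK_eq m a
    rw [e]
    constructor
    · intro h
      rwa [MulAction.mem_orbit_iff, ← MulAction.mem_orbit_iff, ← MulAction.orbit_eq_iff, MulAction.orbit_smul,
        MulAction.orbit_eq_iff] at h
    · exact fun h => MulAction.mapsTo_smul_orbit _ _ h
  have hs : ∀ m ∈ kLiveN, ptK m 1 ∈ O → eLen m = eLen n := fun m hm hO => by
    obtain ⟨k, hk⟩ := hO
    have hk : (k : Spor.J4) • ptK n 1 = ptK m 1 := hk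
    have h1 := eStab_pt B hm
    have h2 := eStab_pt B hn
    rw [← hk, eStab_smul B k.2, ← h2] at h1
    exact Nat.eq_of_mul_eq_mul_right (Nat.pos_of_ne_zero fun h => by rw [h, Nat.mul_zero] at h2; omega) h1
  let grp := kLiveN.filter fun m => Nat.beq (eLen m) (eLen n)
  let T := grp.filter fun m => decide (ptK m 1 ∈ O)
  have hTmem : ∀ m, m ∈ T ↔ m ∈ kLiveN ∧ ptK m 1 ∈ O := fun m => by
    simp only [T, grp, List.mem_filter, Nat.beq_eq, decide_eq_true_eq]
    exact ⟨fun h => ⟨h.1.1, h.2⟩, fun h => ⟨⟨h.1, hs m h.1 h.2⟩, h.2⟩⟩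
  have hO : O = ptsOf T := by
    ext q
    constructor
    · intro hq
      obtain ⟨m, hm, a, rfl⟩ := hsurj q
      exact ⟨m, (hTmem m).2 ⟨hm, (hPt m a).1 hq⟩, a, rfl⟩
    · rintro ⟨m, hm, a, rfl⟩
      exact (hPt m a).2 ((hTmem m).1 hm).2
  have hsum : (T.map kSize).sum = O.ncard := by
    rw [hO, hcard T ((kLive_facts.1.filter _).filter _) fun m hm => ((hTmem m).1 hm).1]
  -- the divisibility
  let S : Subgroup KJ := MulAction.stabilizer KJ (ptK n 1)
  have hidx : S.index = O.ncard := MulAction.index_stabilizer _ _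
  have hdvd : O.ncard ∣ 501397585920 := by
    have := S.index_dvd_card
    rwa [card_KJ.2.1, hidx] at this
  have hc : eLen n ∣ O.ncard := by
    let E' : Subgroup KJ := B.E.subgroupOf KJ
    haveI : E'.Normal := by
      refine ⟨fun x hx g => ?_⟩
      have hg : g.1 ∈ Subgroup.normalizer (B.E : Set Spor.J4) := (normalizer_E B).symm ▸ g.2
      rw [Subgroup.mem_normalizer_iff] at hg
      exact (hg x.1).1 hx
    have hcE : Nat.card E' = 2048 := by
      rw [Nat.card_congr (Subgroup.subgroupOfEquivOfLe B.E_le).toEquiv, B.card_E]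
    have hcI : Nat.card (S ⊓ E' : Subgroup KJ) = eStab B (ptK n 1) :=
      Nat.card_congr
        { toFun := fun e => ⟨e.1.1, e.2.2, e.2.1⟩
          invFun := fun e => ⟨⟨e.1, B.E_le e.2.1⟩, e.2.2, e.2.1⟩
          left_inv := fun e => rfl
          right_inv := fun e => rfl }
    have h1 : Nat.card E' * E'.relIndex S = Nat.card (S ⊔ E' : Subgroup KJ) := by
      rw [← Subgroup.relIndex_sup_right S E', ← Subgroup.relIndex_bot_left, ← Subgroup.relIndex_bot_left,
        Subgroup.relIndex_mul_relIndex _ _ _ bot_le le_sup_right]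
    have h2 : Nat.card (S ⊓ E' : Subgroup KJ) * E'.relIndex S = Nat.card S := by
      rw [← Subgroup.inf_relIndex_left, ← Subgroup.relIndex_bot_left, ← Subgroup.relIndex_bot_left,
        Subgroup.relIndex_mul_relIndex _ _ _ bot_le inf_le_left]
    obtain ⟨r, hr⟩ := (S ⊔ E').card_subgroup_dvd_card
    rw [← h1, hcE] at hr
    have h3 := S.card_mul_index
    rw [← h2, hcI] at h3
    have h4 := eStab_pt B hn
    have hs0 : 0 < eStab B (ptK n 1) * E'.relIndex S := by
      rw [← hcI, h2]; exact Nat.card_pos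
    refine ⟨r, Nat.eq_of_mul_eq_mul_left hs0 ?_⟩
    rw [← hidx, h3, hr, ← h4]
    ring
  -- conclusion
  have hu := List.all_eq_true.1 union_ok n hn
  have hTs : T ∈ grp.sublists := List.mem_sublists.2 List.filter_sublist
  have hu' := List.all_eq_true.1 hu T hTs
  have hnT : T.contains n = true := List.contains_iff_mem.2 ((hTmem n).2 ⟨hn, MulAction.mem_orbit_self _⟩)
  simp only [hnT, hsum, Nat.mod_eq_zero_of_dvd hc, Nat.mod_eq_zero_of_dvd hdvd, Nat.beq_refl,
    Bool.and_self, Bool.not_true, Bool.false_or, beq_iff_eq] at hu'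
  exact hO.trans (congrArg ptsOf hu')

theorem coset_rank_seven : ∃ c : Fin 7 → Spor.J4 ⧸ KJ,
    (∀ i j : Fin 7, i ≠ j → MulAction.orbit KJ (c i) ≠ MulAction.orbit KJ (c j)) ∧
    (∀ q : Spor.J4 ⧸ KJ, ∃ i : Fin 7, q ∈ MulAction.orbit KJ (c i)) ∧
    (List.ofFn fun i => (MulAction.orbit KJ (c i)).ncard) =
      [1, 15180, 28336, 3400320, 32643072, 54405120, 82575360] := by
  obtain ⟨B⟩ := exists_basis
  obtain ⟨hsurj, hdis, hcard⟩ := ptsOf_card
  obtain ⟨hhead, hix, hsums⟩ := seven_facts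
  have horb : ∀ i : Fin 7, MulAction.orbit KJ (ptK (sevenHead i) 1) =
      ptsOf (kLiveN.filter fun m => Nat.beq (sevenIx m) i.val) := fun i => by
    rw [orbit_class B (hhead i).1, (hhead i).2]
  refine ⟨fun i => ptK (sevenHead i) 1, fun i j hij he => ?_, fun q => ?_, ?_⟩
  · have hmem : ptK (sevenHead i) 1 ∈ MulAction.orbit KJ (ptK (sevenHead i) 1) := MulAction.mem_orbit_self _
    rw [he, horb j] at hmem
    obtain ⟨m, hm, a, ha⟩ := hmem
    simp only [List.mem_filter, Nat.beq_eq] at hm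
    have := hdis m hm.1 _ (hhead i).1 a 1 ha
    rw [this, (hhead i).2] at hm
    exact hij (Fin.ext hm.2)
  · obtain ⟨m, hm, a, rfl⟩ := hsurj q
    refine ⟨⟨sevenIx m, hix m hm⟩, ?_⟩
    rw [horb]
    exact ⟨m, List.mem_filter.2 ⟨hm, by simp⟩, a, rfl⟩
  · rw [← hsums]
    congr 1
    funext i
    rw [horb, hcard _ (kLive_facts.1.filter _) fun m hm => List.mem_of_mem_filter hm]

/-- The elementary abelian groups of order 2048 are conjugate. -/
theorem elem_conj (B : EBasis) (V : Subgroup Spor.J4) (hc : ∀ a ∈ V, ∀ b ∈ V, a * b = b * a)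
    (hsq : ∀ a ∈ V, a * a = 1) (hcard : Nat.card V = 2048) :
    ∃ g : Spor.J4, V.map (MulAut.conj g).toMonoidHom = B.E := by
  haveI := finite_J4
  haveI : Fact (Nat.Prime 2) := ⟨Nat.prime_two⟩
  obtain ⟨hp, hi⟩ := B.syl_facts
  let S : Sylow 2 Spor.J4 := hp.toSylow hi
  have hA : IsPGroup 2 V := IsPGroup.of_card (n := 11) (by rw [hcard]; norm_num)
  obtain ⟨T, hT⟩ := hA.exists_le_sylow
  obtain ⟨g, hg⟩ := MulAction.exists_smul_eq Spor.J4 T S
  refine ⟨g, unique_E B _ ?_ ?_ ?_ ?_⟩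
  · rintro _ ⟨a, ha, rfl⟩
    have h2 : MulAut.conj g a ∈ ((g • T : Sylow 2 Spor.J4) : Subgroup Spor.J4) := by
      rw [Sylow.coe_subgroup_smul]
      exact Subgroup.smul_mem_pointwise_smul a (MulAut.conj g) _ (hT ha)
    rw [hg] at h2
    exact h2
  · rintro _ ⟨a, ha, rfl⟩ _ ⟨b, hb, rfl⟩
    rw [← map_mul, ← map_mul, hc a ha b hb]
  · rintro _ ⟨a, ha, rfl⟩
    rw [← map_mul, hsq a ha, map_one]
  · rw [Subgroup.card_map_of_injective (f := (MulAut.conj g).toMonoidHom) (MulAut.conj g).injective, hcard]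

/-- A copy of the large subgroup has seven orbits on its cosets. -/
theorem rank_seven_of_map {G : Type*} [Group G] (e : G ≃* Spor.J4) (N : Subgroup G)
    (hN : N.map e.toMonoidHom = KJ) :
    N.index = 173067389 ∧ ∃ c : Fin 7 → G ⧸ N,
      (∀ i j : Fin 7, i ≠ j → MulAction.orbit N (c i) ≠ MulAction.orbit N (c j)) ∧
      (∀ q : G ⧸ N, ∃ i : Fin 7, q ∈ MulAction.orbit N (c i)) ∧
      (List.ofFn fun i => (MulAction.orbit N (c i)).ncard) =
        [1, 15180, 28336, 3400320, 32643072, 54405120, 82575360] := by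
  refine ⟨?_, ?_⟩
  · rw [← index_KJ_eq, ← hN]
    exact (Subgroup.index_map_equiv N e).symm
  obtain ⟨c, h1, h2, h3⟩ := coset_rank_seven
  have hmem : ∀ a, e a ∈ KJ ↔ a ∈ N := fun a => by
    rw [← hN]
    exact Subgroup.mem_map_iff_mem e.injective
  let F : G ⧸ N → Spor.J4 ⧸ KJ := fun q => Quotient.liftOn' q (fun a => ((e a : Spor.J4) : Spor.J4 ⧸ KJ))
    fun a b hab => by
      rw [QuotientGroup.leftRel_apply] at hab
      rw [QuotientGroup.eq, ← map_inv, ← map_mul, hmem]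
      exact hab
  have hF : Function.Bijective F := by
    constructor
    · intro q q'
      refine Quotient.inductionOn₂' q q' fun a b h => Quotient.sound' ?_
      rw [QuotientGroup.leftRel_apply]
      have h' : ((e a : Spor.J4) : Spor.J4 ⧸ KJ) = (e b : Spor.J4) := h
      rwa [QuotientGroup.eq, ← map_inv, ← map_mul, hmem] at h'
    · intro q
      exact Quotient.inductionOn' q fun a => ⟨((e.symm a : G) : G ⧸ N),
        congrArg (fun x : Spor.J4 => (x : Spor.J4 ⧸ KJ)) (e.apply_symm_apply a)⟩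
  have hsmul : ∀ (a : G) (q : G ⧸ N), F (a • q) = e a • F q := fun a q =>
    Quotient.inductionOn' q fun b => congrArg (fun x : Spor.J4 => (x : Spor.J4 ⧸ KJ)) (map_mul e a b)
  have horb : ∀ q, MulAction.orbit KJ (F q) = F '' MulAction.orbit N q := by
    intro q
    ext r
    constructor
    · rintro ⟨k, rfl⟩
      refine ⟨_, ⟨⟨e.symm k, (hmem _).1 (by rw [e.apply_symm_apply]; exact k.2)⟩, rfl⟩, ?_⟩
      show F (e.symm k • q) = (k : Spor.J4) • F q
      rw [hsmul, e.apply_symm_apply]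
    · rintro ⟨_, ⟨k, rfl⟩, rfl⟩
      exact ⟨⟨e k, (hmem _).2 k.2⟩, (hsmul k q).symm⟩
  choose d hd using fun i => hF.2 (c i)
  refine ⟨d, fun i j hij h => h1 i j hij ?_, fun q => ?_, ?_⟩
  · rw [← hd i, ← hd j, horb, horb, h]
  · obtain ⟨i, hi⟩ := h2 (F q)
    rw [← hd i, horb] at hi
    obtain ⟨r, hr, hrq⟩ := hi
    exact ⟨i, hF.1 hrq ▸ hr⟩
  · rw [← h3]
    congr 1
    funext i
    rw [← hd i, horb, Set.ncard_image_of_injective _ hF.1]

/-- The normalizer of an elementary abelian group of order 2048 has seven orbits on its cosets. -/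
theorem normalizer_rank_seven {G : Type*} [Group G] (e : G ≃* Spor.J4) (V : Subgroup G)
    (hV : Cfsg.IsElementaryAbelian 2 V) (hcard : Nat.card V = 2 ^ 11) :
    (Subgroup.normalizer (V : Set G)).index = 173067389 ∧ ∃ c : Fin 7 → G ⧸ Subgroup.normalizer (V : Set G),
      (∀ i j : Fin 7, i ≠ j → MulAction.orbit ↥(Subgroup.normalizer (V : Set G)) (c i) ≠
        MulAction.orbit ↥(Subgroup.normalizer (V : Set G)) (c j)) ∧
      (∀ q : G ⧸ Subgroup.normalizer (V : Set G), ∃ i : Fin 7,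
        q ∈ MulAction.orbit ↥(Subgroup.normalizer (V : Set G)) (c i)) ∧
      (List.ofFn fun i => (MulAction.orbit ↥(Subgroup.normalizer (V : Set G)) (c i)).ncard) =
        [1, 15180, 28336, 3400320, 32643072, 54405120, 82575360] := by
  obtain ⟨B⟩ := exists_basis
  obtain ⟨hVc, hV2⟩ := hV
  obtain ⟨g, hg⟩ := elem_conj B (V.map e.toMonoidHom)
    (by
      rintro _ ⟨a, ha, rfl⟩ _ ⟨b, hb, rfl⟩
      rw [← map_mul, ← map_mul]
      exact congrArg _ (congrArg Subtype.val (hVc.is_comm.comm (⟨a, ha⟩ : V) ⟨b, hb⟩)))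
    (by
      rintro _ ⟨a, ha, rfl⟩
      rw [← map_mul, ← pow_two, hV2 a ha, map_one])
    (by rw [Subgroup.card_map_of_injective (f := e.toMonoidHom) e.injective, hcard]; norm_num)
  refine rank_seven_of_map (e.trans (MulAut.conj g)) _ ?_
  rw [Subgroup.map_equiv_normalizer_eq, ← normalizer_E B, ← hg, Subgroup.map_map]
  rfl

end Cfsg.Lib.J4Cert
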