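import Cfsg.Agent.J4Cert.Order

/-!
The presented group is simple.
-/

set_option autoImplicit false
set_option maxRecDepth 8000

namespace Cfsg.Lib.J4Cert

open Cfsg Cfsg.Lib.J4Pres Cfsg.Lib.CosetTable

/-- The orbit size of a listed coset. -/
def kSize (n : ℕ) : ℕ := 244823040 / kOrd n

/-- The listed cosets after the first, by decreasing size. -/
def restN : List ℕ := [7, 10, 9, 14, 22, 5, 24, 21, 12, 6, 17, 25, 4, 32, 33, 30, 31, 1, 34]

/-- Some entries have the given sum. -/
def reach : List ℕ → ℕ → Bool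
  | [], t => Nat.beq t 0
  | r :: l, t =>
    Nat.beq t 0 || (Nat.ble t (r + l.sum) && ((Nat.ble r t && reach l (t - r)) || reach l t))

/-- The proper divisors of the index which exceed one. -/
def midDivs : List ℕ :=
  ((((([1, 11].flatMap fun a => [a, a * 11]).flatMap fun a => [a, a * 29]).flatMap fun a => [a, a * 31]).flatMap
    fun a => [a, a * 37]).flatMap fun a => [a, a * 43]).filter fun d => 1 < d && d < 173067389

theorem restN_ok : (0 :: restN).Nodup ∧ (∀ n ∈ kLiveN, n ∈ 0 :: restN) ∧ (∀ n ∈ 0 :: restN, n ∈ kLiveN) ∧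
    kSize 0 = 1 := by decide +kernel

theorem midDivs_ok : (midDivs.all fun d => !reach (restN.map kSize) (d - 1)) = true := by decide +kernel

theorem reach_filter (p : ℕ → Bool) (f : ℕ → ℕ) : ∀ l : List ℕ, reach (l.map f) ((l.filter p).map f).sum = true
  | [] => rfl
  | r :: l => by
    have ih := reach_filter p f l
    have hle : ((l.filter p).map f).sum ≤ (l.map f).sum := by
      clear ih
      induction l with
      | nil => simp
      | cons a l ih =>
        rw [List.filter_cons]
        split <;> simp <;> omega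
    rw [List.map_cons, reach, List.filter_cons]
    cases hp : p r
    · simp only [Bool.false_eq_true, if_false, Bool.or_eq_true, Bool.and_eq_true, Nat.ble_eq]
      exact Or.inr ⟨hle.trans (Nat.le_add_left _ _), Or.inr ih⟩
    · simp only [if_true, List.map_cons, List.sum_cons, Bool.or_eq_true, Bool.and_eq_true, Nat.ble_eq]
      refine Or.inr ⟨Nat.add_le_add_left hle _, Or.inl ⟨Nat.le_add_right _ _, ?_⟩⟩
      rw [Nat.add_sub_cancel_left]
      exact ih

theorem dvd_index_cases {d : ℕ} (h : d ∣ 173067389) : d = 1 ∨ d = 173067389 ∨ d ∈ midDivs := by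
  rw [show (173067389 : ℕ) = 11 * 11 * 29 * 31 * 37 * 43 by norm_num] at h
  obtain ⟨a5, a6, h5, h6, rfl⟩ := Nat.dvd_mul.1 h
  obtain ⟨a4, b4, h4, i4, rfl⟩ := Nat.dvd_mul.1 h5
  obtain ⟨a3, b3, h3, i3, rfl⟩ := Nat.dvd_mul.1 h4
  obtain ⟨a2, b2, h2, i2, rfl⟩ := Nat.dvd_mul.1 h3
  obtain ⟨a1, b1, h1, i1, rfl⟩ := Nat.dvd_mul.1 h2
  rcases (Nat.dvd_prime (by norm_num)).1 h1 with rfl | rfl <;>
  rcases (Nat.dvd_prime (by norm_num)).1 i1 with rfl | rfl <;>
  rcases (Nat.dvd_prime (by norm_num)).1 i2 with rfl | rfl <;>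
  rcases (Nat.dvd_prime (by norm_num)).1 i3 with rfl | rfl <;>
  rcases (Nat.dvd_prime (by norm_num)).1 i4 with rfl | rfl <;>
  rcases (Nat.dvd_prime (by norm_num)).1 h6 with rfl | rfl <;> decide +kernel

attribute [local irreducible] pm rel idp ap cl eBasis restN kLiveN kOrd midDivs reach

set_option maxHeartbeats 1000000 in
theorem maximal_KJ {M : Subgroup Spor.J4} (hM : KJ ≤ M) : M = KJ ∨ M = ⊤ := by
  classical
  haveI := finite_J4
  haveI := finite_P
  obtain ⟨hv0, hcl, G, hG⟩ := k_cover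
  let S := gSys KJ kDefs
  obtain ⟨hnd, hsub, hsup, h0⟩ := restN_ok
  have hmem : ∀ n : {n // n ∈ (0 :: restN).toFinset}, n.1 ∈ kLiveN := fun n => hsup _ (List.mem_toFinset.1 n.2)
  let Φ : (Σ n : {n // n ∈ (0 :: restN).toFinset}, P ⧸ G n.1) → Spor.J4 ⧸ KJ := fun z =>
    Quotient.liftOn' z.2 (fun a => orbMap (S := S) z.1.1 a) fun a b hab => by
      rw [QuotientGroup.leftRel_apply] at hab
      exact orbMap_eq ((hG _ (hmem z.1)).2 _ hab)
  have hsurj : Function.Surjective Φ := fun q => by
    refine Quotient.inductionOn' q fun g => ?_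
    have := closure_InO (S := S) kLive_facts.2.1 hv0 gt t_sq hcl g⁻¹
      (by rw [show S.f = jHom from rfl, closure_gt]; exact Subgroup.mem_top _)
    obtain ⟨n, hn, a, ha⟩ := exists_orbMap this
    exact ⟨⟨⟨n, List.mem_toFinset.2 (hsub n hn)⟩, (a : P ⧸ G n)⟩, ha⟩
  have hle : ∀ n : {n // n ∈ (0 :: restN).toFinset}, Nat.card (P ⧸ G n.1) ≤ kSize n.1 := fun n => by
    obtain ⟨h1, h2⟩ := (hG _ (hmem n)).1
    have h3 := Subgroup.card_mul_index (G n.1)
    rw [card_P] at h3
    show (G n.1).index ≤ _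
    rw [kSize, Nat.le_div_iff_mul_le h1, ← h3, mul_comm]
    exact Nat.mul_le_mul_right _ h2
  have hsum : ∑ n : {n // n ∈ (0 :: restN).toFinset}, kSize n.1 = 173067389 := by
    rw [Finset.sum_coe_sort, ← kOrd_eq.2, List.sum_toFinset _ hnd]
    exact ((List.perm_of_nodup_nodup_toFinset_eq hnd kLive_facts.1 (Finset.ext fun n => by
      simp only [List.mem_toFinset]; exact ⟨hsup n, hsub n⟩)).map kSize).sum_eq
  have hcardQ : Nat.card (Spor.J4 ⧸ KJ) = 173067389 := index_KJ_eq
  have hc := Nat.card_le_card_of_surjective Φ hsurj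
  rw [Nat.card_sigma, hcardQ] at hc
  have heq : ∀ n : {n // n ∈ (0 :: restN).toFinset}, Nat.card (P ⧸ G n.1) = kSize n.1 := fun n =>
    ((Finset.sum_eq_sum_iff_of_le (f := fun n : {n // n ∈ (0 :: restN).toFinset} => Nat.card (P ⧸ G n.1)) (g := fun n : {n // n ∈ (0 :: restN).toFinset} => kSize n.1)
      (fun i _ => hle i)).1 (le_antisymm (Finset.sum_le_sum fun i _ => hle i) (hsum ▸ hc))) n (Finset.mem_univ n)
  have hbij : Function.Bijective Φ := (Nat.bijective_iff_surjective_and_card Φ).2 ⟨hsurj, by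
    rw [Nat.card_sigma, hcardQ, ← hsum]
    exact Finset.sum_congr rfl fun n _ => heq n⟩
  -- the cosets inside the larger subgroup
  have hset : ∀ z, Φ z ∈ (QuotientGroup.mk '' (M : Set Spor.J4)) ↔ S.v z.1.1 ∈ M := by
    rintro ⟨n, q⟩
    refine Quotient.inductionOn' q fun a => ?_
    have ha : S.f a ∈ M := hM (Subgroup.subset_closure (Or.inl ⟨a, rfl⟩))
    show ((S.f a * (S.v n.1)⁻¹ : Spor.J4) : Spor.J4 ⧸ KJ) ∈ _ ↔ _
    constructor
    · rintro ⟨g, hg, e⟩
      rw [QuotientGroup.eq] at e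
      have h1 := M.mul_mem hg (hM e)
      rw [mul_inv_cancel_left] at h1
      have h2 := M.mul_mem (M.inv_mem ha) h1
      rw [inv_mul_cancel_left] at h2
      exact inv_mem_iff.1 h2
    · intro hv
      exact ⟨_, M.mul_mem ha (M.inv_mem hv), rfl⟩
  have hcardM : KJ.relIndex M = ∑ n : {n // n ∈ (0 :: restN).toFinset}, if S.v n.1 ∈ M then kSize n.1 else 0 := by
    let ι : M ⧸ KJ.subgroupOf M → Spor.J4 ⧸ KJ := Quotient.map' Subtype.val fun a b hab => by
      rw [QuotientGroup.leftRel_apply] at hab ⊢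
      exact hab
    have hι : Function.Injective ι := by
      intro q q'
      refine Quotient.inductionOn₂' q q' fun a b h => Quotient.sound' ?_
      rw [QuotientGroup.leftRel_apply, Subgroup.mem_subgroupOf]
      have h' : ((a.1 : Spor.J4) : Spor.J4 ⧸ KJ) = (b.1 : Spor.J4) := h
      simpa using QuotientGroup.eq.1 h'
    have hr : Set.range ι = QuotientGroup.mk '' (M : Set Spor.J4) := by
      ext q
      constructor
      · rintro ⟨x, rfl⟩
        refine Quotient.inductionOn' x fun g => ?_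
        exact ⟨g.1, g.2, rfl⟩
      · rintro ⟨g, hg, rfl⟩
        exact ⟨((⟨g, hg⟩ : M) : M ⧸ KJ.subgroupOf M), rfl⟩
    let e : {z : Σ n : {n // n ∈ (0 :: restN).toFinset}, P ⧸ G n.1 // S.v z.1.1 ∈ M} ≃ Set.range ι :=
      (Equiv.ofBijective Φ hbij).subtypeEquiv fun z => by rw [hr]; exact (hset z).symm
    let e2 : {z : Σ n : {n // n ∈ (0 :: restN).toFinset}, P ⧸ G n.1 // S.v z.1.1 ∈ M} ≃ Σ n : {n : {n // n ∈ (0 :: restN).toFinset} // S.v n.1 ∈ M}, P ⧸ G n.1.1 :=
      { toFun := fun z => ⟨⟨z.1.1, z.2⟩, z.1.2⟩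
        invFun := fun z => ⟨⟨z.1.1, z.2⟩, z.1.2⟩
        left_inv := fun z => rfl
        right_inv := fun z => rfl }
    rw [Subgroup.relIndex, Subgroup.index, ← Nat.card_range_of_injective hι, ← Nat.card_congr e, Nat.card_congr e2,
      Nat.card_sigma, ← Finset.sum_filter]
    rw [← Finset.sum_subtype_eq_sum_filter]
    refine Finset.sum_congr (by ext n; simp) fun n _ => heq _
  have hdvd : KJ.relIndex M ∣ 173067389 := index_KJ_eq ▸ Subgroup.relIndex_dvd_index_of_le hM
  rcases dvd_index_cases hdvd with h | h | h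
  · exact Or.inl (le_antisymm (Subgroup.relIndex_eq_one.1 h) hM)
  · refine Or.inr ?_
    have h2 := Subgroup.relIndex_mul_index hM
    rw [h, index_KJ_eq] at h2
    exact Subgroup.index_eq_one.1 (by omega)
  · exfalso
    have hr := List.all_eq_true.1 midDivs_ok _ h
    rw [hcardM, Finset.sum_coe_sort (0 :: restN).toFinset (fun n => if S.v n ∈ M then kSize n else 0),
      List.sum_toFinset _ hnd, List.map_cons, List.sum_cons, if_pos (by rw [hv0]; exact M.one_mem), h0] at hr
    rw [Nat.add_sub_cancel_left] at hr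
    have e : (restN.map fun n => if S.v n ∈ M then kSize n else 0).sum =
        ((restN.filter fun n => decide (S.v n ∈ M)).map kSize).sum := by
      induction restN with
      | nil => rfl
      | cons a l ih =>
        rw [List.filter_cons, List.map_cons, List.sum_cons, ih]
        by_cases ha : S.v a ∈ M <;> simp [ha]
    rw [e, reach_filter] at hr
    simp at hr

theorem testBit_mask (v n : ℕ) (h1 : 1 ≤ v) (h2 : v < n) : (2 ^ n - 2).testBit v = true := by
  obtain ⟨m, rfl⟩ : ∃ m, n = m + 1 := ⟨n - 1, by omega⟩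
  obtain ⟨w, rfl⟩ : ∃ w, v = w + 1 := ⟨v - 1, by omega⟩
  rw [Nat.testBit_succ, show (2 ^ (m + 1) - 2) / 2 = 2 ^ m - 1 by rw [pow_succ]; omega, Nat.testBit_two_pow_sub_one]
  exact decide_eq_true (by omega)

theorem orb_cases (h : orbOK = true) : ∃ out, orbFrom (eWit.foldl (fun s e => Nat.lor s (Nat.shiftLeft 1 e.1)) 0)
    eOrb = some out ∧ Nat.beq out (2 ^ 2048 - 2) = true := by
  unfold orbOK at h
  cases ho : orbFrom (eWit.foldl (fun s e => Nat.lor s (Nat.shiftLeft 1 e.1)) 0) eOrb with
  | none => rw [ho] at h; exact Bool.noConfusion h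
  | some out => rw [ho] at h; exact ⟨out, rfl, h⟩

theorem hor_range : hor ((List.range 24).map fun i => i) = idp := by decide +kernel

/-- The two generators of the trio stabiliser. -/
def tgen (i : ℕ) : ℕ := bif Nat.beq i 0 then let8 0 else wp wWord

/-- A product of the two generators. -/
def tword : List ℕ → ℕ
  | [] => idp
  | i :: w => pm (tgen i) (tword w)

/-- An element of the group for a product of the two generators. -/
def twordP : List ℕ → P
  | [] => 1
  | i :: w => (bif Nat.beq i 0 then px else wP) * twordP w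

/-- The steps reach all points. -/
def treeT : ℕ → List (ℕ × ℕ × ℕ) → Option ℕ
  | seen, [] => some seen
  | seen, (q, par, g) :: r =>
    bif Nat.blt par 24 && Nat.testBit seen par && Nat.beq (ap (tgen g) par) q then
      treeT (Nat.lor seen (Nat.shiftLeft 1 q)) r
    else none

/-- The orbit of the first point. -/
def treeList : List (ℕ × ℕ × ℕ) :=
  [(10, 0, 0), (23, 0, 1), (19, 10, 1), (17, 23, 0), (6, 19, 0), (9, 19, 1), (8, 17, 1), (14, 6, 1), (12, 9, 0),
    (3, 9, 1), (2, 8, 0), (20, 14, 0), (22, 14, 1), (18, 12, 1), (7, 3, 0), (4, 2, 1), (1, 20, 1), (13, 22, 1),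
    (21, 18, 0), (5, 7, 1), (15, 4, 1), (16, 21, 1), (11, 15, 1)]

/-- Words fixing the first point. -/
def fixW : List (List ℕ) :=
  [[0, 0, 1, 1, 0, 0, 0, 0, 0, 0, 0, 0], [1, 1, 1, 0, 1, 1, 0, 1, 0, 0], [0, 0, 0, 1, 0, 1, 1, 0, 1, 1, 0]]

theorem cent_checks : treeT 1 treeList = some (2 ^ 24 - 1) ∧
    (fixW.all fun w => Nat.beq (ap (tword w) 0) 0) = true ∧
    ((List.range 24).all fun p => Nat.beq p 0 || fixW.any fun w => !Nat.beq (ap (tword w) p) p) = true ∧
    pm (wp wu) (wp wu) ≠ idp := by decide +kernel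

theorem tgen_el (i : ℕ) : El (tgen i) (bif Nat.beq i 0 then px else wP) := by
  unfold tgen
  cases Nat.beq i 0
  · exact wval_wWord ▸ wp_el wWord
  · exact base_gen.1

theorem tword_el : ∀ w, El (tword w) (twordP w)
  | [] => El.one
  | i :: w => (tgen_el i).mul (tword_el w)

theorem centralizer_trivial {a : P} (hx : a * px = px * a) (hw : a * wP = wP * a) : a = 1 := by
  obtain ⟨h1, h2, h3, -⟩ := cent_checks
  have hg : ∀ i, a * (bif Nat.beq i 0 then px else wP) = (bif Nat.beq i 0 then px else wP) * a := fun i => by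
    cases Nat.beq i 0
    · exact hw
    · exact hx
  have hc : ∀ w, a * twordP w = twordP w * a := by
    intro w
    induction w with
    | nil => simp [twordP]
    | cons i w ih => rw [twordP, ← mul_assoc, hg, mul_assoc, ih, mul_assoc]
  have happ : ∀ {q : ℕ} {b : P}, El q b → a * b = b * a → ∀ i : Fin 24, psi a (psi b i) = psi b (psi a i) := by
    intro q b _ hb i
    rw [← Equiv.Perm.mul_apply, ← Equiv.Perm.mul_apply, ← map_mul, ← map_mul, hb]
  have h0 : psi a 0 = 0 := by
    by_contra hne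
    simp only [List.all_eq_true, List.any_eq_true, Bool.or_eq_true, List.mem_range, Bool.not_eq_true'] at h2 h3
    rcases h3 _ (psi a 0).2 with h | ⟨w, hw', hwne⟩
    · exact hne (Fin.ext (Nat.eq_of_beq_eq_true h))
    · refine Nat.ne_of_beq_eq_false hwne ?_
      rw [tword_el w (psi a 0), ← happ (tword_el w) (hc w) 0]
      have : psi (twordP w) 0 = 0 := Fin.ext ((tword_el w 0).symm.trans (Nat.eq_of_beq_eq_true (h2 w hw')))
      rw [this]
  have key : ∀ (l : List (ℕ × ℕ × ℕ)) (seen out : ℕ), treeT seen l = some out →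
      (∀ i : Fin 24, seen.testBit i = true → psi a i = i) → ∀ i : Fin 24, out.testBit i = true → psi a i = i := by
    intro l
    induction l with
    | nil => intro seen out h hs i hi; simp only [treeT, Option.some.injEq] at h; exact hs i (h ▸ hi)
    | cons e l ih =>
      intro seen out h hs
      obtain ⟨q, par, g⟩ := e
      simp only [treeT, Bool.cond_eq_ite] at h
      split at h <;> rename_i hc'
      all_goals try simp at h
      simp only [Bool.and_eq_true, Nat.blt_eq] at hc'
      obtain ⟨⟨hp, hseen⟩, hq⟩ := hc'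
      refine ih _ out h fun i hi => ?_
      change (seen ||| 1 <<< q).testBit (i : ℕ) = true at hi
      rw [Nat.testBit_or, Bool.or_eq_true, Nat.one_shiftLeft, Nat.testBit_two_pow, decide_eq_true_eq] at hi
      rcases hi with hi | hi
      · exact hs i hi
      · have e : psi (bif Nat.beq g 0 then px else wP) ⟨par, hp⟩ = i :=
          Fin.ext ((tgen_el g ⟨par, hp⟩).symm.trans ((Nat.eq_of_beq_eq_true hq).trans hi))
        rw [← e, happ (tgen_el g) (hg g), hs ⟨par, hp⟩ hseen]
  refine psi_injective (Equiv.ext fun i => ?_)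
  rw [map_one, Equiv.Perm.one_apply]
  refine key _ _ _ h1 (fun j hj => ?_) i (by rw [Nat.testBit_two_pow_sub_one]; exact decide_eq_true i.2)
  have hj0 : j = 0 := by
    rw [show (1 : ℕ) = 2 ^ 0 from rfl, Nat.testBit_two_pow, decide_eq_true_eq] at hj
    exact Fin.ext hj.symm
  rw [hj0]
  exact h0

theorem mat_ext : ∀ {A B : List ℕ}, okMat A = true → okMat B = true →
    (∀ v : J4Rep.Vec, J4Rep.va v.1 A = J4Rep.va v.1 B) → A = B := by
  have hrow : ∀ (A : List ℕ) (i : ℕ), i < A.length → J4Rep.va (2 ^ i) A = A.getD i 0 := by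
    intro A
    induction A with
    | nil => intro i hi; simp at hi
    | cons r A ih =>
      intro i hi
      cases i with
      | zero => simp [J4Rep.va, J4Rep.va_zero A]
      | succ i =>
        rw [J4Rep.va, List.getD_cons_succ, ← ih i (by simpa using hi), show 2 ^ (i + 1) = 2 * 2 ^ i from pow_succ' 2 i]
        simp
  intro A B hA hB h
  simp only [okMat, Bool.and_eq_true] at hA hB
  have la := Nat.eq_of_beq_eq_true hA.1
  have lb := Nat.eq_of_beq_eq_true hB.1
  refine List.ext_getElem (la.trans lb.symm) fun i h1 h2 => ?_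
  have := h ⟨2 ^ i, Nat.pow_lt_pow_right (by norm_num) (la ▸ h1)⟩
  rwa [hrow A i h1, hrow B i h2, List.getD_eq_getElem _ _ h1, List.getD_eq_getElem _ _ h2] at this

theorem MOK.mat_eq {g h : Spor.J4} {A B : List ℕ} (hg : MOK g A) (hh : MOK h B) (e : rhoG g = rhoG h) : A = B :=
  mat_ext hg.1 hh.1 fun v => (hg.2 v).symm.trans (e ▸ hh.2 v)

theorem exists_noncomm : ∃ x y : P, x * y ≠ y * x := by
  by_contra h
  push Not at h
  haveI := simple_P
  letI : CommGroup P := { (inferInstance : Group P) with mul_comm := h }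
  haveI := finite_P
  have := IsSimpleGroup.prime_card (α := P)
  rw [card_P] at this
  norm_num at this

theorem not_commutative_P : ¬∀ x y : P, x * y = y * x := fun h => by
  obtain ⟨x, y, hxy⟩ := exists_noncomm
  exact hxy (h x y)

theorem eq_top_of_HJ {N : Subgroup Spor.J4} [N.Normal] (h : HJ ≤ N) : N = ⊤ := by
  let q := QuotientGroup.mk' N
  have hq : ∀ a, q (jHom a) = 1 := fun a => (QuotientGroup.eq_one_iff _).2 (h ⟨a, rfl⟩)
  have hy : q gy = 1 := jHom_py ▸ hq py
  have h1 := congrArg q rel_one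
  rw [map_pow, map_mul, hy, map_mul, map_mul, map_inv, hq, map_one, inv_one, one_mul, one_mul, mul_one] at h1
  have h2 := congrArg q t_sq
  rw [map_mul, map_one] at h2
  have ht : q gt = 1 := by
    rwa [pow_three, h2, mul_one] at h1
  rw [eq_top_iff, ← closure_gt, Subgroup.closure_le]
  rintro g (⟨a, rfl⟩ | rfl)
  · exact h ⟨a, rfl⟩
  · exact (QuotientGroup.eq_one_iff _).1 ht

set_option maxHeartbeats 1000000 in
theorem simple_J4 : IsSimpleGroup Spor.J4 := by
  classical
  haveI := finite_J4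
  haveI := finite_P
  obtain ⟨B⟩ := exists_basis
  haveI : Nontrivial Spor.J4 := Finite.one_lt_card_iff_nontrivial.1 (by rw [card_J4.1]; norm_num)
  refine ⟨fun N hN => ?_⟩
  haveI := simple_P
  rcases (inferInstance : (N.comap jHom).Normal).eq_bot_or_eq_top with hb | ht
  swap
  · exact Or.inr (eq_top_of_HJ fun g ⟨a, ha⟩ => ha ▸ (ht ▸ Subgroup.mem_top a : a ∈ N.comap jHom))
  let E' : Subgroup Spor.J4 := B.sub.comap rhoG
  have hEconj : ∀ (a : P), ∀ e ∈ E', (jHom a)⁻¹ * e * jHom a ∈ E' := fun a e he => by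
    have := B.sub_conj a (rhoG e) he
    show rhoG _ ∈ B.sub
    rwa [map_mul, map_mul, map_inv]
  have hEcomm : ∀ x ∈ E', ∀ y ∈ E', x * y = y * x := fun x hx y hy => by
    obtain ⟨v, -, hv⟩ := hx
    obtain ⟨w, -, hw⟩ := hy
    refine rhoG_injective ?_
    rw [map_mul, map_mul, ← hv, ← hw, ← ev_xor B.comm, ← ev_xor B.comm, Nat.xor_comm]
  let A0 : Subgroup P := (N ⊔ E').comap jHom
  haveI hA0n : A0.Normal := ⟨fun n hn g => by
    show jHom (g * n * g⁻¹) ∈ N ⊔ E'
    obtain ⟨u, hu, e, he, hue⟩ := Subgroup.mem_sup_of_normal_left.1 (show jHom n ∈ N ⊔ E' from hn)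
    rw [map_mul, map_mul, ← hue, map_inv,
      show jHom g * (u * e) * (jHom g)⁻¹ = (jHom g * u * (jHom g)⁻¹) * (jHom g * e * (jHom g)⁻¹) by group]
    refine mul_mem ((le_sup_left : N ≤ N ⊔ E') (hN.conj_mem u hu _)) ((le_sup_right : E' ≤ N ⊔ E') ?_)
    have := hEconj g⁻¹ e he
    rwa [map_inv, inv_inv] at this⟩
  have hA0 : A0 = ⊥ := by
    rcases hA0n.eq_bot_or_eq_top with h | h
    · exact h
    · exfalso
      refine not_commutative_P fun x y => ?_
      have hq : ∀ z : P, ∃ e ∈ E', QuotientGroup.mk' N (jHom z) = QuotientGroup.mk' N e := fun z => by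
        obtain ⟨u, hu, e, he, hue⟩ := Subgroup.mem_sup_of_normal_left.1 (show jHom z ∈ N ⊔ E' from
          (h ▸ Subgroup.mem_top z : z ∈ A0))
        refine ⟨e, he, ?_⟩
        rw [← hue, map_mul, show QuotientGroup.mk' N u = 1 from (QuotientGroup.eq_one_iff _).2 hu, one_mul]
      obtain ⟨e, he, hxe⟩ := hq x
      obtain ⟨e', he', hye⟩ := hq y
      have h1 : QuotientGroup.mk' N (jHom (x * y)) = QuotientGroup.mk' N (jHom (y * x)) := by
        rw [map_mul, map_mul, map_mul, map_mul, hxe, hye, ← map_mul, ← map_mul, hEcomm e he e' he']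
      have h2 : (x * y)⁻¹ * (y * x) ∈ N.comap jHom := by
        show jHom _ ∈ N
        rw [map_mul, map_inv]
        exact QuotientGroup.eq.1 h1
      rw [hb, Subgroup.mem_bot, inv_mul_eq_one] at h2
      exact h2
  have hdec : ∀ k ∈ KJ, ∃ e ∈ E', ∃ a : P, k = e * jHom a := by
    intro k hk
    let F : Fin 2048 × P → KJ.map rhoG := fun z =>
      ⟨ev B.img z.1 * rhoG (jHom z.2), mul_mem (B.sub_le _) ⟨_, Subgroup.subset_closure (Or.inl ⟨z.2, rfl⟩), rfl⟩⟩
    have hF : Function.Injective F := by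
      rintro ⟨v, a⟩ ⟨w, b⟩ h
      have h' : ev B.img v * rhoG (jHom a) = ev B.img w * rhoG (jHom b) := congrArg Subtype.val h
      have hvm : ev B.img (v : ℕ) ∈ B.sub := ⟨_, v.2, rfl⟩
      have hwm : ev B.img (w : ℕ) ∈ B.sub := ⟨_, w.2, rfl⟩
      have hab : b * a⁻¹ = 1 := B.sub_inter (by
        rw [map_mul, map_inv, map_mul, map_inv, show rhoG (jHom b) = (ev B.img w)⁻¹ * (ev B.img v * rhoG (jHom a)) by
          rw [h', inv_mul_cancel_left], mul_assoc, mul_assoc, mul_inv_cancel, mul_one]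
        exact mul_mem (inv_mem hwm) hvm)
      obtain rfl := (mul_inv_eq_one.1 hab).symm
      have h0 := B.eq_zero (Nat.xor_lt_two_pow (n := 11) v.2 w.2)
        (by rw [ev_xor B.comm, mul_right_cancel h', ← ev_xor B.comm, Nat.xor_self, ev_zero])
      rw [Nat.xor_eq_zero_iff] at h0
      exact Prod.ext (Fin.ext h0) rfl
    have hb' : Function.Bijective F := (Nat.bijective_iff_injective_and_card F).2 ⟨hF, by
      rw [Nat.card_prod, card_P, Nat.card_fin, card_KJ.2.2]⟩
    obtain ⟨⟨v, a⟩, hva⟩ := hb'.2 ⟨rhoG k, k, hk, rfl⟩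
    have hva' : ev B.img v * rhoG (jHom a) = rhoG k := congrArg Subtype.val hva
    refine ⟨k * (jHom a)⁻¹, ?_, a, by rw [inv_mul_cancel_right]⟩
    show rhoG _ ∈ B.sub
    rw [map_mul, map_inv, ← hva', mul_inv_cancel_right]
    exact ⟨v, v.2, rfl⟩
  rcases maximal_KJ (M := N ⊔ KJ) le_sup_right with hM | hM
  · refine Or.inl ((Subgroup.eq_bot_iff_forall N).2 fun g hg => ?_)
    have hNK : ∀ z ∈ N, z ∈ E' := fun z hz => by
      obtain ⟨e, he, a, rfl⟩ := hdec z (hM ▸ (le_sup_left : N ≤ N ⊔ KJ) hz)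
      have ha : a ∈ A0 := by
        show jHom a ∈ N ⊔ E'
        rw [show jHom a = e⁻¹ * (e * jHom a) by group]
        exact mul_mem ((le_sup_right : E' ≤ N ⊔ E') (inv_mem he)) ((le_sup_left : N ≤ N ⊔ E') hz)
      rw [hA0, Subgroup.mem_bot] at ha
      rwa [ha, map_one, mul_one]
    obtain ⟨v, hv, hve⟩ := hNK g hg
    by_contra hne
    have hv0 : v ≠ 0 := fun h => hne (rhoG_injective (by rw [← hve, h, ev_zero, map_one]))
    let Bad : ℕ → Prop := fun w => ∀ z ∈ N, rhoG z ≠ ev B.img w
    have hbase : ∀ e ∈ eWit, Bad e.1 := by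
      intro e he z hz hze
      have hw := eWit_ok
      simp only [witOK, List.all_eq_true, Bool.and_eq_true, decide_eq_true_eq, bne_iff_ne, ne_eq] at hw
      obtain ⟨hlt, hne'⟩ := hw e he
      have hzc := hNK _ (hN.conj_mem z hz gt)
      obtain ⟨i, hi, hgi⟩ : ∃ i, ∃ hi : i < B.g.length, i = e.2 := ⟨e.2, by rw [B.len]; exact hlt, rfl⟩
      subst hgi
      have hi' : e.2 < eBasis.length := B.mok.length_eq ▸ hi
      have hgk := List.Forall₂.get B.mok hi hi'
      have hd : MOK ((letG 3)⁻¹ * ev B.g e.1 * letG 3) (conjM (evM eBasis e.1) 3) := (evM_ok B.mok e.1).conj 3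
      have hdmem : rhoG ((letG 3)⁻¹ * ev B.g e.1 * letG 3) ∈ B.sub := by
        have hzz : z = ev B.g e.1 := rhoG_injective (hze.trans (rho_ev _ _).symm)
        rw [← hzz]
        show rhoG (gt⁻¹ * z * gt) ∈ B.sub
        have := hzc
        rw [inv_eq_of_mul_eq_one_right t_sq] at this ⊢
        exact this
      obtain ⟨u, -, hu⟩ := hdmem
      refine hne' ?_
      rw [List.getD_eq_getElem _ _ hi']
      refine (hd.mul hgk).mat_eq (hgk.mul hd) ?_
      rw [map_mul _ _ (B.g.get _), map_mul _ (B.g.get _), ← hu]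
      exact (ev_comm (fun x hx => B.comm.2 _ (List.mem_map_of_mem (List.get_mem _ _)) x hx) u).symm
    have hsteps : ∀ (l : List (ℕ × ℕ × ℕ)) (seen out : ℕ), orbFrom seen l = some out →
        (∀ j, seen.testBit j = true → Bad j) → ∀ j, out.testBit j = true → Bad j := by
      intro l
      induction l with
      | nil => intro seen out h hs j hj; simp only [orbFrom, Option.some.injEq] at h; exact hs j (h ▸ hj)
      | cons e l ih =>
        intro seen out h hs
        obtain ⟨n, w, l'⟩ := e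
        simp only [orbFrom, Bool.cond_eq_ite] at h
        split at h <;> rename_i hc'
        all_goals try simp at h
        simp only [Bool.and_eq_true, Nat.blt_eq] at hc'
        obtain ⟨⟨hl, hseen⟩, hq⟩ := hc'
        refine ih _ out h fun j hj => ?_
        change (seen ||| 1 <<< n).testBit j = true at hj
        rw [Nat.testBit_or, Bool.or_eq_true, Nat.one_shiftLeft, Nat.testBit_two_pow, decide_eq_true_eq] at hj
        rcases hj with hj | rfl
        · exact hs j hj
        · intro z hz hze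
          refine hs w hseen (letG l' * z * (letG l')⁻¹) (hN.conj_mem z hz _) ?_
          rw [map_mul, map_mul, map_inv, hze, ← Nat.eq_of_beq_eq_true hq, ← B.conj hl]
          group
    obtain ⟨out, ho, horb⟩ := orb_cases eOrb_ok
    refine hsteps _ _ _ ho (fun j hj => ?_) v ?_ g hg hve.symm
    · have key : ∀ (l : List (ℕ × ℕ)) (s : ℕ),
          (l.foldl (fun s e => Nat.lor s (Nat.shiftLeft 1 e.1)) s).testBit j = true →
            s.testBit j = true ∨ ∃ e ∈ l, e.1 = j := by
        intro l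
        induction l with
        | nil => intro s h; exact Or.inl h
        | cons a l ih =>
          intro s h
          rcases ih _ h with h | ⟨e, he, rfl⟩
          · change (s ||| 1 <<< a.1).testBit j = true at h
            rw [Nat.testBit_or, Bool.or_eq_true, Nat.one_shiftLeft, Nat.testBit_two_pow, decide_eq_true_eq] at h
            rcases h with h | h
            · exact Or.inl h
            · exact Or.inr ⟨a, List.mem_cons_self, h⟩
          · exact Or.inr ⟨e, List.mem_cons_of_mem a he, rfl⟩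
      rcases key _ 0 hj with h | ⟨e, he, rfl⟩
      · simp at h
      · exact hbase e he
    · rw [Nat.eq_of_beq_eq_true horb]
      exact testBit_mask v _ (Nat.one_le_iff_ne_zero.2 hv0) (lt_of_lt_of_le hv (by norm_num))
  · exfalso
    obtain ⟨u, hu, k, hk, huk⟩ := Subgroup.mem_sup_of_normal_left.1 (show gt ∈ N ⊔ KJ by rw [hM]; exact Subgroup.mem_top _)
    obtain ⟨e, he, a, rfl⟩ := hdec k hk
    have hta : gt * (jHom a)⁻¹ ∈ N ⊔ E' := by
      rw [← huk, mul_assoc, mul_inv_cancel_right]
      exact mul_mem ((le_sup_left : N ≤ N ⊔ E') hu) ((le_sup_right : E' ≤ N ⊔ E') he)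
    have hnorm : ∀ (g : P), ∀ z ∈ N ⊔ E', jHom g * z * (jHom g)⁻¹ ∈ N ⊔ E' := by
      intro g z hz
      obtain ⟨u', hu', e', he', rfl⟩ := Subgroup.mem_sup_of_normal_left.1 hz
      rw [show jHom g * (u' * e') * (jHom g)⁻¹ = (jHom g * u' * (jHom g)⁻¹) * (jHom g * e' * (jHom g)⁻¹) by group]
      refine mul_mem ((le_sup_left : N ≤ N ⊔ E') (hN.conj_mem u' hu' _)) ((le_sup_right : E' ≤ N ⊔ E') ?_)
      have := hEconj g⁻¹ e' he'
      rwa [map_inv, inv_inv] at this
    have hcomm : ∀ s : P, gt * jHom s = jHom s * gt → a * s = s * a := by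
      intro s hs
      have h1 : jHom (s * a * s⁻¹ * a⁻¹) ∈ N ⊔ E' := by
        have := mul_mem (inv_mem (hnorm s _ hta)) hta
        rw [show (jHom s * (gt * (jHom a)⁻¹) * (jHom s)⁻¹)⁻¹ * (gt * (jHom a)⁻¹) =
          jHom s * jHom a * (gt⁻¹ * (jHom s)⁻¹ * gt) * (jHom a)⁻¹ by group] at this
        rwa [show gt⁻¹ * (jHom s)⁻¹ * gt = (jHom s)⁻¹ by
          rw [mul_assoc, inv_mul_eq_iff_eq_mul]
          exact (Commute.inv_right (hs : Commute gt (jHom s))).eq.symm,
          ← map_inv, ← map_inv, ← map_mul, ← map_mul, ← map_mul] at this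
      have h2 : s * a * s⁻¹ * a⁻¹ ∈ A0 := h1
      rw [hA0, Subgroup.mem_bot] at h2
      rw [← mul_inv_eq_iff_eq_mul.1 (mul_inv_eq_one.1 h2)]
    have ha : a = 1 := centralizer_trivial (hcomm px (by rw [jHom_px]; exact comm_x)) (hcomm wP comm_w)
    rw [ha, map_one, inv_one, mul_one] at hta
    haveI hnormal : (N ⊔ E').Normal := Subgroup.normalizer_eq_top_iff.1 (by
      rw [eq_top_iff, ← closure_gt, Subgroup.closure_le]
      rintro g (⟨b, rfl⟩ | rfl)
      · refine Subgroup.mem_normalizer_iff.2 fun z => ⟨hnorm b z, fun hz => ?_⟩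
        have := hnorm b⁻¹ _ hz
        simpa [mul_assoc] using this
      · exact Subgroup.le_normalizer hta)
    let q := QuotientGroup.mk' (N ⊔ E')
    have ht : q gt = 1 := (QuotientGroup.eq_one_iff _).2 hta
    have h2 := congrArg q rel_two
    rw [map_pow, map_mul, map_mul, map_mul, map_mul, map_inv, ht, mul_one, mul_one, inv_mul_cancel, mul_one, map_one,
      pow_two, ← map_mul, ← map_mul] at h2
    have h3 : wval im wu * wval im wu ∈ A0 := (QuotientGroup.eq_one_iff (jHom (wval im wu * wval im wu))).1 h2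
    rw [hA0, Subgroup.mem_bot] at h3
    refine cent_checks.2.2.2 ?_
    have hp := (wp_el wu).mul (wp_el wu)
    rw [h3] at hp
    rw [pm_eq]
    refine Eq.trans (congrArg hor (List.map_congr_left fun i hi => ?_)) hor_range
    rw [List.mem_range] at hi
    rw [← ap_pm _ _ hi]
    have := hp ⟨i, hi⟩
    rw [map_one, Equiv.Perm.one_apply] at this
    exact this

end Cfsg.Lib.J4Cert
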