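import Cfsg.Agent.J4Cert.CentDef
import Cfsg.Agent.J4Cert.Simple

/-!
The orbits of the elementary abelian group on the listed cosets, and the sums of orbit sizes that can occur.
-/

set_option autoImplicit false
set_option maxRecDepth 8000
set_option Elab.async false

namespace Cfsg.Lib.J4Cert

/-- The vector fixed by the large subgroup. -/
def kFixV : ℕ := 0xffffffff

/-- The vector of a listed coset. -/
def kVec (n : ℕ) : ℕ := vt (tabs4 (cVM.getD n [])) kFixV

/-- The seven classes of listed cosets, with the sizes of the orbits of the elementary abelian group. -/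
def sevenCls : List (ℕ × List ℕ) :=
  [(1, [0]), (4, [1, 31]), (16, [30, 34]), (128, [4, 24, 25, 33]), (1024, [5, 9, 14]),
    (2048, [6, 10, 12, 21, 22, 32]), (2048, [7, 17])]

/-- The class of a listed coset. -/
def sevenIx (n : ℕ) : ℕ := sevenCls.findIdx fun e => e.2.contains n

/-- The size of the orbit of the elementary abelian group at a listed coset. -/
def eLen (n : ℕ) : ℕ := (sevenCls.getD (sevenIx n) (0, [])).1

/-- The vector is fixed by the generators of the large subgroup and moved by the involution. -/
def kFixOK : Bool :=
  decide (kFixV < 2 ^ 112) && Nat.beq (vt (tabs4 J4Rep.matX) kFixV) kFixV &&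
    Nat.beq (vt (tabs4 J4Rep.matY) kFixV) kFixV && Nat.beq (vt (tabs4 (eBasis.getD 0 [])) kFixV) kFixV &&
    !Nat.beq (vt (tabs4 J4Rep.matT) kFixV) kFixV

/-- The number of elements of the abelian group fixing a listed coset. -/
def eFix (n : ℕ) : ℕ := ((imgsL eBasis [kVec n]).filter fun u => Nat.beq u (kVec n)).length

/-- The fixed elements match the sizes. -/
def eFixOK (ns : List ℕ) : Bool := ns.all fun n => decide (kVec n < 2 ^ 112) && Nat.beq (eLen n * eFix n) 2048

/-- A union of small orbits that can be one orbit is a whole class. -/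
def unionOK : Bool :=
  kLiveN.all fun n =>
    (kLiveN.filter fun m => Nat.beq (eLen m) (eLen n)).sublists.all fun T =>
      !(T.contains n && Nat.beq ((T.map kSize).sum % eLen n) 0 && Nat.beq (501397585920 % (T.map kSize).sum) 0) ||
        T == kLiveN.filter fun m => Nat.beq (sevenIx m) (sevenIx n)

/-- The heads of the classes. -/
def sevenHead (i : Fin 7) : ℕ := [0, 1, 30, 4, 5, 6, 7].getD i.val 0

theorem kFix_ok : kFixOK = true := by decide +kernel

theorem eFix_ok0 : eFixOK (kLiveN.take 10) = true := by decide +kernel

theorem eFix_ok1 : eFixOK (kLiveN.drop 10) = true := by decide +kernel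

theorem union_ok : unionOK = true := by decide +kernel

theorem seven_facts : (∀ i : Fin 7, sevenHead i ∈ kLiveN ∧ sevenIx (sevenHead i) = i.val) ∧
    (∀ n ∈ kLiveN, sevenIx n < 7) ∧
    (List.ofFn fun i : Fin 7 => ((kLiveN.filter fun m => Nat.beq (sevenIx m) i.val).map kSize).sum) =
      [1, 15180, 28336, 3400320, 32643072, 54405120, 82575360] := by decide +kernel

end Cfsg.Lib.J4Cert
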