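import Cfsg.Agent.J4Cert.SylDef

/-!
The checks of the Sylow subgroup are true.
-/

set_option autoImplicit false
set_option maxRecDepth 8000
set_option Elab.async false

namespace Cfsg.Lib.J4Cert

theorem sylGen_ok : genOK = true := by decide +kernel

theorem sylStep_ok0 : stepOK (sylSteps.take 256) 0 = true := by decide +kernel
theorem sylStep_ok1 : stepOK ((sylSteps.drop 256).take 256) 256 = true := by decide +kernel
theorem sylStep_ok2 : stepOK ((sylSteps.drop 512).take 256) 512 = true := by decide +kernel
theorem sylStep_ok3 : stepOK ((sylSteps.drop 768).take 256) 768 = true := by decide +kernel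

theorem sylShape_ok : sylSteps.length = 1024 ∧ sylSrt.length = 1024 ∧ (sylEls.get 0).1 = idp ∧
    (sylEls.get 0).2 = id11 ∧ sylParOK = true := by
  refine ⟨?_, ?_, ?_, ?_, ?_⟩ <;> decide +kernel

theorem sylSrt_ok : incrFrom 0 sylSrt = true := by decide +kernel

theorem sylInv_ok : invOK = true := by decide +kernel

theorem sylCom_ok : comOK invE = true := by decide +kernel

theorem sylFx_ok : fxOK invE = true := by decide +kernel

theorem sylRoot_ok : rootOK invE = true := by decide +kernel

end Cfsg.Lib.J4Cert
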