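import Cfsg.Agent.J4Cert.ESub
import Cfsg.Agent.J4Cert.SylCheck
import Cfsg.Agent.J4Cert.Mask

/-!
A Sylow subgroup has only one elementary abelian subgroup of order 2048.
-/

set_option autoImplicit false
set_option maxRecDepth 8000

namespace Cfsg.Lib.J4Cert

open Cfsg Cfsg.Lib.J4Pres Cfsg.Lib.CosetTable

attribute [local irreducible] pm rel idp ap cl sylEls sylSteps sylInv invE sylSrt

theorem El.pm_unique {p q p' q' : ℕ} {a b a' b' : P} (hp : El p a) (hq : El q b) (hp' : El p' a') (hq' : El q' b')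
    (h : a * b = a' * b') : pm p q = pm p' q' := by
  rw [pm_eq, pm_eq]
  congr 1
  refine List.map_congr_left fun i hi => ?_
  have hi' := List.mem_range.1 hi
  have e1 := (ap_pm p q hi').symm.trans (hp.mul hq ⟨i, hi'⟩)
  have e2 := (ap_pm p' q' hi').symm.trans (hp'.mul hq' ⟨i, hi'⟩)
  rw [e1, e2, h]

/-- A matrix gives the action of an element on the elementary abelian group. -/
def Acts (B : EBasis) (a : P) (M : List ℕ) : Prop :=
  (∀ r ∈ M, r < 2 ^ 11) ∧ ∀ v < 2048, (jHom a)⁻¹ * B.el v * jHom a = B.el (J4Rep.va v M)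

theorem va_lt11 {M : List ℕ} (h : ∀ r ∈ M, r < 2 ^ 11) (v : ℕ) : J4Rep.va v M < 2048 :=
  J4Rep.va_lt (n := 11) M v (List.all_eq_true.2 fun r hr => decide_eq_true (h r hr))

theorem Acts.mul {B : EBasis} {a b : P} {M N : List ℕ} (ha : Acts B a M) (hb : Acts B b N) :
    Acts B (a * b) (J4Rep.mmul M N) := by
  refine ⟨fun r hr => ?_, fun v hv => ?_⟩
  · obtain ⟨q, -, rfl⟩ := List.mem_map.1 hr
    exact va_lt11 hb.1 q
  · rw [← J4Rep.va_mmul, ← hb.2 _ (va_lt11 ha.1 v), ← ha.2 v hv, map_mul]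
    group

theorem Acts.one (B : EBasis) : Acts B 1 id11 := by
  refine ⟨by decide +kernel, fun v hv => ?_⟩
  have e : J4Rep.va v id11 = v := Nat.eq_of_testBit_eq fun i => by
    rw [id11, J4Rep.va_pows_testBit, Nat.sub_zero]
    by_cases hi : i < 11
    · simp [hi]
    · rw [Nat.testBit_lt_two_pow (lt_of_lt_of_le hv
        (le_trans (by norm_num) (Nat.pow_le_pow_right (by norm_num) (not_lt.1 hi))))]
      simp
  rw [e, map_one, inv_one, one_mul, mul_one]

theorem Acts.word (B : EBasis) : ∀ w : List ℕ, w.all (fun l => Nat.blt l 3) = true → Acts B (wval im w) (vword w)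
  | [], _ => by simpa [wval, vword] using Acts.one B
  | l :: w, h => by
    simp only [List.all_cons, Bool.and_eq_true, Nat.blt_eq] at h
    have hl : Acts B (im l) (eRows.getD l []) := by
      refine ⟨?_, fun v _ => ?_⟩
      · have hr := (by decide +kernel : ∀ l < 3, ∀ r ∈ eRows.getD l [], r < 2 ^ 11) l h.1
        exact hr
      · rw [jHom_letG h.1]
        exact B.el_conj h.1 v
    rw [show wval im (l :: w) = im l * wval im w by simp [wval]]
    exact hl.mul (Acts.word B w h.2)

theorem stepOK_get {lo : ℕ} {sts : List ℕ} (h : stepOK sts lo = true) {i : ℕ} (hi : i < sts.length) {j : ℕ}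
    (hj : j < 5) :
    (sylEls.get (Nat.land (Nat.shiftRight (sts[i]) (10 * j)) 1023)).1 =
        pm (sylEls.get (lo + i)).1 (wp (sylW.getD j [])) ∧
      (sylEls.get (Nat.land (Nat.shiftRight (sts[i]) (10 * j)) 1023)).2 =
        J4Rep.mmul (sylEls.get (lo + i)).2 (sylMats.getD j []) := by
  simp only [stepOK, List.all_eq_true, Bool.and_eq_true, List.mem_range] at h
  obtain ⟨h1, h2⟩ := h (sts[i], i) (List.mem_iff_getElem.2 ⟨i, by simpa using hi, by simp⟩) j hj
  exact ⟨Nat.eq_of_beq_eq_true h1, leq_eq h2⟩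

theorem step_spec {k : ℕ} (hk : k < 1024) {j : ℕ} (hj : j < 5) :
    sylStep k j < 1024 ∧ (sylEls.get (sylStep k j)).1 = pm (sylEls.get k).1 (wp (sylW.getD j [])) ∧
      (sylEls.get (sylStep k j)).2 = J4Rep.mmul (sylEls.get k).2 (sylMats.getD j []) := by
  have hlen := sylShape_ok.1
  refine ⟨Nat.lt_succ_of_le (show (_ &&& 1023) ≤ 1023 from Nat.and_le_right), ?_⟩
  have key : ∀ (lo : ℕ), stepOK ((sylSteps.drop lo).take 256) lo = true → lo ≤ k → k < lo + 256 →
      (sylEls.get (sylStep k j)).1 = pm (sylEls.get k).1 (wp (sylW.getD j [])) ∧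
      (sylEls.get (sylStep k j)).2 = J4Rep.mmul (sylEls.get k).2 (sylMats.getD j []) := by
    intro lo h h1 h2
    have hl : k - lo < ((sylSteps.drop lo).take 256).length := by
      rw [List.length_take, List.length_drop, hlen]; omega
    have := stepOK_get h hl hj
    rw [Nat.add_sub_cancel' h1] at this
    have e : ((sylSteps.drop lo).take 256)[k - lo] = sylSteps.getD k 0 := by
      rw [List.getElem_take, List.getElem_drop, List.getD_eq_getElem _ _ (by omega)]
      simp [Nat.add_sub_cancel' h1]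
    rwa [e] at this
  rcases (by omega : k < 256 ∨ (256 ≤ k ∧ k < 512) ∨ (512 ≤ k ∧ k < 768) ∨ (768 ≤ k)) with h | h | h | h
  · exact key 0 (by rw [List.drop_zero]; exact sylStep_ok0) (by omega) (by omega)
  · exact key 256 sylStep_ok1 h.1 (by omega)
  · exact key 512 sylStep_ok2 h.1 (by omega)
  · exact key 768 sylStep_ok3 h (by omega)

theorem par_spec {k : ℕ} (h0 : k ≠ 0) (hk : k < 1024) :
    ∃ q j, q < k ∧ j < 5 ∧ sylStep q j = k := by
  have h := sylShape_ok.2.2.2.2
  simp only [sylParOK, Bool.and_eq_true, List.all_eq_true] at h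
  obtain ⟨hlen, hall⟩ := h
  have hl := Nat.eq_of_beq_eq_true hlen
  obtain ⟨m, rfl⟩ : ∃ m, k = m + 1 := ⟨k - 1, by omega⟩
  have hm : m < sylPar.length := by omega
  obtain ⟨⟨h1, h2⟩, h3⟩ := hall (sylPar[m], m) (List.mem_iff_getElem.2 ⟨m, by simpa using hm, by simp⟩)
  exact ⟨_, _, Nat.lt_succ_of_le (Nat.le_of_ble_eq_true h1), Nat.le_of_ble_eq_true h2, Nat.eq_of_beq_eq_true h3⟩

theorem gen_spec (B : EBasis) {j : ℕ} (hj : j < 5) :
    El (wp (sylW.getD j [])) (wval im (sylW.getD j [])) ∧ Acts B (wval im (sylW.getD j [])) (sylMats.getD j []) := by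
  have h := sylGen_ok
  simp only [genOK, Bool.and_eq_true, List.all_eq_true, List.mem_range] at h
  obtain ⟨h1, h2⟩ := h.2 j hj
  refine ⟨wp_el _, leq_eq h2 ▸ Acts.word B _ (List.all_eq_true.2 fun l hl => h1 l hl)⟩

theorem syl_el (B : EBasis) : ∀ k < 1024, ∃ a : P, El (sylEls.get k).1 a ∧ Acts B a (sylEls.get k).2 := by
  intro k
  induction k using Nat.strong_induction_on with
  | _ k ih =>
    intro hk
    by_cases h0 : k = 0
    · subst h0
      exact ⟨1, sylShape_ok.2.2.1 ▸ El.one, sylShape_ok.2.2.2.1 ▸ Acts.one B⟩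
    · obtain ⟨q, j, hq, hj, rfl⟩ := par_spec h0 hk
      obtain ⟨-, e1, e2⟩ := step_spec (by omega : q < 1024) hj
      obtain ⟨a, ha, hM⟩ := ih q hq (by omega)
      obtain ⟨g1, g2⟩ := gen_spec B hj
      exact ⟨a * _, e1 ▸ ha.mul g1, e2 ▸ hM.mul g2⟩

/-- The elements of the table. -/
def InU (a : P) : Prop := ∃ k < 1024, El (sylEls.get k).1 a

theorem InU.one : InU 1 := ⟨0, by norm_num, sylShape_ok.2.2.1 ▸ El.one⟩

theorem InU.mul_gen (B : EBasis) {a : P} (ha : InU a) {j : ℕ} (hj : j < 5) :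
    InU (a * wval im (sylW.getD j [])) := by
  obtain ⟨k, hk, h⟩ := ha
  obtain ⟨h1, h2, -⟩ := step_spec hk hj
  exact ⟨_, h1, h2 ▸ h.mul (gen_spec B hj).1⟩

theorem InU.mul (B : EBasis) {a b : P} (ha : InU a) (hb : InU b) : InU (a * b) := by
  obtain ⟨k, hk, h⟩ := hb
  induction k using Nat.strong_induction_on generalizing b with
  | _ k ih =>
    by_cases h0 : k = 0
    · subst h0
      rw [El.unique h (sylShape_ok.2.2.1 ▸ El.one), mul_one]
      exact ha
    · obtain ⟨q, j, hq, hj, rfl⟩ := par_spec h0 hk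
      obtain ⟨-, e1, -⟩ := step_spec (by omega : q < 1024) hj
      obtain ⟨c, hc, -⟩ := syl_el B q (by omega)
      rw [El.unique h (e1 ▸ hc.mul (gen_spec B hj).1), ← mul_assoc]
      exact InU.mul_gen B (ih q hq (by omega) hc) hj

theorem InU.pow (B : EBasis) {a : P} (ha : InU a) : ∀ n : ℕ, InU (a ^ n)
  | 0 => by rw [pow_zero]; exact InU.one
  | n + 1 => by rw [pow_succ]; exact InU.mul B (InU.pow B ha n) ha

theorem InU.inv (B : EBasis) {a : P} (ha : InU a) : InU a⁻¹ := by
  haveI := finite_P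
  rw [inv_eq_of_mul_eq_one_right (show a * a ^ (orderOf a - 1) = 1 by
    rw [← pow_succ', Nat.sub_add_cancel (orderOf_pos a), pow_orderOf_eq_one])]
  exact InU.pow B ha _

/-- The subgroup of the table. -/
def sylU (B : EBasis) : Subgroup P where
  carrier := {a | InU a}
  one_mem' := InU.one
  mul_mem' := fun ha hb => InU.mul B ha hb
  inv_mem' := fun ha => InU.inv B ha

theorem el_normal {k : ℕ} (hk : k < 1024) : pm (sylEls.get k).1 idp = (sylEls.get k).1 := by
  have h := sylInv_ok
  simp only [invOK, List.all_eq_true, List.mem_range, Bool.and_eq_true] at h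
  exact Nat.eq_of_beq_eq_true (h k hk).1

theorem incrFrom_pairwise : ∀ (l : List ℕ) (v : ℕ), incrFrom v l = true →
    (∀ k ∈ l, k < 1024 ∧ v < (sylEls.get k).1) ∧ l.Pairwise (fun a b => (sylEls.get a).1 < (sylEls.get b).1)
  | [], v, _ => by simp
  | k :: l, v, h => by
    simp only [incrFrom, Bool.and_eq_true, Nat.blt_eq] at h
    obtain ⟨ih1, ih2⟩ := incrFrom_pairwise l _ h.2
    refine ⟨fun m hm => ?_, List.pairwise_cons.2 ⟨fun m hm => (ih1 m hm).2, ih2⟩⟩
    rcases List.mem_cons.1 hm with rfl | hm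
    · exact h.1
    · exact ⟨(ih1 m hm).1, h.1.2.trans (ih1 m hm).2⟩

theorem card_sylU (B : EBasis) : 1024 ≤ Nat.card (sylU B) := by
  haveI := finite_P
  obtain ⟨h1, h2⟩ := incrFrom_pairwise _ _ sylSrt_ok
  have hlen := sylShape_ok.2.1
  choose f hf using fun i : Fin sylSrt.length => syl_el B sylSrt[i.1] (h1 _ (List.getElem_mem i.2)).1
  have hinj : Function.Injective fun i : Fin sylSrt.length =>
      (⟨f i, sylSrt[i.1], (h1 _ (List.getElem_mem i.2)).1, (hf i).1⟩ : sylU B) := by
    intro i j h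
    have h' : f i = f j := congrArg Subtype.val h
    have e : (sylEls.get sylSrt[i.1]).1 = (sylEls.get sylSrt[j.1]).1 := by
      rw [← el_normal (h1 _ (List.getElem_mem i.2)).1, ← el_normal (h1 _ (List.getElem_mem j.2)).1]
      exact El.pm_unique (hf i).1 El.one (hf j).1 El.one (by rw [h'])
    rcases lt_trichotomy i.1 j.1 with hl | hl | hl
    · exact absurd e (Nat.ne_of_lt (List.pairwise_iff_getElem.1 h2 _ _ i.2 j.2 hl))
    · exact Fin.ext hl
    · exact absurd e.symm (Nat.ne_of_lt (List.pairwise_iff_getElem.1 h2 _ _ j.2 i.2 hl))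
  have := Nat.card_le_card_of_injective _ hinj
  rwa [Nat.card_fin, hlen] at this

/-- An entry describes an element. -/
def EOK (B : EBasis) (e : Inv2) : Prop :=
  ∃ a : P, El e.p a ∧ Acts B a e.M ∧ (∀ v < 2048, J4Rep.va v e.M = v → e.fx.testBit v = true)

theorem invE_spec (B : EBasis) {e : Inv2} (he : e ∈ invE) : EOK B e := by
  have hf := sylFx_ok
  simp only [fxOK, List.all_eq_true, Bool.and_eq_true] at hf
  obtain ⟨hl, hm⟩ := hf e he
  unfold invE at he
  rw [List.mem_map] at he
  obtain ⟨⟨⟨k, c, f⟩, i⟩, hki, rfl⟩ := he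
  have hk : k < 1024 := (by decide +kernel : ∀ e ∈ sylInv, e.1 < 1024) (k, c, f) (by
    obtain ⟨hi, e⟩ := List.mem_zipIdx' hki
    rw [e]
    exact List.getElem_mem hi)
  obtain ⟨a, ha, hM⟩ := syl_el B k hk
  refine ⟨a, ha, hM, fun v hv h => ?_⟩
  rw [Nat.eq_of_beq_eq_true hm]
  exact fixMask_fix (Nat.eq_of_beq_eq_true hl) hv h

theorem com_spec {a b : Inv2} (ha : a ∈ invE) (hb : b ∈ invE) (h : pm a.p b.p = pm b.p a.p) :
    a.com.testBit b.i = true := by
  have hc := sylCom_ok
  simp only [comOK, List.all_eq_true, Bool.or_eq_true, Bool.not_eq_true'] at hc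
  rcases hc a ha b hb with h1 | h1
  · exact h1
  · exact absurd h (Nat.ne_of_beq_eq_false h1)

/-- The projection of an elementary abelian group and its fixed vectors. -/
structure Proj (B : EBasis) (T : Finset P) (V : Finset ℕ) : Prop where
  mul : ∀ a ∈ T, ∀ b ∈ T, a * b ∈ T
  comm : ∀ a ∈ T, ∀ b ∈ T, a * b = b * a
  lt : ∀ v ∈ V, v < 2048
  fixed : ∀ a ∈ T, ∀ v ∈ V, (jHom a)⁻¹ * B.el v * jHom a = B.el v

theorem dfs_sound {B : EBasis} {T : Finset P} {V : Finset ℕ} (h : Proj B T V) : ∀ (f : ℕ) (K : List ℕ) (W : ℕ)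
    (c : List Inv2), dfs f K W c = true → (∀ e ∈ c, e ∈ invE) → (∀ p ∈ K, ∃ a ∈ T, El p a) → idp ∈ K →
    (∀ a ∈ T, (∃ p ∈ K, El p a) ∨ ∃ e ∈ c, El e.p a) → (∀ v ∈ V, W.testBit v = true) → V.card * T.card ≤ 2047
  | 0, K, W, c, hd, _, _, _, _, _ => by simp [dfs] at hd
  | f + 1, K, W, c, hd, hc, hK, h1, hcov, hW => by
    simp only [dfs] at hd
    cases hp : peel (2047 / (K.length + c.length)) W with
    | true =>
      have hV := peel_sound _ _ hp V hW
      have hT : T.card ≤ K.length + c.length := by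
        classical
        have hex : ∀ a ∈ T, ∃ p ∈ (K ++ c.map Inv2.p).toFinset, El p a := fun a ha => by
          rcases hcov a ha with ⟨p, hp, hpa⟩ | ⟨e, he, hea⟩
          · exact ⟨p, List.mem_toFinset.2 (List.mem_append_left _ hp), hpa⟩
          · exact ⟨e.p, List.mem_toFinset.2 (List.mem_append_right _ (List.mem_map_of_mem he)), hea⟩
        choose g hg using hex
        refine (Finset.card_le_card_of_injOn (fun a => if ha : a ∈ T then g a ha else 0) (fun a ha => ?_)
          (fun a ha b hb e => ?_)).trans ((List.toFinset_card_le (K ++ c.map Inv2.p)).trans (by rw [List.length_append, List.length_map]))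
        · have ha' : a ∈ T := ha
          simpa [ha'] using (hg a ha').1
        · change a ∈ T at ha
          change b ∈ T at hb
          simp only [dif_pos ha, dif_pos hb] at e
          exact ((hg a ha).2).unique (e ▸ (hg b hb).2)
      calc V.card * T.card ≤ 2047 / (K.length + c.length) * (K.length + c.length) := Nat.mul_le_mul hV hT
        _ ≤ 2047 := Nat.div_mul_le_self _ _
    | false =>
      rw [hp, cond_false] at hd
      cases c with
      | nil => simp at hd
      | cons e r =>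
        simp only [Bool.and_eq_true] at hd
        obtain ⟨a, ha, hM, hfx⟩ := invE_spec B (hc e List.mem_cons_self)
        have hr : ∀ b ∈ r, b ∈ invE := fun b hb => hc b (List.mem_cons_of_mem e hb)
        by_cases haT : a ∈ T
        · refine dfs_sound h f _ _ _ hd.2 (fun b hb => hr b (List.mem_filter.1 hb).1) ?_
            (List.mem_append_left _ h1) ?_ ?_
          · intro p hp'
            rcases List.mem_append.1 hp' with hp' | hp'
            · exact hK p hp'
            · obtain ⟨q, hq, rfl⟩ := List.mem_map.1 hp'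
              obtain ⟨b, hb, hqb⟩ := hK q hq
              exact ⟨b * a, h.mul b hb a haT, hqb.mul ha⟩
          · intro b hb
            rcases hcov b hb with ⟨p, hp', hpb⟩ | ⟨e', he', heb⟩
            · exact Or.inl ⟨p, List.mem_append_left _ hp', hpb⟩
            · rcases List.mem_cons.1 he' with rfl | he'
              · refine Or.inl ⟨pm idp e'.p, List.mem_append_right _ (List.mem_map.2 ⟨idp, h1, rfl⟩), ?_⟩
                rw [heb.unique ha]
                simpa using El.one.mul ha
              · cases hn : hasN (K ++ K.map fun q => pm q e.p) e'.p with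
                | true => exact Or.inl ⟨_, hasN_mem hn, heb⟩
                | false =>
                  refine Or.inr ⟨e', List.mem_filter.2 ⟨he', ?_⟩, heb⟩
                  rw [com_spec (hc e List.mem_cons_self) (hr e' he')
                    (El.pm_unique ha heb heb ha (h.comm a haT b hb)), hn]
                  rfl
          · intro v hv
            show (W &&& e.fx).testBit v = true
            rw [Nat.testBit_and, hW v hv, Bool.true_and]
            refine hfx v (h.lt v hv) (B.el_inj (va_lt11 hM.1 v) (h.lt v hv) ?_)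
            rw [← hM.2 v (h.lt v hv), h.fixed a haT v hv]
        · refine dfs_sound h f _ _ _ hd.1 hr hK h1 (fun b hb => ?_) hW
          rcases hcov b hb with hl | ⟨e', he', heb⟩
          · exact Or.inl hl
          · rcases List.mem_cons.1 he' with rfl | he'
            · exact absurd (ha.unique heb ▸ hb) haT
            · exact Or.inr ⟨e', he', heb⟩

theorem root_sound {B : EBasis} {T : Finset P} {V : Finset ℕ} (h : Proj B T V) (h1 : 1 ∈ T) :
    ∀ (l : List Inv2), rootOK l = true → (∀ e ∈ l, e ∈ invE) → (∀ a ∈ T, a ≠ 1 → ∃ e ∈ l, El e.p a) →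
      (∃ a ∈ T, a ≠ 1) → V.card * T.card ≤ 2047
  | [], _, _, hcov, ⟨a, ha, hne⟩ => by
    obtain ⟨e, he, -⟩ := hcov a ha hne
    simp at he
  | e :: r, hd, hc, hcov, hex => by
    simp only [rootOK, Bool.and_eq_true] at hd
    obtain ⟨a, ha, hM, hfx⟩ := invE_spec B (hc e List.mem_cons_self)
    have hr : ∀ b ∈ r, b ∈ invE := fun b hb => hc b (List.mem_cons_of_mem e hb)
    by_cases haT : a ∈ T
    · have hA : El (pm idp e.p) a := by simpa using El.one.mul ha
      refine dfs_sound h _ _ _ _ hd.1 (fun b hb => hr b (List.mem_filter.1 hb).1) ?_ List.mem_cons_self ?_ ?_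
      · intro p hp
        rcases List.mem_cons.1 hp with rfl | hp
        · exact ⟨1, h1, El.one⟩
        · exact ⟨a, haT, (List.mem_singleton.1 hp) ▸ hA⟩
      · intro b hb
        by_cases hb1 : b = 1
        · exact Or.inl ⟨idp, List.mem_cons_self, hb1 ▸ El.one⟩
        · obtain ⟨e', he', heb⟩ := hcov b hb hb1
          rcases List.mem_cons.1 he' with rfl | he'
          · exact Or.inl ⟨pm idp e'.p, List.mem_cons_of_mem _ List.mem_cons_self, heb.unique ha ▸ hA⟩
          · cases hn : hasN [idp, pm idp e.p] e'.p with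
            | true => exact Or.inl ⟨_, hasN_mem hn, heb⟩
            | false =>
              refine Or.inr ⟨e', List.mem_filter.2 ⟨he', ?_⟩, heb⟩
              rw [com_spec (hc e List.mem_cons_self) (hr e' he') (El.pm_unique ha heb heb ha (h.comm a haT b hb)), hn]
              rfl
      · intro v hv
        refine hfx v (h.lt v hv) (B.el_inj (va_lt11 hM.1 v) (h.lt v hv) ?_)
        rw [← hM.2 v (h.lt v hv), h.fixed a haT v hv]
    · refine root_sound h h1 r hd.2 hr (fun b hb hne => ?_) hex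
      obtain ⟨e', he', heb⟩ := hcov b hb hne
      rcases List.mem_cons.1 he' with rfl | he'
      · exact absurd (ha.unique heb ▸ hb) haT
      · exact ⟨e', he', heb⟩

theorem inv_listed (B : EBasis) {a : P} (ha : InU a) (h2 : a * a = 1) (hne : a ≠ 1) : ∃ e ∈ invE, El e.p a := by
  obtain ⟨k, hk, h⟩ := ha
  have hi := sylInv_ok
  simp only [invOK, List.all_eq_true, List.mem_range, Bool.and_eq_true, Bool.or_eq_true, Bool.not_eq_true',
    List.any_eq_true] at hi
  rcases (hi k hk).2 with (h0 | h0) | ⟨e, he, h0⟩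
  · have hk0 := Nat.eq_of_beq_eq_true h0
    subst hk0
    exact absurd (El.unique h (sylShape_ok.2.2.1 ▸ El.one)) hne
  · exfalso
    refine Nat.ne_of_beq_eq_false h0 ?_
    have hid : pm idp idp = idp := by decide +kernel
    rw [← hid]
    exact El.pm_unique h h El.one El.one (by rw [h2, one_mul])
  · obtain ⟨i, hi', rfl⟩ := List.getElem_of_mem he
    refine ⟨⟨i, (sylEls.get (sylInv[i]).1).1, (sylEls.get (sylInv[i]).1).2, (sylInv[i]).2.1, (sylInv[i]).2.2⟩, ?_, ?_⟩
    · unfold invE
      exact List.mem_map.2 ⟨(sylInv[i], i), List.mem_iff_getElem.2 ⟨i, by simpa using hi', by simp⟩, rfl⟩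
    · show El (sylEls.get (sylInv[i]).1).1 a
      rwa [Nat.eq_of_beq_eq_true h0]

/-- The only large elementary abelian group of the Sylow subgroup. -/
theorem unique_E (B : EBasis) (A : Subgroup Spor.J4)
    (hA : ∀ g ∈ A, ∃ e ∈ B.E, ∃ a ∈ sylU B, g = e * jHom a)
    (hcomm : ∀ g ∈ A, ∀ h ∈ A, g * h = h * g) (hsq : ∀ g ∈ A, g * g = 1) (hcard : Nat.card A = 2048) :
    A = B.E := by
  classical
  haveI := finite_P
  haveI := finite_J4
  let T : Finset P := (Set.toFinite {a : P | ∃ e ∈ B.E, e * jHom a ∈ A}).toFinset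
  let V : Finset ℕ := (Finset.range 2048).filter fun v => B.el v ∈ A
  have hT : ∀ {a : P}, a ∈ T ↔ ∃ e ∈ B.E, e * jHom a ∈ A := by simp [T]
  have hmul : ∀ {e e' : Spor.J4} {a b : P}, e' ∈ B.E → e ∈ B.E →
      ∃ e'' ∈ B.E, e * jHom a * (e' * jHom b) = e'' * jHom (a * b) := by
    intro e e' a b he' he
    refine ⟨e * (jHom a * e' * (jHom a)⁻¹), B.E.mul_mem he ?_, by rw [map_mul]; group⟩
    have := B.E_conj a⁻¹ he'
    rwa [map_inv, inv_inv] at this
  have h1 : (1 : P) ∈ T := hT.2 ⟨1, B.E.one_mem, by rw [map_one, one_mul]; exact A.one_mem⟩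
  have hP : Proj B T V := by
    refine ⟨fun a ha b hb => ?_, fun a ha b hb => ?_, fun v hv => ?_, fun a ha v hv => ?_⟩
    · obtain ⟨e, he, hea⟩ := hT.1 ha
      obtain ⟨e', he', heb⟩ := hT.1 hb
      obtain ⟨e'', he'', h⟩ := hmul (a := a) (b := b) he' he
      exact hT.2 ⟨e'', he'', h ▸ A.mul_mem hea heb⟩
    · obtain ⟨e, he, hea⟩ := hT.1 ha
      obtain ⟨e', he', heb⟩ := hT.1 hb
      obtain ⟨u, hu, h⟩ := hmul (a := a) (b := b) he' he
      obtain ⟨u', hu', h'⟩ := hmul (a := b) (b := a) he he'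
      exact (B.dec_unique hu hu' (h.symm.trans ((hcomm _ hea _ heb).trans h'))).2
    · exact Finset.mem_range.1 (Finset.mem_filter.1 hv).1
    · obtain ⟨e, he, hea⟩ := hT.1 ha
      obtain ⟨w, -, rfl⟩ := B.mem_E.1 he
      have hc := hcomm _ hea _ (Finset.mem_filter.1 hv).2
      rw [mul_assoc, ← mul_assoc (B.el v), B.el_comm v w, mul_assoc] at hc
      rw [mul_assoc, ← mul_left_cancel hc, inv_mul_cancel_left]
  have hcov : ∀ a ∈ T, a ≠ 1 → ∃ e ∈ invE, El e.p a := fun a ha hne => by
    obtain ⟨e, he, hea⟩ := hT.1 ha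
    obtain ⟨e', he', b, hb, hab⟩ := hA _ hea
    have := (B.dec_unique he he' hab).2
    subst this
    obtain ⟨u, hu, h⟩ := hmul (a := a) (b := a) he he
    exact inv_listed B hb (B.dec_unique hu B.E.one_mem (by rw [← h, map_one, mul_one]; exact hsq _ hea)).2 hne
  have hbound : Nat.card A ≤ V.card * T.card := by
    have hg : ∀ a : T, ∃ e ∈ B.E, e * jHom a.1 ∈ A := fun a => hT.1 a.2
    choose s hs using hg
    let F : V × T → Spor.J4 := fun z => B.el z.1.1 * (s z.2 * jHom z.2.1)
    have hsub : (A : Set Spor.J4) ⊆ Set.range F := by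
      intro g hg
      obtain ⟨e, he, a, -, rfl⟩ := hA g hg
      have ha : a ∈ T := hT.2 ⟨e, he, hg⟩
      obtain ⟨hse, hsA⟩ := hs ⟨a, ha⟩
      obtain ⟨v, hv, hve⟩ := B.mem_E.1 (B.E.mul_mem he (B.E.inv_mem hse))
      have hvA : B.el v ∈ A := by
        have := A.mul_mem hg (A.inv_mem hsA)
        rw [hve]
        simpa [mul_assoc] using this
      refine ⟨(⟨v, Finset.mem_filter.2 ⟨Finset.mem_range.2 hv, hvA⟩⟩, ⟨a, ha⟩), ?_⟩
      show B.el v * (s ⟨a, ha⟩ * jHom a) = e * jHom a
      rw [hve, mul_assoc, inv_mul_cancel_left]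
    calc Nat.card A = (A : Set Spor.J4).ncard := (Nat.card_coe_set_eq _)
      _ ≤ (Set.range F).ncard := Set.ncard_le_ncard hsub
      _ ≤ Nat.card (V × T) := by rw [← Nat.card_coe_set_eq]; exact Finite.card_range_le F
      _ = V.card * T.card := by simp [Nat.card_prod, Nat.card_eq_fintype_card]
  have hTriv : ∀ a ∈ T, a = 1 := by
    by_contra hne
    push Not at hne
    have := root_sound hP h1 invE sylRoot_ok (fun e he => he) hcov hne
    omega
  refine SetLike.coe_injective (Set.eq_of_subset_of_ncard_le (fun g hg => ?_) ?_)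
  · obtain ⟨e, he, a, -, rfl⟩ := hA g hg
    rw [hTriv a (hT.2 ⟨e, he, hg⟩), map_one, mul_one]
    exact he
  · rw [← Nat.card_coe_set_eq, ← Nat.card_coe_set_eq]
    exact (B.card_E.trans hcard.symm).le

end Cfsg.Lib.J4Cert
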