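import Cfsg.Agent.J4Cert.Perm

/-!
A group with a map from the group on two letters, a further involution, two central elements, a subgroup and a
sequence of cosets of it.
-/

set_option autoImplicit false

namespace Cfsg.Lib.J4Cert

open Cfsg.Lib.J4Pres

/-- The colours of the three blocks. -/
def colT : ℕ := 0x202212201220111000211100

/-- The six maps of three colours, with their parities. -/
def trio6 : List (ℕ × Bool) :=
  [(0x210, false), (0x120, true), (0x201, true), (0x021, false), (0x102, false), (0x012, true)]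

/-- The graphs of the six maps. -/
def graphs6 : List (ℕ × Bool) := trio6.map fun e => (graph e.1 3, e.2)

/-- The parity of a map of the blocks, read from the pairs of colours. -/
def findPar (acc : ℕ) : List (ℕ × Bool) → Option Bool
  | [] => none
  | (g, p) :: l => bif Nat.beq acc g then some p else findPar acc l

/-- The graphs, written out. -/
def graphsLit : List (ℕ × Bool) :=
  [(0x400020001, false), (0x200040001, true), (0x400010002, true), (0x100040002, false), (0x200010004, false),
    (0x100020004, true)]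

theorem graphsLit_eq : graphsLit = graphs6 := by decide +kernel

/-- The parity of two trios, if they agree. -/
def trioPar (u v : ℕ) : Option Bool := findPar (rel colT u v) graphsLit

theorem findPar_sound {acc : ℕ} {p : Bool} : ∀ {l : List (ℕ × Bool)}, findPar acc l = some p → (acc, p) ∈ l
  | [], h => by simp [findPar] at h
  | (g, q) :: l, h => by
    simp only [findPar] at h
    cases hb : Nat.beq acc g with
    | true =>
      rw [hb, cond_true, Option.some.injEq] at h
      rw [Nat.eq_of_beq_eq_true hb, h]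
      exact List.mem_cons_self
    | false =>
      rw [hb, cond_false] at h
      exact List.mem_cons_of_mem _ (findPar_sound h)

/-- The data of a system. -/
structure Sys (X : Type*) [Group X] where
  f : P →* X
  t : X
  z : X
  χ : X
  z_comm : ∀ g, g * z = z * g
  χ_comm : ∀ g, g * χ = χ * g
  χ_sq : χ * χ = 1
  tt : t * t = 1
  tw : ∀ (s : P) (e : ℕ × Bool), e ∈ trio6 → Blk colT e.1 s → t * f s = f s * t * (bif e.2 then χ else 1)
  K : Subgroup X
  v : ℕ → X

variable {X : Type*} [Group X] (S : Sys X)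

/-- A product of the two central elements. -/
def Sys.Z (b : ℤ) (x : Bool) : X := S.z ^ b * (bif x then S.χ else 1)

/-- The conjugate of the involution. -/
def Sys.tc (a : P) : X := (S.f a)⁻¹ * S.t * S.f a

/-- Two elements in one coset. -/
def Sys.Eqv (g h : X) : Prop := g * h⁻¹ ∈ S.K

theorem Sys.Eqv.refl (g : X) : S.Eqv g g := by
  show g * g⁻¹ ∈ S.K
  rw [mul_inv_cancel]
  exact S.K.one_mem

variable {S}

theorem Sys.Eqv.symm {g h : X} (e : S.Eqv g h) : S.Eqv h g := by
  have := S.K.inv_mem e
  rwa [mul_inv_rev, inv_inv] at this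

theorem Sys.Eqv.trans {g h k : X} (e : S.Eqv g h) (e' : S.Eqv h k) : S.Eqv g k := by
  have h2 := S.K.mul_mem e e'
  rwa [mul_assoc, inv_mul_cancel_left] at h2

theorem Sys.Eqv.mul_right {g h : X} (e : S.Eqv g h) (k : X) : S.Eqv (g * k) (h * k) := by
  show g * k * (h * k)⁻¹ ∈ S.K
  rwa [mul_inv_rev, mul_assoc, mul_inv_cancel_left]

theorem Sys.Z_comm (b : ℤ) (x : Bool) (g : X) : g * S.Z b x = S.Z b x * g := by
  have h1 : Commute g (S.z ^ b) := Commute.zpow_right (S.z_comm g) b
  cases x with
  | false => simpa [Sys.Z] using h1.eq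
  | true => exact (h1.mul_right (S.χ_comm g)).eq

theorem Sys.Z_add (b b' : ℤ) (x x' : Bool) : S.Z b x * S.Z b' x' = S.Z (b + b') (xor x x') := by
  have h : (bif x then S.χ else 1) * S.z ^ b' = S.z ^ b' * (bif x then S.χ else 1) := by
    cases x with
    | false => simp
    | true => exact (Commute.zpow_right (S.z_comm S.χ) b').eq
  simp only [Sys.Z, zpow_add]
  rw [mul_assoc, ← mul_assoc (bif x then S.χ else 1), h, mul_assoc, ← mul_assoc (S.z ^ b) (S.z ^ b')]
  congr 1
  cases x <;> cases x' <;> simp [S.χ_sq]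

theorem Sys.Z_zero : S.Z 0 false = 1 := by simp [Sys.Z]

theorem Sys.Z_inv (b : ℤ) (x : Bool) : (S.Z b x)⁻¹ = S.Z (-b) x := by
  refine inv_eq_of_mul_eq_one_right ?_
  rw [Sys.Z_add, add_neg_cancel, Bool.xor_self, Sys.Z_zero]

theorem Sys.tc_tc (a : P) : S.tc a * S.tc a = 1 := by
  calc (S.f a)⁻¹ * S.t * S.f a * ((S.f a)⁻¹ * S.t * S.f a) = (S.f a)⁻¹ * (S.t * S.t) * S.f a := by group
    _ = 1 := by rw [S.tt]; group

theorem Sys.f_tc (a b : P) : S.f a * S.tc b = S.tc (b * a⁻¹) * S.f a := by
  simp only [Sys.tc, map_mul, map_inv]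
  group

theorem Sys.tc_blk {a b : P} {e : ℕ × Bool} (he : e ∈ trio6) (h : Blk colT e.1 (a * b⁻¹)) :
    S.tc a = S.tc b * S.Z 0 e.2 := by
  have ht := S.tw _ e he h
  have hc : ∀ g, g * (bif e.2 then S.χ else 1) = (bif e.2 then S.χ else 1) * g := fun g => by
    cases e.2 with
    | false => simp
    | true => exact S.χ_comm g
  calc S.tc a = (S.f b)⁻¹ * ((S.f (a * b⁻¹))⁻¹ * (S.t * S.f (a * b⁻¹))) * S.f b := by
        simp only [Sys.tc, map_mul, map_inv]; group
    _ = (S.f b)⁻¹ * (S.t * (bif e.2 then S.χ else 1)) * S.f b := by rw [ht]; group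
    _ = S.tc b * S.Z 0 e.2 := by
        simp only [Sys.Z, zpow_zero, one_mul, Sys.tc, mul_assoc, hc (S.f b)]

theorem Sys.tc_of_par {u v : ℕ} {a b : P} {p : Bool} (hu : El u a) (hv : El v b) (h : trioPar u v = some p) :
    S.tc a = S.tc b * S.Z 0 p := by
  have hm := findPar_sound h
  rw [graphsLit_eq, graphs6, List.mem_map] at hm
  obtain ⟨e, he, he'⟩ := hm
  rw [Prod.mk.injEq] at he'
  rw [← he'.2]
  exact Sys.tc_blk he (Blk.of_rel hu hv he'.1.symm)

end Cfsg.Lib.J4Cert
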