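import Cfsg.Agent.J4Cert.Sys

/-!
Facts on cosets and walks through them along words in the conjugates of the involution.
-/

set_option autoImplicit false

namespace Cfsg.Lib.J4Cert

open Cfsg.Lib.J4Pres

/-- A fact: a coset, maybe moved by a conjugate of the involution, is another one moved by an element. -/
structure Fct where
  i : ℕ
  r : ℕ
  j : ℕ
  h : ℕ
  hi : ℕ
  b : ℤ
  x : Bool

/-- A table by binary digits. -/
inductive Tr (α : Type) where
  | leaf (v : α)
  | node (l r : Tr α)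

/-- The entry of a table, by the lowest digit first. -/
def Tr.get {α : Type} : Tr α → ℕ → α
  | .leaf v, _ => v
  | .node l r, i => bif Nat.beq (Nat.land i 1) 0 then l.get (Nat.shiftRight i 1) else r.get (Nat.shiftRight i 1)

/-- A state. -/
structure St where
  n : ℕ
  h : ℕ
  b : ℤ
  x : Bool

/-- One application of a fact, forwards or backwards, using a letter if the fact has one. -/
def step (T : Tr Fct) (s : St) (op : ℕ) (ls : List ℕ) : Option (St × List ℕ) :=
  let F := T.get (Nat.shiftRight op 1)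
  bif Nat.beq (Nat.land op 1) 0 then
    bif Nat.beq s.n F.i then
      bif Nat.beq F.r 0 then some (⟨F.j, pm F.h s.h, s.b + F.b, xor s.x F.x⟩, ls)
      else match ls with
        | [] => none
        | l :: ls' => match trioPar l (pm F.r s.h) with
          | none => none
          | some p => some (⟨F.j, pm F.h s.h, s.b + F.b, xor (xor s.x F.x) p⟩, ls')
    else none
  else
    bif Nat.beq s.n F.j then
      bif Nat.beq F.r 0 then some (⟨F.i, pm F.hi s.h, s.b - F.b, xor s.x F.x⟩, ls)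
      else match ls with
        | [] => none
        | l :: ls' => match trioPar l (pm (pm F.r F.hi) s.h) with
          | none => none
          | some p => some (⟨F.i, pm F.hi s.h, s.b - F.b, xor (xor s.x F.x) p⟩, ls')
    else none

/-- A walk. -/
def walk (T : Tr Fct) : St → List ℕ → List ℕ → Option (St × List ℕ)
  | s, [], ls => some (s, ls)
  | s, op :: ops, ls => match step T s op ls with
    | none => none
    | some (s', ls') => walk T s' ops ls'

attribute [local irreducible] pm rel idp ap cl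

variable {X : Type*} [Group X] (S : Sys X)

/-- The value of a fact holds. -/
def FOK (F : Fct) : Prop :=
  ∃ a : P, El F.h a ∧ El F.hi a⁻¹ ∧
    if F.r = 0 then S.Eqv (S.v F.i) (S.v F.j * S.f a * S.Z F.b F.x)
    else ∃ u : P, El F.r u ∧ S.Eqv (S.v F.i * S.tc u) (S.v F.j * S.f a * S.Z F.b F.x)

/-- A state stands for the coset of an element. -/
def At (s : St) (g : X) : Prop := ∃ a : P, El s.h a ∧ S.Eqv g (S.v s.n * S.f a * S.Z s.b s.x)

variable {S}

theorem At.move {s : St} {g L : X} {i j : ℕ} {a c : P} {b : ℤ} {x : Bool} (hs : s.n = i) (ha : El s.h a)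
    (hg : S.Eqv g (S.v s.n * S.f a * S.Z s.b s.x)) (hF : S.Eqv (S.v i * L) (S.v j * S.f c * S.Z b x)) {hp : ℕ}
    (hc : El hp c) {M : X} {p : Bool} (hM : S.f a * M = L * S.f a * S.Z 0 p) :
    At S ⟨j, pm hp s.h, s.b + b, xor (xor s.x x) p⟩ (g * M) := by
  refine ⟨c * a, hc.mul ha, ?_⟩
  subst hs
  have h1 := hg.mul_right M
  have e1 : S.v s.n * S.f a * S.Z s.b s.x * M = S.v s.n * L * (S.f a * (S.Z s.b s.x * S.Z 0 p)) := by
    rw [mul_assoc _ (S.Z s.b s.x), ← Sys.Z_comm s.b s.x M, ← mul_assoc, mul_assoc _ (S.f a), hM]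
    simp only [mul_assoc]
    rw [Sys.Z_comm s.b s.x (S.Z 0 p)]
  have e2 : S.v j * S.f c * S.Z b x * (S.f a * (S.Z s.b s.x * S.Z 0 p))
      = S.v j * S.f (c * a) * S.Z (s.b + b) (xor (xor s.x x) p) := by
    rw [map_mul, mul_assoc _ (S.Z b x), ← mul_assoc (S.Z b x), ← Sys.Z_comm b x (S.f a)]
    simp only [mul_assoc]
    rw [Sys.Z_add, Sys.Z_add, add_zero, add_comm b s.b]
    congr 4
    cases x <;> cases s.x <;> cases p <;> rfl
  rw [e1] at h1
  have h2 := hF.mul_right (S.f a * (S.Z s.b s.x * S.Z 0 p))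
  rw [e2] at h2
  exact h1.trans h2

theorem FOK.back_none {F : Fct} (hF : FOK S F) (h0 : F.r = 0) : ∃ c : P, El F.hi c ∧
    S.Eqv (S.v F.j * 1) (S.v F.i * S.f c * S.Z (-F.b) F.x) := by
  obtain ⟨a, ha, hai, h⟩ := hF
  rw [if_pos h0] at h
  refine ⟨a⁻¹, hai, ?_⟩
  have h1 := h.symm.mul_right ((S.Z F.b F.x)⁻¹ * (S.f a)⁻¹)
  rw [← mul_assoc, mul_inv_cancel_right, mul_inv_cancel_right] at h1
  rw [mul_one, map_inv, ← Sys.Z_inv]
  refine Eq.mp ?_ h1
  congr 1
  rw [← mul_assoc (S.v F.i), Sys.Z_inv, mul_assoc (S.v F.i), ← Sys.Z_comm (-F.b) F.x (S.f a)⁻¹]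
  simp only [mul_assoc]

theorem FOK.back_some {F : Fct} (hF : FOK S F) (h0 : F.r ≠ 0) : ∃ u c : P, El (pm F.r F.hi) u ∧ El F.hi c ∧
    S.Eqv (S.v F.j * S.tc u) (S.v F.i * S.f c * S.Z (-F.b) F.x) := by
  obtain ⟨a, ha, hai, h⟩ := hF
  rw [if_neg h0] at h
  obtain ⟨u, hu, h⟩ := h
  refine ⟨u * a⁻¹, a⁻¹, hu.mul hai, hai, ?_⟩
  have hz := fun g : X => Sys.Z_comm (S := S) (-F.b) F.x g
  have h1 := h.symm.mul_right ((S.f a)⁻¹ * (S.tc (u * a⁻¹) * S.Z (-F.b) F.x) * 1)
  rw [mul_one] at h1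
  have eL : S.v F.j * S.f a * S.Z F.b F.x * ((S.f a)⁻¹ * (S.tc (u * a⁻¹) * S.Z (-F.b) F.x))
      = S.v F.j * S.tc (u * a⁻¹) := by
    rw [mul_assoc _ (S.Z F.b F.x), ← Sys.Z_comm F.b F.x, mul_assoc (S.f a)⁻¹, mul_assoc (S.tc (u * a⁻¹)),
      Sys.Z_add, neg_add_cancel, Bool.xor_self, Sys.Z_zero, mul_one, ← mul_assoc, mul_inv_cancel_right]
  have eR : S.v F.i * S.tc u * ((S.f a)⁻¹ * (S.tc (u * a⁻¹) * S.Z (-F.b) F.x))
      = S.v F.i * S.f a⁻¹ * S.Z (-F.b) F.x := by
    have e : S.tc u * (S.f a)⁻¹ = (S.f a)⁻¹ * S.tc (u * a⁻¹) := by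
      simp only [Sys.tc, map_mul, map_inv]; group
    calc S.v F.i * S.tc u * ((S.f a)⁻¹ * (S.tc (u * a⁻¹) * S.Z (-F.b) F.x))
        = S.v F.i * (S.tc u * (S.f a)⁻¹) * S.tc (u * a⁻¹) * S.Z (-F.b) F.x := by simp only [mul_assoc]
      _ = S.v F.i * (S.f a)⁻¹ * (S.tc (u * a⁻¹) * S.tc (u * a⁻¹)) * S.Z (-F.b) F.x := by
          rw [e]; simp only [mul_assoc]
      _ = S.v F.i * S.f a⁻¹ * S.Z (-F.b) F.x := by rw [Sys.tc_tc, mul_one, map_inv]
  rwa [eL, eR] at h1

theorem step_sound {T : Tr Fct} {s s' : St} {op : ℕ} {ls ls' : List ℕ} (h : step T s op ls = some (s', ls'))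
    (hT : FOK S (T.get (Nat.shiftRight op 1))) {g : X} {as : List P} (hs : At S s g) (hl : List.Forall₂ El ls as) :
    ∃ as1 as2, as = as1 ++ as2 ∧ List.Forall₂ El ls' as2 ∧ At S s' (g * (as1.map S.tc).prod) := by
  obtain ⟨a, ha, hg⟩ := hs
  simp only [step] at h
  generalize T.get (Nat.shiftRight op 1) = F at h hT
  cases hd : Nat.beq (Nat.land op 1) 0
  all_goals simp only [hd, cond_true, cond_false] at h
  · cases hn : Nat.beq s.n F.j
    · simp [hn] at h
    simp only [hn, cond_true] at h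
    cases hr : Nat.beq F.r 0
    · simp only [hr, cond_false] at h
      obtain ⟨u, c, hu, hc, hE⟩ := hT.back_some (Nat.ne_of_beq_eq_false hr)
      cases hl with
      | nil => simp at h
      | @cons l la ls0 las hla hl' =>
        simp only at h
        cases hp : trioPar l (pm (pm F.r F.hi) s.h) with
        | none => simp [hp] at h
        | some p =>
          simp only [hp, Option.some.injEq, Prod.mk.injEq] at h
          obtain ⟨rfl, rfl⟩ := h
          refine ⟨[la], las, rfl, hl', ?_⟩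
          have hM : S.f a * S.tc la = S.tc u * S.f a * S.Z 0 p := by
            rw [Sys.tc_of_par hla (hu.mul ha) hp, ← mul_assoc, Sys.f_tc, mul_inv_cancel_right]
          simpa [sub_eq_add_neg] using At.move (Nat.eq_of_beq_eq_true hn) ha hg hE hc hM
    · simp only [hr, cond_true, Option.some.injEq, Prod.mk.injEq] at h
      obtain ⟨rfl, rfl⟩ := h
      obtain ⟨c, hc, hE⟩ := hT.back_none (Nat.eq_of_beq_eq_true hr)
      refine ⟨[], as, rfl, hl, ?_⟩
      simpa [sub_eq_add_neg] using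
        At.move (M := 1) (p := false) (Nat.eq_of_beq_eq_true hn) ha hg hE hc (by simp [Sys.Z_zero])
  · cases hn : Nat.beq s.n F.i
    · simp [hn] at h
    simp only [hn, cond_true] at h
    obtain ⟨c, hc, -, hE⟩ := hT
    cases hr : Nat.beq F.r 0
    · simp only [hr, cond_false] at h
      rw [if_neg (Nat.ne_of_beq_eq_false hr)] at hE
      obtain ⟨u, hu, hE⟩ := hE
      cases hl with
      | nil => simp at h
      | @cons l la ls0 las hla hl' =>
        simp only at h
        cases hp : trioPar l (pm F.r s.h) with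
        | none => simp [hp] at h
        | some p =>
          simp only [hp, Option.some.injEq, Prod.mk.injEq] at h
          obtain ⟨rfl, rfl⟩ := h
          refine ⟨[la], las, rfl, hl', ?_⟩
          have hM : S.f a * S.tc la = S.tc u * S.f a * S.Z 0 p := by
            rw [Sys.tc_of_par hla (hu.mul ha) hp, ← mul_assoc, Sys.f_tc, mul_inv_cancel_right]
          simpa using At.move (Nat.eq_of_beq_eq_true hn) ha hg hE hc hM
    · simp only [hr, cond_true, Option.some.injEq, Prod.mk.injEq] at h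
      obtain ⟨rfl, rfl⟩ := h
      rw [if_pos (Nat.eq_of_beq_eq_true hr)] at hE
      refine ⟨[], as, rfl, hl, ?_⟩
      have hE' : S.Eqv (S.v F.i * 1) (S.v F.j * S.f c * S.Z F.b F.x) := by rwa [mul_one]
      simpa using At.move (M := 1) (p := false) (Nat.eq_of_beq_eq_true hn) ha hg hE' hc (by simp [Sys.Z_zero])

theorem walk_sound {T : Tr Fct} {M : ℕ} (hT : ∀ k < M, FOK S (T.get k)) :
    ∀ (ops : List ℕ), (ops.all fun o => Nat.blt (Nat.shiftRight o 1) M) = true →
      ∀ {s s' : St} {ls ls' : List ℕ}, walk T s ops ls = some (s', ls') →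
      ∀ {g : X} {as : List P}, At S s g → List.Forall₂ El ls as →
      ∃ as1 as2, as = as1 ++ as2 ∧ List.Forall₂ El ls' as2 ∧ At S s' (g * (as1.map S.tc).prod)
  | [], _, s, s', ls, ls', h, g, as, hs, hl => by
    simp only [walk, Option.some.injEq, Prod.mk.injEq] at h
    obtain ⟨rfl, rfl⟩ := h
    exact ⟨[], as, rfl, hl, by simpa using hs⟩
  | op :: ops, hb, s, s', ls, ls', h, g, as, hs, hl => by
    simp only [List.all_cons, Bool.and_eq_true, Nat.blt_eq] at hb
    simp only [walk] at h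
    cases hst : step T s op ls with
    | none => simp [hst] at h
    | some q =>
      obtain ⟨s1, ls1⟩ := q
      simp only [hst] at h
      obtain ⟨as1, as2, rfl, hl2, hs1⟩ := step_sound hst (hT _ hb.1) hs hl
      obtain ⟨as3, as4, rfl, hl4, hs2⟩ := walk_sound hT ops hb.2 h hs1 hl2
      exact ⟨as1 ++ as3, as4, by simp, hl4, by simpa [mul_assoc] using hs2⟩

end Cfsg.Lib.J4Cert
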